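import Cfsg.Agent.H802.FusNorm
import Cfsg.Agent.S2013
import Cfsg.Agent.H940.FrattiniAut
import Cfsg.Agent.Lib.FrattiniPGroup
import Cfsg.Agent.H766.SLTwo

/-!
# Essential subgroups: basic facts and the flag lemma (helper766)
-/

set_option autoImplicit false

namespace Cfsg.Agent.H766

open Cfsg Cfsg.FusionSystem Cfsg.Agent.H802

/-- A group with a strongly `p`-embedded subgroup has no nontrivial normal `p`-subgroup. -/
theorem strongly_core {X : Type*} [Group X] [Finite X] {p : ℕ} [Fact p.Prime] {E : Subgroup X}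
    (hE : IsStronglyPEmbedded p E) (N : Subgroup X) [hNn : N.Normal] (hN : IsPGroup p N) :
    N = ⊥ := by
  obtain ⟨P, x, hPx⟩ := Cfsg.Agent.S2013.exists_sylow_disjoint hE
  have hNP : ∀ Q : Sylow p X, N ≤ Q := by
    intro Q
    obtain ⟨R, hR⟩ := hN.exists_le_sylow
    obtain ⟨g, hg⟩ := MulAction.exists_smul_eq X R Q
    intro n hn
    have h1 : g⁻¹ * n * g ∈ (R : Subgroup X) := by
      apply hR
      have := hNn.conj_mem n hn g⁻¹
      simpa using this
    rw [← hg]
    have h2 : (MulAut.conj g) (g⁻¹ * n * g) ∈ ((g • R : Sylow p X) : Subgroup X) :=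
      Subgroup.smul_mem_pointwise_smul _ (MulAut.conj g) (R : Subgroup X) h1
    have h3 : (MulAut.conj g) (g⁻¹ * n * g) = n := by
      rw [MulAut.conj_apply]
      group
    rwa [h3] at h2
  rw [eq_bot_iff, ← hPx]
  refine le_inf (hNP P) ?_
  intro n hn
  refine ⟨x⁻¹ * n * x, hNP P ?_, ?_⟩
  · have := hNn.conj_mem n hn x⁻¹
    simpa using this
  · show x * (x⁻¹ * n * x) * x⁻¹ = n
    group

variable {Ω : Type*} [Group Ω] {S : Subgroup Ω}

theorem ess_le {p : ℕ} {F : FusionSystem S} {H : Subgroup Ω} (hH : F.IsEssential p H) : H ≤ S :=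
  hH.1.1

theorem ess_centralizerIn_le {p : ℕ} {F : FusionSystem S} {H : Subgroup Ω}
    (hH : F.IsEssential p H) : centralizerIn S H ≤ H :=
  hH.1.2 H (isConj_refl F hH.1.1)

theorem ess_normalizedIn {p : ℕ} {F : FusionSystem S} {H : Subgroup Ω}
    (hH : F.IsEssential p H) : F.IsFullyNormalized H := hH.2.1

/-- `p` divides the order of `Out_F(H)`. -/
theorem ess_dvd_index {p : ℕ} {F : FusionSystem S} {H : Subgroup Ω}
    (hH : F.IsEssential p H) : p ∣ ((Inn H).subgroupOf (F.autGroup H)).index := by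
  obtain ⟨-, -, hn, E, hE⟩ := hH
  exact hE.1

/-- `O_p(Out_F(H)) = 1`. -/
theorem ess_core {p : ℕ} [Fact p.Prime] [Finite S] {F : FusionSystem S} {H : Subgroup Ω}
    (hH : F.IsEssential p H) (N : Subgroup (F.autGroup H)) [hNn : N.Normal] (hN : IsPGroup p N) :
    N ≤ (Inn H).subgroupOf (F.autGroup H) := by
  have hle := ess_le hH
  have : Finite H := finite_of_le hle
  obtain ⟨-, -, hn, E, hE⟩ := hH
  have h1 := strongly_core hE (N.map (QuotientGroup.mk' ((Inn H).subgroupOf (F.autGroup H))))
    (hNn := hNn.map _ (QuotientGroup.mk'_surjective _)) (hN.map _)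
  rw [Subgroup.map_eq_bot_iff, QuotientGroup.ker_mk'] at h1
  exact h1

/-- A normal `p`-subgroup of `Aut_F(H)` does not contain all the `p`-elements. -/
theorem ess_exists_pElement {p : ℕ} [hp : Fact p.Prime] [Finite S] {F : FusionSystem S}
    {H : Subgroup Ω} (hH : F.IsEssential p H) (N : Subgroup (F.autGroup H)) [hNn : N.Normal]
    (hN : IsPGroup p N) : ∃ (α : F.autGroup H) (k : ℕ), α ^ p ^ k = 1 ∧ α ∉ N := by
  have hle := ess_le hH
  have : Finite H := finite_of_le hle
  by_contra hcon
  push Not at hcon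
  have h1 := ess_core hH N hN
  have h2 := ess_dvd_index hH
  -- the index of `N` is prime to `p`
  have h3 : ¬ p ∣ N.index := by
    intro hdvd
    have hd : p ∣ Nat.card ((F.autGroup H) ⧸ N) := hdvd
    obtain ⟨q, hq⟩ := exists_prime_orderOf_dvd_card' p hd
    obtain ⟨g, rfl⟩ := QuotientGroup.mk_surjective q
    -- replace g by a p-element
    obtain ⟨m, k, hm, hk⟩ : ∃ m k : ℕ, ¬ p ∣ m ∧ orderOf g = p ^ k * m := by
      obtain ⟨k, m, hm, hk⟩ := Nat.exists_eq_pow_mul_and_not_dvd (orderOf_pos g).ne' p hp.out.ne_one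
      exact ⟨m, k, hm, hk⟩
    have hg1 : (g ^ m) ^ p ^ k = 1 := by
      rw [← pow_mul, mul_comm, ← hk, pow_orderOf_eq_one]
    have hg2 := hcon (g ^ m) k hg1
    have hg3 : ((g : (F.autGroup H) ⧸ N)) ^ m = 1 := by
      rw [← QuotientGroup.mk_pow]
      exact (QuotientGroup.eq_one_iff _).2 hg2
    have := orderOf_dvd_of_pow_eq_one hg3
    rw [hq] at this
    exact hm this
  exact h3 (h2.trans (Subgroup.index_dvd_of_le h1))

/-- A `p`-group acting trivially on the Frattini quotient. -/
theorem isPGroup_of_trivial_frattini {P : Type*} [Group P] [Finite P] {p : ℕ} [hp : Fact p.Prime]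
    (hP : IsPGroup p P) (A : Subgroup (MulAut P)) (hA : ∀ α ∈ A, ∀ x : P, x⁻¹ * α x ∈ frattini P) :
    IsPGroup p A := by
  obtain ⟨n, hn⟩ := IsPGroup.iff_card.1 hP
  obtain ⟨r, hr⟩ : ∃ r, (frattini P).index = p ^ r := by
    have h1 : (frattini P).index ∣ p ^ n := by rw [← hn]; exact Subgroup.index_dvd_card _
    obtain ⟨r, -, hr⟩ := (Nat.dvd_prime_pow hp.out).1 h1
    exact ⟨r, hr⟩
  have h2 := Cfsg.Agent.H940.card_trivial_on_frattini_dvd hn hr A (by
    intro α hα x
    have h3 := hA α⁻¹ (A.inv_mem hα) (α x)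
    rw [MulAut.inv_apply_self] at h3
    have h4 := (frattini P).inv_mem h3
    have h5 : ((α x)⁻¹ * x)⁻¹ = x⁻¹ * α x := by group
    have h6 := hA α hα x
    have h7 : α x * x⁻¹ = x * (x⁻¹ * α x) * x⁻¹ := by group
    rw [h7]
    exact (inferInstance : (frattini P).Normal).conj_mem _ h6 x)
  obtain ⟨m, -, hm⟩ := (Nat.dvd_prime_pow hp.out).1 h2
  exact IsPGroup.of_card hm

/-- **Flag lemma.** In an essential subgroup `H` there is no `Aut_F(H)`-invariant subgroup `K` containing
`Φ(H)` with `|H : K|` and `|K : Φ(H)|` at most `p`. -/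
theorem ess_flag {p : ℕ} [hp : Fact p.Prime] [Finite S] (hS : IsPGroup p S) {F : FusionSystem S}
    {H : Subgroup Ω} (hH : F.IsEssential p H) (K : Subgroup H)
    (hK : ∀ α ∈ F.autGroup H, ∀ x ∈ K, α x ∈ K) (hΦ : frattini H ≤ K)
    (h1 : K.index = 1 ∨ K.index = p) (h2 : (frattini H).relIndex K = 1 ∨ (frattini H).relIndex K = p) :
    False := by
  have hle := ess_le hH
  have : Finite H := finite_of_le hle
  have hHp : IsPGroup p H := hS.to_le hle
  have hΦα : ∀ (α : MulAut H), ∀ x ∈ frattini H, α x ∈ frattini H := by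
    intro α x hx
    have h3 := (Subgroup.characteristic_iff_comap_eq.1 (inferInstance : (frattini H).Characteristic)) α
    rw [← h3] at hx
    exact hx
  -- the stabilizer of the chain
  let N : Subgroup (F.autGroup H) :=
    { carrier := {α | (∀ x : H, x⁻¹ * (α : MulAut H) x ∈ K) ∧
        ∀ x ∈ K, x⁻¹ * (α : MulAut H) x ∈ frattini H}
      one_mem' := by
        refine ⟨fun x => ?_, fun x _ => ?_⟩
        · show x⁻¹ * x ∈ K
          rw [inv_mul_cancel]
          exact K.one_mem
        · show x⁻¹ * x ∈ frattini H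
          rw [inv_mul_cancel]
          exact Subgroup.one_mem _
      mul_mem' := by
        rintro a b ⟨ha1, ha2⟩ ⟨hb1, hb2⟩
        refine ⟨fun x => ?_, fun x hx => ?_⟩
        · have e : x⁻¹ * ((a * b : F.autGroup H) : MulAut H) x =
              (x⁻¹ * (b : MulAut H) x) * (((b : MulAut H) x)⁻¹ * (a : MulAut H) ((b : MulAut H) x)) := by
            show x⁻¹ * (a : MulAut H) ((b : MulAut H) x) = _
            group
          rw [e]
          exact K.mul_mem (hb1 x) (ha1 _)
        · have e : x⁻¹ * ((a * b : F.autGroup H) : MulAut H) x =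
              (x⁻¹ * (b : MulAut H) x) * (((b : MulAut H) x)⁻¹ * (a : MulAut H) ((b : MulAut H) x)) := by
            show x⁻¹ * (a : MulAut H) ((b : MulAut H) x) = _
            group
          rw [e]
          exact (frattini H).mul_mem (hb2 x hx) (ha2 _ (hK b b.2 x hx))
      inv_mem' := by
        rintro a ⟨ha1, ha2⟩
        refine ⟨fun x => ?_, fun x hx => ?_⟩
        · have e := ha1 (((a⁻¹ : F.autGroup H) : MulAut H) x)
          have e2 : (a : MulAut H) (((a⁻¹ : F.autGroup H) : MulAut H) x) = x := by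
            show (a : MulAut H) ((a : MulAut H)⁻¹ x) = x
            rw [MulAut.apply_inv_self]
          rw [e2] at e
          have e3 := K.inv_mem e
          have e4 : (((((a⁻¹ : F.autGroup H) : MulAut H) x))⁻¹ * x)⁻¹ =
            x⁻¹ * ((a⁻¹ : F.autGroup H) : MulAut H) x := by group
          rwa [e4] at e3
        · have e := ha2 (((a⁻¹ : F.autGroup H) : MulAut H) x) (hK _ (a⁻¹).2 x hx)
          have e2 : (a : MulAut H) (((a⁻¹ : F.autGroup H) : MulAut H) x) = x := by
            show (a : MulAut H) ((a : MulAut H)⁻¹ x) = x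
            rw [MulAut.apply_inv_self]
          rw [e2] at e
          have e3 := (frattini H).inv_mem e
          have e4 : (((((a⁻¹ : F.autGroup H) : MulAut H) x))⁻¹ * x)⁻¹ =
            x⁻¹ * ((a⁻¹ : F.autGroup H) : MulAut H) x := by group
          rwa [e4] at e3 }
  have hNmem : ∀ α : F.autGroup H, α ∈ N ↔ (∀ x : H, x⁻¹ * (α : MulAut H) x ∈ K) ∧
        ∀ x ∈ K, x⁻¹ * (α : MulAut H) x ∈ frattini H := fun α => Iff.rfl
  have hNn : N.Normal := by
    refine ⟨fun a ha g => ?_⟩
    rw [hNmem] at ha ⊢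
    refine ⟨fun x => ?_, fun x hx => ?_⟩
    · have e := ha.1 ((g : MulAut H)⁻¹ x)
      have e1 := hK g g.2 _ e
      rw [map_mul, map_inv, MulAut.apply_inv_self] at e1
      exact e1
    · have e := ha.2 ((g : MulAut H)⁻¹ x) (hK _ (g⁻¹).2 x hx)
      have e1 := hΦα (g : MulAut H) _ e
      rw [map_mul, map_inv, MulAut.apply_inv_self] at e1
      exact e1
  have hKn : K.Normal := by
    refine ⟨fun k hk x => ?_⟩
    have e : x * k * x⁻¹ = (x * k * x⁻¹ * k⁻¹) * k := by group
    rw [e]
    refine K.mul_mem (hΦ ?_) hk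
    apply Cfsg.Agent.Lib.FrattiniPGroup.commutator_le_frattini hHp
    exact Subgroup.commutator_mem_commutator (Subgroup.mem_top x) (Subgroup.mem_top k)
  have hNp : IsPGroup p N := by
    -- the p-th powers act trivially on the Frattini quotient
    have hΦn : (frattini H).Normal := inferInstance
    let A : Subgroup (MulAut H) :=
      { carrier := {α | ∀ x : H, x⁻¹ * α x ∈ frattini H}
        one_mem' := by
          intro x
          show x⁻¹ * x ∈ frattini H
          rw [inv_mul_cancel]
          exact Subgroup.one_mem _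
        mul_mem' := by
          intro a b ha hb x
          have e : x⁻¹ * (a * b) x = (x⁻¹ * b x) * ((b x)⁻¹ * a (b x)) := by
            rw [MulAut.mul_apply]
            group
          rw [e]
          exact Subgroup.mul_mem _ (hb x) (ha (b x))
        inv_mem' := by
          intro a ha x
          have e := ha (a⁻¹ x)
          rw [MulAut.apply_inv_self] at e
          have e3 := (frattini H).inv_mem e
          have e4 : ((a⁻¹ x)⁻¹ * x)⁻¹ = x⁻¹ * a⁻¹ x := by group
          rwa [e4] at e3 }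
    have hAp : IsPGroup p A := isPGroup_of_trivial_frattini hHp A (fun α hα => hα)
    rintro ⟨a, ha⟩
    rw [hNmem] at ha
    have hpow : ∀ (n : ℕ) (x : H), ∃ f ∈ frattini H,
        ((a : MulAut H) ^ n) x = x * (x⁻¹ * (a : MulAut H) x) ^ n * f := by
      intro n
      induction n with
      | zero => intro x; exact ⟨1, Subgroup.one_mem _, by simp⟩
      | succ n ih =>
        intro x
        obtain ⟨f, hf, hfe⟩ := ih x
        have hk : (x⁻¹ * (a : MulAut H) x) ^ n ∈ K := K.pow_mem (ha.1 x) n
        have e1 := ha.2 _ hk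
        refine ⟨((x⁻¹ * (a : MulAut H) x) ^ n)⁻¹ * (a : MulAut H) ((x⁻¹ * (a : MulAut H) x) ^ n) *
          (a : MulAut H) f, Subgroup.mul_mem _ e1 (hΦα _ f hf), ?_⟩
        rw [pow_succ', MulAut.mul_apply, hfe, map_mul, map_mul, pow_succ']
        group
    have hmem : (a : MulAut H) ^ p ∈ A := by
      intro x
      obtain ⟨f, hf, hfe⟩ := hpow p x
      rw [hfe]
      have e : x⁻¹ * (x * (x⁻¹ * (a : MulAut H) x) ^ p * f) = (x⁻¹ * (a : MulAut H) x) ^ p * f := by
        group
      rw [e]
      exact Subgroup.mul_mem _ (Cfsg.Agent.Lib.FrattiniPGroup.pow_mem_frattini hHp _) hf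
    obtain ⟨k, hk⟩ := hAp ⟨_, hmem⟩
    refine ⟨k + 1, ?_⟩
    apply Subtype.ext
    apply Subtype.ext
    have e := congrArg Subtype.val hk
    show (a : MulAut H) ^ p ^ (k + 1) = 1
    rw [pow_succ', pow_mul]
    exact e
  obtain ⟨α, k, hα, hαN⟩ := ess_exists_pElement hH N hNp
  apply hαN
  rw [hNmem]
  have hα' : (α : MulAut H) ^ p ^ k = 1 := by
    have := congrArg Subtype.val hα
    exact this
  refine ⟨fun x => ?_, ?_⟩
  · refine pAut_trivial_section (α : MulAut H) hα' (L := K) (K := ⊤) (hK _ α.2)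
      (fun _ _ => Subgroup.mem_top _) ?_ x (Subgroup.mem_top x)
    rw [Subgroup.relIndex_top_right]
    exact h1
  · exact pAut_trivial_section (α : MulAut H) hα' (L := frattini H) (K := K) (hΦα _)
      (hK _ α.2) h2

/-- In `Aut_F(H)`, `H` essential, there are two non-commuting `p`-elements. -/
theorem ess_exists_noncomm {p : ℕ} [hp : Fact p.Prime] [Finite S] {F : FusionSystem S}
    {H : Subgroup Ω} (hH : F.IsEssential p H) :
    ∃ (a b : MulAut H) (k l : ℕ), a ∈ F.autGroup H ∧ b ∈ F.autGroup H ∧ a ^ p ^ k = 1 ∧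
      b ^ p ^ l = 1 ∧ a * b ≠ b * a := by
  have hle := ess_le hH
  have : Finite H := finite_of_le hle
  by_contra hcon
  push Not at hcon
  let P : Sylow p (F.autGroup H) := default
  have hall : ∀ Q : Sylow p (F.autGroup H), (Q : Subgroup (F.autGroup H)) ≤ P := by
    intro Q
    have h1 : (Q : Subgroup (F.autGroup H)) ≤ Subgroup.normalizer ((P : Subgroup (F.autGroup H)) :
        Set (F.autGroup H)) := by
      intro q hq
      obtain ⟨l, hl⟩ := Q.2 ⟨q, hq⟩
      have hl' : (q : MulAut H) ^ p ^ l = 1 := by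
        have := congrArg Subtype.val (congrArg Subtype.val hl)
        exact this
      have hcomm : ∀ x ∈ (P : Subgroup (F.autGroup H)), q * x = x * q := by
        intro x hx
        obtain ⟨k, hk⟩ := P.2 ⟨x, hx⟩
        have hk' : (x : MulAut H) ^ p ^ k = 1 := by
          have := congrArg Subtype.val (congrArg Subtype.val hk)
          exact this
        apply Subtype.ext
        exact hcon q x l k q.2 x.2 hl' hk'
      rw [Subgroup.mem_normalizer_iff]
      intro x
      constructor
      · intro hx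
        rw [hcomm x hx, mul_inv_cancel_right]
        exact hx
      · intro hx
        have h2 := hcomm _ hx
        have h3 : q * (q * x * q⁻¹) = q * x := by
          rw [h2]
          group
        have h4 : q * x * q⁻¹ = x := mul_left_cancel h3
        have hx' : q * x * q⁻¹ ∈ (P : Subgroup (F.autGroup H)) := hx
        rwa [h4] at hx'
    have h2 := IsPGroup.inf_normalizer_sylow Q.2 P
    intro x hx
    have h3 : x ∈ (Q : Subgroup (F.autGroup H)) ⊓ P := by
      rw [← h2]
      exact ⟨hx, h1 hx⟩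
    exact h3.2
  have hPn : (P : Subgroup (F.autGroup H)).Normal := by
    refine ⟨fun x hx g => ?_⟩
    apply hall (g • P)
    exact Subgroup.smul_mem_pointwise_smul _ (MulAut.conj g) (P : Subgroup (F.autGroup H)) hx
  obtain ⟨α, k, hα, hαN⟩ := ess_exists_pElement hH (P : Subgroup (F.autGroup H)) P.2
  apply hαN
  have hz : IsPGroup p (Subgroup.zpowers α) := by
    rintro ⟨g, hg⟩
    obtain ⟨n, rfl⟩ := (mem_powers_iff_mem_zpowers (x := α)).2 hg
    refine ⟨k, ?_⟩
    apply Subtype.ext
    show (α ^ n) ^ p ^ k = 1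
    rw [← pow_mul, mul_comm, pow_mul, hα, one_pow]
  obtain ⟨Q, hQ⟩ := hz.exists_le_sylow
  exact hall Q (hQ (Subgroup.mem_zpowers α))

/-- An essential subgroup is not trivial and its Frattini quotient has order at least `p²`. -/
theorem ess_frattini_index {p : ℕ} [hp : Fact p.Prime] [Finite S] (hS : IsPGroup p S)
    {F : FusionSystem S} {H : Subgroup Ω} (hH : F.IsEssential p H) :
    (frattini H).index ≠ 1 ∧ (frattini H).index ≠ p := by
  refine ⟨fun h => ?_, fun h => ?_⟩
  · refine ess_flag hS hH ⊤ (fun _ _ _ _ => Subgroup.mem_top _) le_top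
      (Or.inl Subgroup.index_top) (Or.inl ?_)
    rw [Subgroup.relIndex_top_right]
    exact h
  · refine ess_flag hS hH ⊤ (fun _ _ _ _ => Subgroup.mem_top _) le_top
      (Or.inl Subgroup.index_top) (Or.inr ?_)
    rw [Subgroup.relIndex_top_right]
    exact h

theorem mul_comm_of_frattini_eq_bot {P : Type*} [Group P] [Finite P] {p : ℕ} [Fact p.Prime]
    (hP : IsPGroup p P) (h : frattini P = ⊥) :
    (∀ x y : P, x * y = y * x) ∧ ∀ x : P, x ^ p = 1 := by
  refine ⟨fun x y => ?_, fun x => ?_⟩
  · have h1 := Cfsg.Agent.Lib.FrattiniPGroup.commutator_le_frattini hP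
      (Subgroup.commutator_mem_commutator (Subgroup.mem_top x) (Subgroup.mem_top y))
    rw [h, Subgroup.mem_bot, commutatorElement_eq_one_iff_mul_comm] at h1
    exact h1
  · have h1 := Cfsg.Agent.Lib.FrattiniPGroup.pow_mem_frattini hP x
    rw [h, Subgroup.mem_bot] at h1
    exact h1

/-- An essential subgroup of order `p²` has trivial Frattini subgroup. -/
theorem ess_frattini_eq_bot_of_card_sq {p : ℕ} [hp : Fact p.Prime] [Finite S] (hS : IsPGroup p S)
    {F : FusionSystem S} {H : Subgroup Ω} (hH : F.IsEssential p H) (hcard : Nat.card H = p ^ 2) :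
    frattini H = ⊥ := by
  have hle := ess_le hH
  have : Finite H := finite_of_le hle
  obtain ⟨h1, h2⟩ := ess_frattini_index hS hH
  have h3 : (frattini H).index ∣ p ^ 2 := by rw [← hcard]; exact Subgroup.index_dvd_card _
  obtain ⟨r, hr, hre⟩ := (Nat.dvd_prime_pow hp.out).1 h3
  have hr2 : r = 2 := by
    interval_cases r
    · exact absurd hre (by simpa using h1)
    · exact absurd hre (by simpa using h2)
    · rfl
  rw [hr2] at hre
  have h4 := Subgroup.card_mul_index (frattini H)
  rw [hre, hcard] at h4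
  rw [← Subgroup.card_eq_one]
  have h5 : 0 < p ^ 2 := pow_pos hp.out.pos 2
  exact Nat.eq_of_mul_eq_mul_right h5 (by rw [h4, one_mul])

end Cfsg.Agent.H766
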