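import Cfsg.Agent.H802.FusNorm
import Cfsg.Agent.H802.FusCentric
import Cfsg.Agent.H991.OverS

/-!
# The `p`-elements of `Aut_F(S)` are inner (helper766)
-/

set_option autoImplicit false

namespace Cfsg.Agent.H766

open Cfsg Cfsg.FusionSystem Cfsg.Agent.H802

variable {Ω : Type*} [Group Ω] {S : Subgroup Ω}

theorem isFullyNormalized_self [Finite S] (F : FusionSystem S) : F.IsFullyNormalized S := by
  refine ⟨le_rfl, fun Q hQ => ?_⟩
  have h1 : Q = S := Subgroup.eq_of_le_of_card_ge (isConj_le_right hQ) (isConj_card_eq hQ).le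
  rw [h1]

/-- A `p`-element of `Aut_F(S)` is inner. -/
theorem mem_inn_of_pow {p : ℕ} [hp : Fact p.Prime] [Finite S] (hS : IsPGroup p S)
    {F : FusionSystem S} (hF : F.IsSaturated p) {α : MulAut S} (hα : α ∈ F.autGroup S) {k : ℕ}
    (hk : α ^ p ^ k = 1) : α ∈ Inn S := by
  set A := F.autGroup S with hA
  obtain ⟨R, hR⟩ : ∃ R : Sylow p A, (R : Subgroup A) = (autInducedBy S S).subgroupOf A :=
    (isFullyAutomized_of_isFullyNormalized hS hF (isFullyNormalized_self F)).2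
  rw [← Cfsg.Agent.H991.inn_eq_autInducedBy] at hR
  have hRn : (R : Subgroup A).Normal := by
    rw [hR]
    refine ⟨fun n hn g => ?_⟩
    rw [Subgroup.mem_subgroupOf] at hn ⊢
    obtain ⟨s, hs⟩ := hn
    refine ⟨(g : MulAut S) s, ?_⟩
    rw [Subgroup.coe_mul, Subgroup.coe_mul, Subgroup.coe_inv, ← hs]
    apply MulEquiv.ext
    intro x
    show (g : MulAut S) s * x * ((g : MulAut S) s)⁻¹ =
      (g : MulAut S) (s * ((g : MulAut S)⁻¹ x) * s⁻¹)
    rw [map_mul, map_mul, MulAut.apply_inv_self, map_inv]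
  have hz : IsPGroup p (Subgroup.zpowers (⟨α, hα⟩ : A)) := by
    rintro ⟨g, hg⟩
    obtain ⟨n, rfl⟩ := (mem_powers_iff_mem_zpowers (x := (⟨α, hα⟩ : A))).2 hg
    refine ⟨k, ?_⟩
    apply Subtype.ext
    apply Subtype.ext
    show (α ^ n) ^ p ^ k = 1
    rw [← pow_mul, mul_comm, pow_mul, hk, one_pow]
  obtain ⟨Q, hQ⟩ := hz.exists_le_sylow
  obtain ⟨g, hg⟩ := MulAction.exists_smul_eq A Q R
  have h1 : (⟨α, hα⟩ : A) ∈ (Q : Subgroup A) := hQ (Subgroup.mem_zpowers _)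
  have h2 : (MulAut.conj g) (⟨α, hα⟩ : A) ∈ ((g • Q : Sylow p A) : Subgroup A) :=
    Subgroup.smul_mem_pointwise_smul _ (MulAut.conj g) (Q : Subgroup A) h1
  rw [hg] at h2
  have h3 := hRn.conj_mem _ h2 g⁻¹
  have h4 : g⁻¹ * (MulAut.conj g) (⟨α, hα⟩ : A) * g⁻¹⁻¹ = ⟨α, hα⟩ := by
    rw [MulAut.conj_apply]
    group
  rw [h4, hR, Subgroup.mem_subgroupOf] at h3
  exact h3

/-- Two maps of `F` defined on `T ≤ S`, agreeing on an `F`-centric subgroup `Q ≤ T`, the first an automorphism in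
a subsystem over `T`: so is the second. -/
theorem mem_sub_of_agree {p : ℕ} [hp : Fact p.Prime] [Finite S] (hS : IsPGroup p S)
    {F : FusionSystem S} (hF : F.IsSaturated p) {T : Subgroup Ω} {N : FusionSystem T}
    (hN : N.IsSubsystemOf F) (hTS : T ≤ S) {Q : Subgroup Ω} (hQ : F.IsCentric Q) (hQT : Q ≤ T)
    {α β : MulAut T} (hα : α ∈ N.autGroup T) (hβ : β ∈ F.autGroup T)
    (hag : ∀ (x : Ω) (hx : x ∈ Q), α ⟨x, hQT hx⟩ = β ⟨x, hQT hx⟩) : β ∈ N.autGroup T := by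
  have hαN := (mem_autGroup_iff N le_rfl α).1 hα
  have hαF := hN T hαN
  have hβF := (mem_autGroup_iff F hTS β).1 hβ
  obtain ⟨z, hz, -, hze⟩ := exists_conj_of_agree_on_centric hS hF hQ hQT hαF hβF
    (fun x hx => congrArg Subtype.val (hag x hx))
  have hzT := hQT hz
  have h1 : β = α * MulAut.conj (⟨z, hzT⟩ : T) := by
    apply MulEquiv.ext
    intro x
    apply Subtype.ext
    have hx : z * (x : Ω) * z⁻¹ ∈ T := T.mul_mem (T.mul_mem hzT x.2) (T.inv_mem hzT)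
    exact hze x hx
  rw [h1]
  refine (N.autGroup T).mul_mem hα (autInducedBy_le_autGroup N le_rfl ?_)
  rw [mem_autInducedBy_iff]
  exact ⟨z, hzT, fun x => rfl⟩

end Cfsg.Agent.H766
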