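import Cfsg.Agent.H766.ExoOne
import Cfsg.Agent.S0280
import Cfsg.Agent.SmallSimple.PSLTwoPart
import Cfsg.Agent.LieRecognition.ReeSylowThree
import Cfsg.Agent.ChevalleyStructure.Ree.Data
import Cfsg.Agent.S1156

/-!
# S5268, exoticness: all simple groups of Lie type in defining characteristic (helper766)

* `false_of_lieTypeChar` : a simple group of Lie type of characteristic `p` does not satisfy `Pearly p N`;
* `false_of_ree` : the small Ree groups, every `p`.
-/

set_option autoImplicit false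
set_option linter.unusedSectionVars false

namespace Cfsg.Agent.H766.Exo

open Cfsg Cfsg.Agent.KFacts.RgdLieCharP Cfsg.Agent.H789.Exo

/-! ### rank one -/

theorem comm_of_equiv {G H : Type*} [Group G] [Group H] (e : G ≃* H) (hc : ∃ a b : G, a * b ≠ b * a) :
    ∃ a b : H, a * b ≠ b * a := by
  obtain ⟨a, b, hab⟩ := hc
  refine ⟨e a, e b, fun h => hab (e.injective ?_)⟩
  rw [map_mul, map_mul, h]

theorem factorization_mul_of_not_dvd {p a b c k : ℕ} (hp : p.Prime) (hb : b ≠ 0) (hbp : ¬ p ∣ b)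
    (hc : c ≠ 0) (hcp : ¬ p ∣ c) (h : c * a = p ^ k * b) : a.factorization p = k := by
  have ha : a ≠ 0 := by
    rintro rfl
    rw [mul_zero] at h
    exact (mul_ne_zero (pow_ne_zero _ hp.ne_zero) hb) h.symm
  have h1 : (c * a).factorization p = (p ^ k * b).factorization p := by rw [h]
  rw [Nat.factorization_mul hc ha, Nat.factorization_mul (pow_ne_zero _ hp.ne_zero) hb, Finsupp.add_apply,
    Finsupp.add_apply, Nat.factorization_eq_zero_of_not_dvd hcp, Nat.factorization_eq_zero_of_not_dvd hbp,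
    Nat.factorization_pow_self hp] at h1
  omega

theorem false_PSL_two {p N : ℕ} {F : Type*} [Field F] [Fintype F] [CharP F p]
    [IsSimpleGroup (Matrix.ProjectiveSpecialLinearGroup (Fin 2) F)]
    (hc : ∃ a b : Matrix.ProjectiveSpecialLinearGroup (Fin 2) F, a * b ≠ b * a)
    (H : Pearly p N (Matrix.ProjectiveSpecialLinearGroup (Fin 2) F)) : False := by
  have hp : Fact p.Prime := ⟨H.prime⟩
  have hp3 := H.odd
  have h5 := H.five
  have : Finite (Matrix.ProjectiveSpecialLinearGroup (Fin 2) F) := Quotient.finite _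
  obtain ⟨f, hf, hF⟩ := FiniteField.card F p
  have hodd : Odd p := H.prime.odd_of_ne_two (by omega)
  have hq : Odd (Fintype.card F) := by rw [hF]; exact hodd.pow
  have hcard := SmallSimple.PSLTwoPart.card_psl_two_odd hq
  have hq2 : 1 < Fintype.card F := Fintype.one_lt_card
  have hN : N = f := by
    rw [← H.val]
    refine factorization_mul_of_not_dvd (b := Fintype.card F ^ 2 - 1) (c := 2) H.prime ?_ ?_ (by norm_num) ?_ ?_
    · have : 1 < Fintype.card F ^ 2 := Nat.one_lt_pow two_ne_zero hq2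
      omega
    · intro h1
      have h2 : p ∣ Fintype.card F ^ 2 := by
        rw [hF, ← pow_mul]
        exact dvd_pow_self p (by positivity)
      have h3 : 1 ≤ Fintype.card F ^ 2 := Nat.one_le_pow _ _ (by omega)
      have h4 := (Nat.dvd_sub_iff_right h3 h2).1 h1
      exact H.prime.one_lt.ne' (Nat.dvd_one.1 h4)
    · intro h1
      have := Nat.le_of_dvd (by norm_num) h1
      omega
    · rw [hcard, ← hF]
  have h1 := Has1.card_le hc has1_PSL H
  rw [hN, ← hF] at h1
  set q := Fintype.card F with hqd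
  have h2 : q * (q ^ 2 - 1) ≤ 2 * ((p - 1) * (q * (q + 1))) := by
    rw [← hcard]
    exact Nat.mul_le_mul_left 2 h1
  have h3 : q ^ 2 - 1 = (q - 1) * (q + 1) := by
    have := Nat.sq_sub_sq q 1
    rw [one_pow] at this
    rw [this, mul_comm]
  rw [h3, show q * ((q - 1) * (q + 1)) = (q - 1) * (q * (q + 1)) by ring,
    show 2 * ((p - 1) * (q * (q + 1))) = (2 * (p - 1)) * (q * (q + 1)) by ring] at h2
  have h4 := Nat.le_of_mul_le_mul_right h2 (by positivity)
  have h6 : p ^ 2 ≤ q := by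
    rw [hF]
    exact Nat.pow_le_pow_right H.prime.pos (by omega)
  have h7 : 3 * p ≤ p ^ 2 := by rw [pow_two]; exact Nat.mul_le_mul_right _ hp3
  omega

theorem false_PSU_three {p N q : ℕ} {F : Type*} [Field F] [Fintype F] [CharP F p] (hF : Fintype.card F = q ^ 2)
    [IsSimpleGroup (PSU 3 F q)] (hc : ∃ a b : PSU 3 F q, a * b ≠ b * a) (H : Pearly p N (PSU 3 F q)) : False := by
  have hp : Fact p.Prime := ⟨H.prime⟩
  have hp3 := H.odd
  have h5 := H.five
  have : Finite (PSU 3 F q) := Quotient.finite _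
  obtain ⟨f, hf, hFf⟩ := FiniteField.card F p
  have hcard := Cfsg.Agent.S0280.result hF 3 (by norm_num)
  obtain ⟨k, -, hk⟩ := (Nat.dvd_prime_pow H.prime).1 (show q ∣ p ^ (f : ℕ) by
    rw [← hFf, hF]; exact dvd_pow_self q two_ne_zero)
  have hk0 : k ≠ 0 := by
    rintro rfl
    rw [pow_zero] at hk
    have : 1 < Fintype.card F := Fintype.one_lt_card
    rw [hF, hk] at this
    omega
  have hpq : p ≤ q := by
    rw [hk]
    exact Nat.le_self_pow hk0 p
  have hpdq : p ∣ q := by rw [hk]; exact dvd_pow_self p hk0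
  have e1 : ∏ i ∈ Finset.range 3, (if Even i then q ^ (i + 1) + 1 else q ^ (i + 1) - 1) =
      (q + 1) * (q ^ 2 - 1) * (q ^ 3 + 1) := by
    rw [Finset.prod_range_succ, Finset.prod_range_succ, Finset.prod_range_one]
    norm_num [Nat.even_iff]
  rw [e1] at hcard
  norm_num at hcard
  have hnd : ∀ m : ℕ, ∀ j, j ≠ 0 → m = q ^ j + 1 ∨ m + 1 = q ^ j → ¬ p ∣ m := by
    intro m j hj hm hdvd
    have h1 : p ∣ q ^ j := hpdq.trans (dvd_pow_self q hj)
    have h2 : p ∣ 1 := by
      rcases hm with hm | hm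
      · rw [hm] at hdvd
        exact (Nat.dvd_add_right h1).1 hdvd
      · rw [← hm] at h1
        exact (Nat.dvd_add_right hdvd).1 h1
    exact H.prime.one_lt.ne' (Nat.dvd_one.1 h2)
  have hq2 : 2 < q ^ 2 := by nlinarith
  have hN : N = 3 * k := by
    rw [← H.val]
    refine factorization_mul_of_not_dvd (b := (q + 1) * (q ^ 2 - 1) * (q ^ 3 + 1)) (c := Nat.gcd 3 (q + 1) * (q + 1))
      H.prime ?_ ?_ ?_ ?_ ?_
    · have : q ^ 2 - 1 ≠ 0 := by omega
      positivity
    · rw [H.prime.dvd_mul, H.prime.dvd_mul]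
      rintro ((h1 | h1) | h1)
      · exact hnd _ 1 one_ne_zero (Or.inl (by rw [pow_one])) h1
      · exact hnd _ 2 two_ne_zero (Or.inr (by omega)) h1
      · exact hnd _ 3 three_ne_zero (Or.inl rfl) h1
    · have := Nat.gcd_pos_of_pos_left (q + 1) (show 0 < 3 by norm_num)
      positivity
    · rw [H.prime.dvd_mul]
      rintro (h1 | h1)
      · exact hnd _ 1 one_ne_zero (Or.inl (by rw [pow_one])) (h1.trans (Nat.gcd_dvd_right _ _))
      · exact hnd _ 1 one_ne_zero (Or.inl (by rw [pow_one])) h1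
    · rw [mul_assoc, hcard, hk, ← pow_mul, mul_comm k 3]
  have h1 := Has1.card_le hc (has1_PSU hF) H
  have h2 : p ^ N = q ^ 3 := by rw [hN, hk, ← pow_mul, mul_comm k 3]
  rw [h2] at h1
  have hg : Nat.gcd 3 (q + 1) ≤ 3 := Nat.gcd_le_left _ (by norm_num)
  have h3 : q ^ 3 * ((q + 1) * (q ^ 2 - 1) * (q ^ 3 + 1)) ≤
      3 * ((q + 1) * ((p - 1) * (q ^ 3 * (q ^ 3 + 1)))) := by
    rw [← hcard]
    exact Nat.mul_le_mul hg (Nat.mul_le_mul_left _ h1)
  rw [show q ^ 3 * ((q + 1) * (q ^ 2 - 1) * (q ^ 3 + 1)) = (q ^ 2 - 1) * ((q + 1) * (q ^ 3 * (q ^ 3 + 1))) by ring,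
    show 3 * ((q + 1) * ((p - 1) * (q ^ 3 * (q ^ 3 + 1)))) = (3 * (p - 1)) * ((q + 1) * (q ^ 3 * (q ^ 3 + 1))) by ring]
    at h3
  have hq0 : 0 < q := by omega
  have h4 := Nat.le_of_mul_le_mul_right h3 (by positivity)
  have h6 : 3 * q ≤ q ^ 2 := by rw [pow_two]; exact Nat.mul_le_mul_right _ (by omega)
  omega

/-! ### the small Ree groups -/

section Ree

open Cfsg.Agent.LieRecognition.ReeSylowThree Cfsg.Agent.LieRecognition.ReeAbs

theorem false_of_data {K : Type*} [Field K] [Fintype K] {G : Type*} [Group G] {m : ℕ} {U : K → K → K → G}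
    {h : Kˣ → G} {n : G} (hK : Fintype.card K = 3 ^ (2 * m + 1)) (hm : 1 ≤ m)
    (D : LieRecognition.ReeAbs.Data m U h n) {N : ℕ} (H : Pearly 3 N G) : False := by
  have h3 : Fact (Nat.Prime 3) := ⟨Nat.prime_three⟩
  have hq : 27 ≤ Fintype.card K := by
    rw [hK]
    calc 27 = 3 ^ 3 := by norm_num
      _ ≤ _ := Nat.pow_le_pow_right (by norm_num) (by omega)
  have hc := card_uSub D
  have hfin : Finite G := LieRecognition.ReeSylowThree.finite D
  have hRp : IsPGroup 3 (uSub D) := by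
    rw [IsPGroup.iff_card]
    exact ⟨3 * (2 * m + 1), by rw [hc, hK, ← pow_mul, mul_comm]⟩
  -- a generator of the torus
  obtain ⟨a, ha⟩ := IsCyclic.exists_generator (α := Kˣ)
  have hoa : orderOf a = Fintype.card K - 1 := by
    rw [orderOf_eq_card_of_forall_mem_zpowers ha, Nat.card_units, Nat.card_eq_fintype_card]
  have hpow : ∀ (b : Kˣ) (j : ℕ), h b ^ j = h (b ^ j) := by
    have h1 : h 1 = 1 := by
      have := D.h_mul 1 1
      rw [one_mul] at this
      exact mul_eq_left.1 this.symm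
    intro b j
    induction j with
    | zero => rw [pow_zero, pow_zero, h1]
    | succ j ih => rw [pow_succ, ih, pow_succ, D.h_mul]
  have hinv : ∀ b, (h b)⁻¹ = h b⁻¹ := by
    intro b
    rw [inv_eq_iff_mul_eq_one, ← D.h_mul, mul_inv_cancel]
    have := D.h_mul 1 1
    rw [one_mul] at this
    exact mul_eq_left.1 this.symm
  have hnorm : h a ∈ Subgroup.normalizer (uSub D : Set G) := by
    rw [Subgroup.mem_normalizer_iff]
    intro x
    refine ⟨fun hx => h_conj_mem D a hx, fun hx => ?_⟩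
    have h1 := h_conj_mem D a⁻¹ hx
    rw [← hinv] at h1
    have e : (h a)⁻¹ * (h a * x * (h a)⁻¹) * ((h a)⁻¹)⁻¹ = x := by group
    rwa [e] at h1
  obtain ⟨k, hk⟩ := H.exists_pow hRp (by
    rw [hc]
    calc 3 ^ 3 ≤ 27 ^ 3 := by norm_num
      _ ≤ _ := Nat.pow_le_pow_left hq 3) hnorm
  rw [hpow, Subgroup.mem_centralizer_iff] at hk
  set b := a ^ ((3 - 1) * 3 ^ k) with hb
  have h1 := hk (U 1 0 0) ⟨1, 0, 0, rfl⟩
  have h2 : U ((b : K) ^ (3 ^ (m + 1))) 0 0 = U 1 0 0 := by
    have h4 := D.h_U b 1 0 0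
    rw [mul_one, mul_zero, mul_zero, ← h1] at h4
    exact (mul_right_cancel h4).symm
  have h4 := (U_injective D h2).1
  have h6 : b ^ 3 ^ (m + 1) = 1 := Units.ext (by rw [Units.val_pow_eq_pow_val, h4, Units.val_one])
  rw [hb, ← pow_mul] at h6
  have h7 := orderOf_dvd_of_pow_eq_one h6
  rw [hoa] at h7
  have h8 : Nat.Coprime (Fintype.card K - 1) 3 := by
    have h9 : 3 ∣ Fintype.card K := by rw [hK]; exact dvd_pow_self 3 (by omega)
    rw [Nat.coprime_comm, Nat.Prime.coprime_iff_not_dvd Nat.prime_three]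
    intro h10
    have := (Nat.dvd_sub_iff_right (by omega) h9).1 h10
    omega
  have h9 : (Fintype.card K - 1) ∣ 2 * (3 ^ k * 3 ^ (m + 1)) := by
    rw [show 2 * (3 ^ k * 3 ^ (m + 1)) = (3 - 1) * 3 ^ k * 3 ^ (m + 1) by ring]
    exact h7
  have h10 : Nat.Coprime (Fintype.card K - 1) (3 ^ k * 3 ^ (m + 1)) := by
    rw [← pow_add]
    exact Nat.Coprime.pow_right _ h8
  have h11 := Nat.le_of_dvd (by norm_num) (h10.dvd_of_dvd_mul_right h9)
  omega

/-- the small Ree groups -/
theorem false_of_ree {G : Type*} [Group G] (hG : Lie.IsoRee G) {p N : ℕ} (H : Pearly p N G) : False := by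
  obtain ⟨K, _, _, m, hm, hK, ⟨e⟩⟩ := hG
  have H' := H.congr e
  obtain ⟨U, h, n, D⟩ := Cfsg.Agent.ChevalleyStructure.Ree.Data.exists_data hK
  have hp3 := H.odd
  by_cases h3 : p = 3
  · subst h3
    exact false_of_data hK hm D H'
  · have hp : Fact p.Prime := ⟨H.prime⟩
    have hfin : Finite ↥(Cfsg.Lie.twistedG2 K (3 ^ m)) := LieRecognition.ReeSylowThree.finite D
    have P : Sylow p ↥(Cfsg.Lie.twistedG2 K (3 ^ m)) := default
    have hcyc := Cfsg.Agent.S1156.result hm hK (p := p) (by omega) P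
    refine H'.false_of_comm P fun x hx y hy => ?_
    obtain ⟨g, hg⟩ := hcyc
    obtain ⟨i, hi⟩ := hg ⟨x, hx⟩
    obtain ⟨j, hj⟩ := hg ⟨y, hy⟩
    have h1 : (⟨x, hx⟩ : P) * ⟨y, hy⟩ = ⟨y, hy⟩ * ⟨x, hx⟩ := by
      rw [← hi, ← hj]
      exact (Commute.refl g).zpow_zpow i j
    exact congrArg Subtype.val h1

end Ree

/-! ### all families -/

theorem false_of_lieTypeChar {G : Type*} [Group G] [Finite G] [IsSimpleGroup G] {p N : ℕ}
    (hc : ∃ a b : G, a * b ≠ b * a) (H : Pearly p N G) (hG : IsLieTypeChar p G) : False := by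
  have hp : Fact p.Prime := ⟨H.prime⟩
  have hp3 := H.odd
  rcases hG with h | h | h | h | h | h | h | h | ⟨h, -⟩ | ⟨h, -⟩ | ⟨-, h⟩
  · obtain ⟨F, _, _, _, n, hn, -, ⟨e⟩⟩ := h
    have : Finite (Matrix.ProjectiveSpecialLinearGroup (Fin n) F) := Quotient.finite _
    rcases eq_or_lt_of_le hn with rfl | hn
    · have : IsSimpleGroup (Matrix.ProjectiveSpecialLinearGroup (Fin 2) F) :=
        IsSimpleGroup.isSimpleGroup_of_surjective e.toMonoidHom e.surjective
      exact false_PSL_two (comm_of_equiv e hc) (H.congr e)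
    · obtain ⟨n, rfl⟩ : ∃ k, n = k + 1 := ⟨n - 1, by omega⟩
      exact ((has2_PSL n (by omega)).of_equiv e.symm).false hc H
  · obtain ⟨F, _, _, _, m, hm, -, ⟨e⟩⟩ := h
    have : Finite (PSp m F) := Quotient.finite _
    exact ((has2_PSp hm).of_equiv e.symm).false hc H
  · obtain ⟨F, _, _, _, n, q, hF, hn, -, ⟨e⟩⟩ := h
    have : Finite (PSU n F q) := Quotient.finite _
    rcases eq_or_lt_of_le hn with rfl | hn
    · have : Nontrivial (PSU 3 F q) := e.symm.toEquiv.nontrivial
      have : IsSimpleGroup (PSU 3 F q) :=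
        IsSimpleGroup.isSimpleGroup_of_surjective e.toMonoidHom e.surjective
      exact false_PSU_three hF (comm_of_equiv e hc) (H.congr e)
    · exact ((has2_PSU hF hn).of_equiv e.symm).false hc H
  · obtain ⟨F, _, _, _, m, hm, hodd, ⟨e⟩⟩ := h
    have h2 : (2 : F) ≠ 0 := by
      intro h2
      have h3 : CharP F 2 := CharTwo.of_one_ne_zero_of_two_eq_zero one_ne_zero h2
      have := CharP.eq F ‹CharP F p› h3
      omega
    have : Finite (Cfsg.POmega F (Cfsg.quadFormOdd m F)) := Quotient.finite _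
    exact ((has2_PO_odd h2 (by omega)).of_equiv e.symm).false hc H
  · obtain ⟨F, _, _, _, m, hm, ⟨e⟩⟩ := h
    obtain ⟨n, rfl⟩ : ∃ n, m = n + 3 := ⟨m - 3, by omega⟩
    have : Finite (Cfsg.POmega F (Cfsg.quadFormPlus (n + 3) F)) := Quotient.finite _
    exact ((has2_PO_plus n).of_equiv e.symm).false hc H
  · obtain ⟨F, _, _, _, m, a, b, hm, hab, ⟨e⟩⟩ := h
    have h2 : (2 : F) ≠ 0 := by
      intro h2
      have h3 : CharP F 2 := CharTwo.of_one_ne_zero_of_two_eq_zero one_ne_zero h2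
      have := CharP.eq F ‹CharP F p› h3
      omega
    have : Finite (Cfsg.POmega F (Cfsg.quadFormMinus m F a b)) := Quotient.finite _
    exact ((has2_PO_minus h2 a b hab (by omega)).of_equiv e.symm).false hc H
  · exact (has2_of_exceptional h).false hc H
  · exact (has2_of_twisted h).false hc H
  · omega
  · omega
  · exact false_of_ree h H

/-- **The row EXO-DEF.** -/
theorem row_defining {p N : ℕ} {G : Type*} [Group G] [Finite G] [IsSimpleGroup G] (H : Pearly p N G)
    (hG : IsLieTypeChar p G) : False := by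
  by_cases hc : ∃ a b : G, a * b ≠ b * a
  · exact false_of_lieTypeChar hc H hG
  · push Not at hc
    exact H.false_of_comm (default : Sylow p G) fun x _ y _ => hc x y

end Cfsg.Agent.H766.Exo
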