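import Cfsg.Agent.H766.ExoRgd
import Cfsg.Agent.KFacts.RgdLieCharP

/-!
# S5268, exoticness: the simple groups of Lie type of rank at least two in defining characteristic (helper766)

* `Has2 p G` : `G` has a root group datum of characteristic `p` of rank at least two;
* `Has2.false` : a simple group with `Has2 p G` does not satisfy `Pearly p N`;
* `has2_*` : the families.
-/

set_option autoImplicit false
set_option linter.unusedSectionVars false

namespace Cfsg.Agent.H766.Exo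

open Cfsg Cfsg.Agent.ChevalleyStructure.CoxeterGeom Cfsg.Agent.Tits.Roots Cfsg.Agent.Nodes.Reps
  Cfsg.Agent.Nodes.BNOf Cfsg.Agent.Nodes.Bruhat Cfsg.Agent.Nodes.OppDec Cfsg.Agent.Nodes.LeviDec
  Cfsg.Agent.KFacts.RgdLieCharP Cfsg.Agent.KFacts.RgdFilt Cfsg.Agent.H789.Exo

variable {p : ℕ}

/-- `G` has a root group datum of characteristic `p` and of rank at least two -/
def Has2 (p : ℕ) (G : Type*) [Group G] : Prop :=
  ∃ (l : ℕ) (M : CoxeterMatrix (Fin l)) (A : Fin l → Fin l → ℤ) (h : IsCartan M A) (T : Subgroup G) (n : Fin l → G)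
    (X : (Fin l → ℤ) → Subgroup G) (_ : RGD M.toCoxeterSystem h p T n X),
    Finite M.Group ∧ Nodes.RGDLib.G1 M.toCoxeterSystem h X = ⊤ ∧ 2 ≤ l

theorem Has2.of_equiv {G H : Type*} [Group G] [Group H] [Finite G] (e : G ≃* H) (hG : Has2 p G) :
    Has2 p H := by
  obtain ⟨l, M, A, h, T, n, X, R, hW, hX, hl⟩ := hG
  refine ⟨l, M, A, h, T.map e.toMonoidHom, fun i => e (n i), fun x => (X x).map e.toMonoidHom,
    Nodes.RGDLib.rgd_map_of_injective R e.toMonoidHom e.injective, hW, ?_, hl⟩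
  have h1 : (Nodes.RGDLib.G1 M.toCoxeterSystem h X).map e.toMonoidHom =
      Nodes.RGDLib.G1 M.toCoxeterSystem h (fun x => (X x).map e.toMonoidHom) := by
    unfold Nodes.RGDLib.G1 RGD.Sup
    rw [Subgroup.map_iSup]
  rw [← h1, hX, Subgroup.map_top_of_surjective _ e.surjective]

theorem Has2.false {G : Type*} [Group G] [Finite G] [IsSimpleGroup G] {N : ℕ} (hc : ∃ a b : G, a * b ≠ b * a)
    (hG : Has2 p G) (H : Pearly p N G) : False := by
  obtain ⟨l, M, A, h, T, n, X, R, hW, hX, hl⟩ := hG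
  have hconn := conn_of_simple R hX (center_eq_bot hc)
  have h0 : (0 : ℕ) < l := by omega
  have h1 : (1 : ℕ) < l := by omega
  obtain ⟨a, ha, b, hb, hab⟩ := hconn {(⟨0, h0⟩ : Fin l)} (Set.singleton_nonempty _) (by
    intro e
    have h2 : (⟨1, h1⟩ : Fin l) ∈ ({(⟨0, h0⟩ : Fin l)} : Set (Fin l)) := by rw [e]; trivial
    have h3 := congrArg Fin.val (Set.mem_singleton_iff.1 h2)
    exact absurd h3 one_ne_zero)
  have hne : a ≠ b := by
    rintro rfl
    exact hb ha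
  exact false_of_rgd R (GG_eq_top hX) H hne hab

/-! ### classical groups -/

section TypeC

open Cfsg.Agent.Nodes.TypeC Cfsg.Agent.Nodes.Comb Cfsg.Agent.Nodes.WittRoot
open Cfsg.Agent.Nodes.RGDLib Cfsg.Agent.Nodes.WittAll
open Cfsg.Agent.TitsThree Cfsg.Agent.TitsThree.Siegel Cfsg.Agent.TitsThree.WittFrame
  Cfsg.Agent.TitsThree.WittWeyl Cfsg.Agent.TitsThree.FrameCN

variable {F : Type*} [Field F] {V : Type*} [AddCommGroup V] [Module F V] {H : HForm F V} {n : ℕ}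
  {Fr : Frame H (Fin n)} {K : Type*} [Group K] (M : Model Fr K)

theorem has2_C (hA : AmbT Fr p M.I) [Finite V] [Fact p.Prime] [CharP F p] {p0 : Fr.Adm} (hp0 : p0.c ≠ 0)
    (hn : 2 ≤ n) : Has2 p K :=
  ⟨n, CoxeterMatrix.B n, A n, isCartan n, _, _, _, rgdC_model M hA hp0 _,
    finite_W (CoxeterMatrix.B n).toCoxeterSystem, Nodes.WittModel.G1_eq_top _ (by omega) _, hn⟩

end TypeC

theorem has2_PSL {F : Type*} [Field F] [Finite F] (n : ℕ) (hn : 2 ≤ n) [Fact p.Prime] [CharP F p] :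
    Has2 p (Matrix.ProjectiveSpecialLinearGroup (Fin (n + 1)) F) := by
  have hW : Finite (Cfsg.Agent.LieRecognition.BNCox.cA n).Group :=
    Nodes.RootsA.finite_W (Cfsg.Agent.LieRecognition.BNCox.cA n).toCoxeterSystem (Nodes.RootsA.isCartan n)
  exact ⟨n, Cfsg.Agent.LieRecognition.BNCox.cA n, _, Nodes.RootsA.isCartan n, _, _, _, Nodes.RGDTypeA.rgd_psl _ _, hW,
    Nodes.RGDTypeA.G1_psl_eq_top _ _, hn⟩

section USp

open Cfsg.Agent.Nodes.WittU Cfsg.Agent.Nodes.WittInst Cfsg.Agent.Nodes.WittAll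
open Cfsg.Agent.TitsThree Cfsg.Agent.TitsThree.Siegel Cfsg.Agent.TitsThree.WittFrame
  Cfsg.Agent.TitsThree.WittWeyl Cfsg.Agent.TitsThree.FrameCN

theorem has2_PSU {F : Type*} [Field F] [Fintype F] {q N : ℕ} (hF : Fintype.card F = q ^ 2) (hN : 4 ≤ N)
    [Fact p.Prime] [CharP F p] : Has2 p (PSU N F q) := by
  obtain ⟨m, hm⟩ : ∃ m, N = 2 * m ∨ N = 2 * m + 1 := ⟨N / 2, by omega⟩
  obtain ⟨W, -⟩ := exists_wframe hF hm
  obtain ⟨p0, hp0, -⟩ := exists_adm hF W
  exact has2_C (KInstU.model hF (by omega) W) (AmbT.of_amb (amb_U hF W) p) hp0 (by omega)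

theorem has2_PSp {F : Type*} [Field F] [Finite F] {m : ℕ} (hm : 2 ≤ m)
    [Fact p.Prime] [CharP F p] : Has2 p (PSp m F) :=
  has2_C (KInstSp.model m F) (AmbT.of_amb amb_Sp p) (p0 := SpIdent.adm 1) one_ne_zero hm

end USp

section Orthogonal

open QuadraticMap
open Cfsg.Agent.Nodes.WittInst Cfsg.Agent.Nodes.WittAll
open Cfsg.Agent.Nodes.RGDLib
open Cfsg.Agent.TitsThree Cfsg.Agent.TitsThree.Siegel Cfsg.Agent.TitsThree.WittFrame
  Cfsg.Agent.TitsThree.WittWeyl Cfsg.Agent.TitsThree.FrameCN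
open Cfsg.Agent.LieClassical Cfsg.Agent.LieClassical.OrthCore Cfsg.Agent.LieClassical.OrthTrans
open Cfsg.Agent.LieClassical.OrthSimple Cfsg.Agent.LieClassical.OrthFinite
open Cfsg.Agent.LieClassical.OrthForms
open Cfsg.Agent.TitsThree.WBridge Cfsg.Agent.TitsThree.KSideO Cfsg.Agent.TitsThree.StdData

variable {F : Type*} [Field F] {m : ℕ}

theorem has2_PO_odd [Finite F] (h2 : (2 : F) ≠ 0) (hm : 2 ≤ m) [Fact p.Prime] [CharP F p] :
    Has2 p (Cfsg.POmega F (Cfsg.quadFormOdd m F)) := by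
  rw [← coe_oddForm]
  have hG : Good (oddForm m F) := by
    apply good_of_finite (nondeg_oddForm m F h2)
    rw [Module.finrank_fintype_fun_eq_card, Fintype.card_sum, Fintype.card_sum, Fintype.card_fin,
      Fintype.card_unit]
    omega
  have hp : ((embOdd m F).ngt ⟨1, -1 ^ 2, rfl⟩).c ≠ 0 := by
    change (1 : F)⁻¹ * (-1 ^ 2) ≠ 0
    simp
  exact has2_C (model (wodd m F) hG ⟨_, hp⟩) (AmbT.of_amb (amb_O_of_two _ h2) p) hp (by omega)

theorem has2_PO_minus [Finite F] (h2 : (2 : F) ≠ 0) (a b : F)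
    (hab : ∀ z₁ z₂ : F, z₁ ^ 2 + a * z₁ * z₂ + b * z₂ ^ 2 = 0 → z₁ = 0 ∧ z₂ = 0)
    (hm : 3 ≤ m) [Fact p.Prime] [CharP F p] :
    Has2 p (Cfsg.POmega F (Cfsg.quadFormMinus m F a b)) := by
  rw [← coe_minusForm]
  have hG : Good (minusForm m F a b) := by
    apply good_of_finite (nondeg_minusForm m F a b hab)
    rw [Module.finrank_fintype_fun_eq_card, Fintype.card_sum, Fintype.card_sum, Fintype.card_fin,
      Fintype.card_fin]
    omega
  have hp : ((embMinus m F a b hab).ngt ⟨(1, 0), -nf a b (1, 0), rfl⟩).c ≠ 0 := by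
    change (1 : F)⁻¹ * (-nf a b (1, 0)) ≠ 0
    simp [nf]
  exact has2_C (model (wminus m F a b hab) hG ⟨_, hp⟩) (AmbT.of_amb (amb_O_of_two _ h2) p) hp (by omega)

theorem has2_PO_plus [Finite F] (n : ℕ) [Fact p.Prime] [CharP F p] :
    Has2 p (Cfsg.POmega F (Cfsg.quadFormPlus (n + 3) F)) := by
  rw [← coe_plusForm]
  have hG : Good (plusForm (n + 3) F) := by
    apply good_of_finite (nondeg_plusForm (n + 3) F)
    rw [Module.finrank_fintype_fun_eq_card, Fintype.card_sum, Fintype.card_fin]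
    omega
  exact ⟨_, _, _, _, _, _, _, rgdD_model (wplus (n + 3) F) hG (amb_plus _) (adm_plus _) _,
    Nodes.TypeD.finite_W (Nodes.TypeD.M (n + 1)).toCoxeterSystem,
    G1D_eq_top (wplus (n + 3) F) (toPOmega hG) (toPOmega_surjective hG) (adm_plus _) _, by omega⟩

end Orthogonal

/-! ### exceptional groups -/

section Chev

open Cfsg.Lie Cfsg.Agent.ChevalleyStructure Cfsg.Agent.ChevalleyStructure.Elts
  Cfsg.Agent.ChevalleyStructure.RootVec Cfsg.Agent.ChevalleyStructure.RootVecTab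
  Cfsg.Agent.ChevalleyStructure.NPerm Cfsg.Agent.ChevalleyStructure.CoxeterGeomTypes
open Cfsg.Agent.Nodes Cfsg.Agent.Nodes.RGDChev

universe u

theorem has2_group {D : ChevalleyDatum} {l : ℕ} {M : CoxeterMatrix (Fin l)} (hp : IsType D l M) (hl : 2 ≤ l)
    (K : Type u) [Field K] [Finite K] [CharP K p] : Has2 p ↥(D.group K) := by
  have : Fact p.Prime := ⟨CharP.char_is_prime K p⟩
  exact ⟨l, M, cartanOf D l, hp.isCartan, _, _, _, rgd (K := K) hp M.toCoxeterSystem p,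
    finite_W hp M.toCoxeterSystem, G1_eq_top hp _, hl⟩

theorem has2_of_exceptional {G : Type*} [Group G] (hG : IsExceptionalChevChar p G) : Has2 p G := by
  obtain ⟨F, _, _, _, ⟨-, ⟨e⟩⟩ | ⟨⟨e⟩⟩ | ⟨⟨e⟩⟩ | ⟨⟨e⟩⟩ | ⟨⟨e⟩⟩⟩ := hG
  · exact (has2_group (l := 2) (M := CoxeterMatrix.G₂) (by simp [IsType, typeList]) (by norm_num) F).of_equiv e.symm
  · exact (has2_group (l := 4) (M := CoxeterMatrix.F₄) (by simp [IsType, typeList]) (by norm_num) F).of_equiv e.symm
  · exact (has2_group (l := 6) (M := CoxeterMatrix.E₆) (by simp [IsType, typeList]) (by norm_num) F).of_equiv e.symm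
  · exact (has2_group (l := 7) (M := CoxeterMatrix.E₇) (by simp [IsType, typeList]) (by norm_num) F).of_equiv e.symm
  · exact (has2_group (l := 8) (M := CoxeterMatrix.E₈) (by simp [IsType, typeList]) (by norm_num) F).of_equiv e.symm

end Chev

section Tw

open Cfsg.Lie Cfsg.Agent.ChevalleyStructure Cfsg.Agent.ChevalleyStructure.Elts
  Cfsg.Agent.ChevalleyStructure.RootVec Cfsg.Agent.ChevalleyStructure.RootVecTab
open Cfsg.Agent.Nodes Cfsg.Agent.Nodes.RGDTwGen Cfsg.Agent.Nodes.RGDFold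

universe u

variable {D : ChevalleyDatum} {l : ℕ} {M' : CoxeterMatrix (Fin l)} {hp : RGDChev.IsType D l M'} {K : Type u} [Field K]
variable {m : ℕ} {M : CoxeterMatrix (Fin m)} {A : Fin m → Fin m → ℤ}
  {J : Fin m → List (Fin l)} {L : List (List ℕ)} {σ : GL D.Idx K →* GL D.Idx K} {ρ ρ' : ℕ → ℕ}
    {f : ℕ → K → K} {G : Subgroup (GL D.Idx K)} (FD : FoldData D M A J L)
    (FG : FoldGrp hp K J L σ ρ ρ' f G)

include FD FG

theorem has2_fold [Finite K] [CharP K p] (h : IsCartan M A) (hm : 2 ≤ m) : Has2 p ↥G := by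
  have : Fact p.Prime := ⟨CharP.char_is_prime K p⟩
  exact ⟨m, M, A, h, _, _, _, rgd M.toCoxeterSystem h FD FG p, finite_W (hp := hp) M.toCoxeterSystem h FD,
    G1_eq_top M.toCoxeterSystem h FD FG p, hm⟩

end Tw

section Tw2

open Cfsg.Lie Cfsg.Agent.ChevalleyStructure Cfsg.Agent.Nodes

theorem has2_of_twisted {G : Type*} [Group G] (hG : IsTwistedE6D4Char p G) : Has2 p G := by
  obtain ⟨K, _, _, _, q, hq, ⟨hK, ⟨e⟩⟩ | ⟨hK, ⟨e⟩⟩⟩ := hG
  · obtain ⟨φ, hφ, hqq⟩ := TwE6Basic.exists_frob hq hK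
    exact (has2_fold RGDTwE6.foldData (RGDTwE6.foldGrp hφ hqq) RGDTwE6.isCartan (by norm_num)).of_equiv e.symm
  · obtain ⟨φ, hφ⟩ := D4Fixed.exists_frob hq hK
    exact (has2_fold RGDTwD4.foldData (RGDTwD4.foldGrp hφ (D4Fixed.twisted_le_fix hK hφ)) RGDTwD4.isCartan
      (by norm_num)).of_equiv e.symm

end Tw2

end Cfsg.Agent.H766.Exo
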