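import Cfsg.Agent.H766.ExoLie

/-!
# S5268, exoticness: the simple groups of Lie type of rank one in defining characteristic (helper766)

* `Has1.card_le` : `|G| ≤ (p - 1) p^N (p^N + 1)` under `Pearly p N G`.
-/

set_option autoImplicit false
set_option linter.unusedSectionVars false

namespace Cfsg.Agent.H766.Exo

open CoxeterSystem Cfsg Cfsg.Agent.ChevalleyStructure.CoxeterGeom Cfsg.Agent.Tits.Roots Cfsg.Agent.Nodes.Reps
  Cfsg.Agent.Nodes.BNOf Cfsg.Agent.Nodes.BNOf.RGD Cfsg.Agent.Nodes.Bruhat Cfsg.Agent.Nodes.OppDec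
  Cfsg.Agent.Nodes.LeviDec
  Cfsg.Agent.KFacts.RgdLieCharP Cfsg.Agent.KFacts.RgdFilt Cfsg.Agent.KFacts.RgdCharP Cfsg.Agent.H789.Exo

section

variable {I W Y : Type*} [Fintype I] [DecidableEq I] [Group W] [Group Y] {M : CoxeterMatrix I}
  {cs : CoxeterSystem M W} {A : I → I → ℤ} {h : IsCartan M A} {p : ℕ} {T : Subgroup Y} {n : I → Y}
  {X : (I → ℤ) → Subgroup Y} [Finite W]

/-- the torus acts faithfully on `U`, so it is small -/
theorem card_T_le [Finite Y] (R : RGD cs h p T n X) (hG : GG cs h T X = ⊤) (hN : KFacts.RgdCent.NoCent cs h T X)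
    (hconn : Conn M) [Nonempty I] {N : ℕ} (H : Pearly p N Y) : Nat.card T ≤ p - 1 := by
  have hp : Fact p.Prime := ⟨H.prime⟩
  have hidx : ¬ p ∣ (Sup X (Pos cs h)).index := by
    have := KFacts.RgdSyl.not_dvd_relIndex R
    rwa [hG, Subgroup.relIndex_top_right] at this
  let U : Sylow p Y := R.isPGroup_Upos.toSylow hidx
  have hU : Nat.card (Sup X (Pos cs h)) = p ^ N := by
    have h4 := U.card_eq_multiplicity
    rw [H.val] at h4
    exact h4
  obtain ⟨φ, hφ⟩ := H.aut (Sup X (Pos cs h)) R.isPGroup_Upos (by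
    rw [hU]
    exact Nat.pow_le_pow_right H.prime.pos (by have := H.five; omega))
  have hT : T ≤ Subgroup.normalizer (Sup X (Pos cs h) : Set Y) := R.T_le_normalizer_U
  have hcent : Subgroup.centralizer (Sup X (Pos cs h) : Set Y) ≤ Sup X (Pos cs h) := by
    have h1 := KFacts.RgdVJ.cent_VJ_le R hN hconn (J := ∅) (by
      intro e
      have h2 : Classical.arbitrary I ∈ (∅ : Set I) := by rw [e]; trivial
      exact h2)
    have h2 : VJ cs h X ∅ = Sup X (Pos cs h) := by
      unfold VJ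
      congr 1
      ext z
      constructor
      · intro hz
        exact ⟨hz.1, hz.2.1⟩
      · intro hz
        refine ⟨hz.1, hz.2, ?_⟩
        by_contra hcon
        push Not at hcon
        apply hz.1.ne_zero
        funext k
        exact le_antisymm (hcon k (Set.notMem_empty k)) (hz.2 k)
    rw [h2, hG, inf_top_eq] at h1
    exact h1
  let f : T →* (ZMod p)ˣ := φ.comp (Subgroup.inclusion hT)
  have hf : Function.Injective f := by
    rw [injective_iff_map_eq_one]
    intro t ht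
    obtain ⟨k, hk⟩ := (hφ _).1 ht
    change (t : Y) ^ p ^ k ∈ _ at hk
    have h1 : (t : Y) ^ p ^ k ∈ Sup X (Pos cs h) ⊓ T := ⟨hcent hk, pow_mem t.2 _⟩
    rw [U_inf_T R, Subgroup.mem_bot] at h1
    apply Subtype.ext
    refine coprime_of_pow_eq_one (p := p) ?_ h1
    have h2 : orderOf (t : Y) ∣ Nat.card T := by
      rw [Subgroup.orderOf_coe]
      exact orderOf_dvd_natCard t
    exact Nat.Coprime.coprime_dvd_left h2 R.tcop
  calc Nat.card T ≤ Nat.card (ZMod p)ˣ := Nat.card_le_card_of_injective f hf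
    _ = p - 1 := by rw [Nat.card_eq_fintype_card, ZMod.card_units]

theorem eq_one_or (i : I) (hI : ∀ j, j = i) (w : W) : w = 1 ∨ w = cs.simple i := by
  induction w using cs.simple_induction_left with
  | one => exact Or.inl rfl
  | mul_simple_left w j ih =>
    rw [hI j]
    rcases ih with rfl | rfl
    · right; rw [mul_one]
    · left; exact cs.simple_mul_simple_self i

/-- **Rank one.** -/
theorem card_le_of_rgd [Finite Y] (R : RGD cs h p T n X) (hG : GG cs h T X = ⊤)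
    (hN : KFacts.RgdCent.NoCent cs h T X) (hconn : Conn M) (i : I) (hI : ∀ j, j = i) {N : ℕ} (H : Pearly p N Y) :
    Nat.card Y ≤ (p - 1) * (p ^ N * (p ^ N + 1)) := by
  have hp : Fact p.Prime := ⟨H.prime⟩
  have : Nonempty I := ⟨i⟩
  have hT := card_T_le R hG hN hconn H
  have hidx : ¬ p ∣ (Sup X (Pos cs h)).index := by
    have := KFacts.RgdSyl.not_dvd_relIndex R
    rwa [hG, Subgroup.relIndex_top_right] at this
  let U : Sylow p Y := R.isPGroup_Upos.toSylow hidx
  have hU : Nat.card (Sup X (Pos cs h)) = p ^ N := by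
    have h4 := U.card_eq_multiplicity
    rw [H.val] at h4
    exact h4
  let F : T × Sup X (Pos cs h) × Option (Sup X (Pos cs h)) → Y := fun z =>
    match z.2.2 with
    | none => (z.1 : Y) * z.2.1
    | some v => (z.1 : Y) * z.2.1 * n i * v
  have hF : Function.Surjective F := by
    intro y
    have hy : y ∈ GG cs h T X := by rw [hG]; trivial
    obtain ⟨w, hw⟩ := (mem_GG R).1 hy
    rcases eq_one_or (cs := cs) i hI w with rfl | rfl
    · obtain ⟨t, ht, u, hu, e⟩ := R.mem_B.1 hw.mem_of_one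
      exact ⟨(⟨t, ht⟩, ⟨u, hu⟩, none), e.symm⟩
    · obtain ⟨b₁, hb₁, k, hk, b₂, hb₂, e⟩ := hw
      have h1 : (n i)⁻¹ * k ∈ T := (rp_simple cs R.nsys i).unique hk
      obtain ⟨t, ht, u, hu, e2⟩ := R.mem_B.1 (mul_mem (T_le_B h1) hb₂)
      have h2 : n i * t * (n i)⁻¹ ∈ T := (Subgroup.mem_normalizer_iff.1 (R.nsys.norm i) t).1 ht
      obtain ⟨s, hs, v, hv, e3⟩ := R.mem_B.1 (mul_mem hb₁ (T_le_B h2))
      refine ⟨(⟨s, hs⟩, ⟨v, hv⟩, some ⟨u, hu⟩), ?_⟩
      change s * v * n i * u = y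
      rw [← e3, e]
      have e4 : b₂ = ((n i)⁻¹ * k)⁻¹ * (t * u) := by rw [← e2]; group
      rw [e4]
      group
  have h1 := Nat.card_le_card_of_surjective F hF
  rw [Nat.card_prod, Nat.card_prod, hU] at h1
  have h2 : Nat.card (Option (Sup X (Pos cs h))) = p ^ N + 1 := by
    rw [Finite.card_option, hU]
  rw [h2] at h1
  exact h1.trans (Nat.mul_le_mul_right _ hT)

end

/-- `G` has a root group datum of characteristic `p` and of rank one -/
def Has1 (p : ℕ) (G : Type*) [Group G] : Prop :=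
  ∃ (M : CoxeterMatrix (Fin 1)) (A : Fin 1 → Fin 1 → ℤ) (h : IsCartan M A) (T : Subgroup G) (n : Fin 1 → G)
    (X : (Fin 1 → ℤ) → Subgroup G) (_ : RGD M.toCoxeterSystem h p T n X),
    Finite M.Group ∧ Nodes.RGDLib.G1 M.toCoxeterSystem h X = ⊤

theorem Has1.card_le {p : ℕ} {G : Type*} [Group G] [Finite G] [IsSimpleGroup G] {N : ℕ}
    (hc : ∃ a b : G, a * b ≠ b * a) (hG : Has1 p G) (H : Pearly p N G) :
    Nat.card G ≤ (p - 1) * (p ^ N * (p ^ N + 1)) := by
  obtain ⟨M, A, h, T, n, X, R, hW, hX⟩ := hG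
  have hc' := center_eq_bot hc
  exact card_le_of_rgd R (GG_eq_top hX) (noCent_of_center hX hc') (conn_of_simple R hX hc') 0
    (fun j => Subsingleton.elim _ _) H

theorem has1_PSL {p : ℕ} {F : Type*} [Field F] [Finite F] [Fact p.Prime] [CharP F p] :
    Has1 p (Matrix.ProjectiveSpecialLinearGroup (Fin 2) F) := by
  have hW : Finite (Cfsg.Agent.LieRecognition.BNCox.cA 1).Group :=
    Nodes.RootsA.finite_W (Cfsg.Agent.LieRecognition.BNCox.cA 1).toCoxeterSystem (Nodes.RootsA.isCartan 1)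
  exact ⟨Cfsg.Agent.LieRecognition.BNCox.cA 1, _, Nodes.RootsA.isCartan 1, _, _, _, Nodes.RGDTypeA.rgd_psl _ _, hW,
    Nodes.RGDTypeA.G1_psl_eq_top _ _⟩

section USp

open Cfsg.Agent.Nodes.WittU Cfsg.Agent.Nodes.WittInst Cfsg.Agent.Nodes.WittAll
open Cfsg.Agent.TitsThree Cfsg.Agent.TitsThree.Siegel Cfsg.Agent.TitsThree.WittFrame
  Cfsg.Agent.TitsThree.WittWeyl Cfsg.Agent.TitsThree.FrameCN
open Cfsg.Agent.Nodes.TypeC Cfsg.Agent.Nodes.Comb Cfsg.Agent.Nodes.WittRoot
open Cfsg.Agent.Nodes.RGDLib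

theorem has1_PSU {p : ℕ} {F : Type*} [Field F] [Fintype F] {q : ℕ} (hF : Fintype.card F = q ^ 2)
    [Fact p.Prime] [CharP F p] : Has1 p (PSU 3 F q) := by
  have hm : 3 = 2 * 1 ∨ 3 = 2 * 1 + 1 := Or.inr rfl
  obtain ⟨W, -⟩ := exists_wframe hF hm
  obtain ⟨p0, hp0, -⟩ := exists_adm hF W
  have hA := AmbT.of_amb (amb_U hF W) p
  let M := KInstU.model hF (by norm_num) W
  exact ⟨CoxeterMatrix.B 1, A 1, isCartan 1, _, _, _, rgdC_model M hA hp0 _,
    finite_W (CoxeterMatrix.B 1).toCoxeterSystem, Nodes.WittModel.G1_eq_top _ one_pos _⟩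

end USp

end Cfsg.Agent.H766.Exo
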