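import Cfsg.Agent.H789.Exo.Defs
import Cfsg.Agent.H573.DefChar

/-!
# S5268, exoticness: groups of Lie type of rank at least two in defining characteristic (helper766)

`false_of_rgd` : a finite group with a root group datum of characteristic `p` with two adjacent nodes does not satisfy
`H789.Exo.Pearly p N`: in `P_i = N(V_i)` the element `t n_i ∈ ⟨X_i, X_{-i}⟩` acts nontrivially on `V_i`.
-/

set_option autoImplicit false
set_option linter.unusedSectionVars false

namespace Cfsg.Agent.H766.Exo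

open CoxeterSystem Cfsg.Agent.ChevalleyStructure.CoxeterGeom Cfsg.Agent.Tits.Roots Cfsg.Agent.Tits.Core
  Cfsg.Agent.Tits.Exchange Cfsg.Agent.Nodes.Reps Cfsg.Agent.Nodes.BNOf Cfsg.Agent.Nodes.BNOf.RGD
  Cfsg.Agent.Nodes.StabComb
  Cfsg.Agent.Nodes.Bruhat Cfsg.Agent.Nodes.OppDec Cfsg.Agent.Nodes.LeviDec Cfsg.Agent.Nodes.NormalForm
  Cfsg.Agent.Schreier.BNSch Cfsg.Agent.H789.Exo

variable {I W Y : Type*} [Fintype I] [DecidableEq I] [Group W] [Group Y] {M : CoxeterMatrix I}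
  {cs : CoxeterSystem M W} {A : I → I → ℤ} {h : IsCartan M A} {p : ℕ} {T : Subgroup Y} {n : I → Y}
  {X : (I → ℤ) → Subgroup Y} [Finite W]

/-- a simple reflection moves an adjacent simple root -/
theorem rep_ne {k l : I} (hkl : k ≠ l) (h2 : M k l ≠ 2) : rep cs h (cs.simple k) (sr l) ≠ sr l := by
  intro he
  have h3 := congrFun he k
  rw [rep_simple_apply_self, sr_ne hkl, zero_sub, neg_eq_zero] at h3
  have h4 : pairing A k (sr l) = A k l := by
    rw [sr, pairing_single, mul_one]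
  rw [h4] at h3
  have h5 := cartan_neg h hkl h2
  omega

/-- `V_k` is small -/
theorem card_V_lt [Finite Y] (R : RGD cs h p T n X) {N : ℕ} (H : Pearly p N Y) {k l : I} (hkl : k ≠ l)
    (h2 : M k l ≠ 2) : Nat.card (Sup X (PosNe cs h k)) < p ^ 3 := by
  have hp : Fact p.Prime := ⟨H.prime⟩
  by_contra hcon
  push Not at hcon
  have hVp : IsPGroup p (Sup X (PosNe cs h k)) := R.isPGroup_of_pos fun z hz => ⟨hz.1, hz.2.1⟩
  obtain ⟨φ, hφ⟩ := H.aut _ hVp hcon
  -- elements of `p`-power order are in the kernel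
  have hker : ∀ g : Subgroup.normalizer (Sup X (PosNe cs h k) : Set Y), (∃ m : ℕ, ((g : Y)) ^ p ^ m = 1) → φ g = 1 := by
    rintro g ⟨m, hm⟩
    refine (hφ g).2 ⟨m, ?_⟩
    rw [hm]
    exact one_mem _
  -- `X_{-k}`
  have hn : n k ∈ Subgroup.normalizer (Sup X (PosNe cs h k) : Set Y) := by
    rw [Subgroup.mem_normalizer_iff]
    intro x
    constructor
    · intro hx
      rw [← R.cj_n_V k]
      exact conj_mem_cj.2 hx
    · intro hx
      rw [← R.cj_n_V k] at hx
      exact conj_mem_cj.1 hx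
  have hX := R.X_le_normalizer_V k
  have hXneg : ∀ u ∈ X (-sr k), ∃ v ∈ X (sr k), u = n k * v * (n k)⁻¹ := by
    intro u hu
    have h3 := R.conj_mem' (rp_simple cs R.nsys k) (isRoot_sr cs h k).neg hu
    rw [inv_simple, map_neg, rep_simple_sr, neg_neg] at h3
    exact ⟨_, h3, by group⟩
  obtain ⟨v, hv, hv1⟩ := exists_ne_one R k
  have hu : n k * v * (n k)⁻¹ ∈ X (-sr k) := by
    have h3 := R.conj_mem (rp_simple cs R.nsys k) (isRoot_sr cs h k) hv
    rwa [rep_simple_sr] at h3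
  have hu1 : n k * v * (n k)⁻¹ ≠ 1 := by
    intro h3
    rw [mul_inv_eq_one, mul_eq_left] at h3
    exact hv1 h3
  obtain ⟨a, ha, t, ht, b, hb, e⟩ := R.rk1 k _ hu hu1
  have hpow : ∀ a ∈ X (sr k), ∃ m : ℕ, a ^ p ^ m = 1 := by
    intro a ha
    obtain ⟨m, hm⟩ := R.pgrp k ⟨a, ha⟩
    exact ⟨m, congrArg Subtype.val hm⟩
  -- the element `g = t n_k`
  have hT : T ≤ Subgroup.normalizer (Sup X (PosNe cs h k) : Set Y) := T_le_normalizer R fun x hx => hx.1
  have hg : t * n k ∈ Subgroup.normalizer (Sup X (PosNe cs h k) : Set Y) := mul_mem (hT ht) hn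
  have hg1 : φ ⟨t * n k, hg⟩ = 1 := by
    have e1 : (⟨t * n k, hg⟩ : Subgroup.normalizer (Sup X (PosNe cs h k) : Set Y)) =
        (⟨a, hX ha⟩)⁻¹ * ⟨n k * v * (n k)⁻¹, mul_mem (mul_mem hn (hX hv)) (inv_mem hn)⟩ * (⟨b, hX hb⟩)⁻¹ := by
      apply Subtype.ext
      change t * n k = a⁻¹ * (n k * v * (n k)⁻¹) * b⁻¹
      rw [e]
      group
    have e2 : φ ⟨n k * v * (n k)⁻¹, mul_mem (mul_mem hn (hX hv)) (inv_mem hn)⟩ = 1 := by
      apply hker
      obtain ⟨m, hm⟩ := hpow v hv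
      refine ⟨m, ?_⟩
      change (n k * v * (n k)⁻¹) ^ p ^ m = 1
      rw [conj_pow, hm, mul_one, mul_inv_cancel]
    have e3 : φ ⟨a, hX ha⟩ = 1 := hker ⟨a, hX ha⟩ (hpow a ha)
    have e4 : φ ⟨b, hX hb⟩ = 1 := hker ⟨b, hX hb⟩ (hpow b hb)
    rw [e1, map_mul, map_mul, map_inv, map_inv, e2, e3, e4, inv_one, one_mul, mul_one]
  obtain ⟨m, hm⟩ := (hφ _).1 hg1
  change (t * n k) ^ p ^ m ∈ _ at hm
  -- an odd power of `t n_k` lies in `T n_k`
  have hodd : Odd (p ^ m) := (H.prime.odd_of_ne_two (by have := H.odd; omega)).pow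
  obtain ⟨r, hr⟩ := hodd
  have hsq : t * n k * (t * n k) ∈ T := by
    have e2 : t * n k * (t * n k) = t * (n k * t * (n k)⁻¹) * (n k * n k) := by group
    rw [e2]
    refine mul_mem (mul_mem ht ?_) (R.sq_mem_T k)
    exact (Subgroup.mem_normalizer_iff.1 (R.nsys.norm k) t).1 ht
  have h3 : (t * n k) ^ p ^ m = ((t * n k * (t * n k)) ^ r * t) * n k := by
    rw [hr, pow_succ, pow_mul, pow_two]
    group
  rw [h3] at hm
  set t' := (t * n k * (t * n k)) ^ r * t with ht'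
  have ht'T : t' ∈ T := mul_mem (pow_mem hsq r) ht
  -- it moves `X_l`
  have h4 : cj (t' * n k) (X (sr l)) = X (rep cs h (cs.simple k) (sr l)) := by
    rw [cj_mul, R.conj_rp (rp_simple cs R.nsys k) (isRoot_sr cs h l), R.tor _ ((isRoot_sr cs h l).act _) _ ht'T]
  have hlV : X (sr l) ≤ Sup X (PosNe cs h k) := le_Sup (S := PosNe cs h k)
    ⟨isRoot_sr cs h l, sr_nonneg l, fun e => by
      have h5 := congrFun e l
      rw [sr_self, sr_ne hkl.symm] at h5
      exact absurd h5 (by decide)⟩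
  have h5 : cj (t' * n k) (X (sr l)) = X (sr l) := by
    ext x
    rw [mem_cj]
    rw [Subgroup.mem_centralizer_iff] at hm
    constructor
    · intro hx
      have h6 := hm _ (hlV hx)
      have h7 : x = (t' * n k)⁻¹ * x * (t' * n k) := by
        calc x = (t' * n k) * ((t' * n k)⁻¹ * x * (t' * n k)) * (t' * n k)⁻¹ := by group
          _ = ((t' * n k)⁻¹ * x * (t' * n k)) * (t' * n k) * (t' * n k)⁻¹ := by rw [← h6]
          _ = _ := by group
      rw [h7]
      exact hx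
    · intro hx
      have h6 := hm _ (hlV hx)
      have h7 : (t' * n k)⁻¹ * x * (t' * n k) = x := by
        rw [mul_assoc, h6, inv_mul_cancel_left]
      rw [h7]
      exact hx
  have h6 := X_inf_X R (isRoot_sr cs h l) ((isRoot_sr cs h l).act (cs.simple k)) (rep_ne hkl h2).symm
  rw [← h4, h5, inf_idem] at h6
  exact X_ne_bot R (isRoot_sr cs h l) h6

/-- **Rank at least two.** -/
theorem false_of_rgd [Finite Y] (R : RGD cs h p T n X) (hG : GG cs h T X = ⊤) {N : ℕ} (H : Pearly p N Y) {i j : I}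
    (hij : i ≠ j) (h2 : M i j ≠ 2) : False := by
  have hp : Fact p.Prime := ⟨H.prime⟩
  have h1 := card_V_lt R H hij h2
  have h3 := card_V_lt R H hij.symm (by rwa [M.symmetric])
  have hidx : ¬ p ∣ (Sup X (Pos cs h)).index := by
    have := KFacts.RgdSyl.not_dvd_relIndex R
    rwa [hG, Subgroup.relIndex_top_right] at this
  let U : Sylow p Y := R.isPGroup_Upos.toSylow hidx
  have hU : Nat.card (Sup X (Pos cs h)) = p ^ N := by
    have h4 := U.card_eq_multiplicity
    rw [H.val] at h4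
    exact h4
  -- orders
  have hle : Nat.card (Sup X (Pos cs h)) ≤ Nat.card (X (sr i)) * Nat.card (Sup X (PosNe cs h i)) := by
    rw [R.Upos_eq i, ← Nat.card_prod]
    refine Nat.card_le_card_of_surjective (fun z : X (sr i) × Sup X (PosNe cs h i) =>
      (⟨(z.1 : Y) * z.2, mul_mem (le_sup_left (a := X (sr i)) z.1.2) (le_sup_right (b := Sup X (PosNe cs h i)) z.2.2)⟩ :
        (X (sr i) ⊔ Sup X (PosNe cs h i) : Subgroup Y))) ?_
    rintro ⟨g, hg⟩
    have hg' : g ∈ ((X (sr i) ⊔ Sup X (PosNe cs h i) : Subgroup Y) : Set Y) := hg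
    rw [Subgroup.coe_mul_of_left_le_normalizer_right _ _ (R.X_le_normalizer_V i)] at hg'
    obtain ⟨a, ha, b, hb, rfl⟩ := hg'
    exact ⟨(⟨a, ha⟩, ⟨b, hb⟩), rfl⟩
  have hXj : Nat.card (X (sr i)) ≤ Nat.card (Sup X (PosNe cs h j)) := by
    refine Subgroup.card_le_of_le (le_Sup (S := PosNe cs h j) ⟨isRoot_sr cs h i, sr_nonneg i, fun e => ?_⟩)
    have h5 := congrFun e i
    rw [sr_self, sr_ne hij] at h5
    exact absurd h5 (by decide)
  have hVp : ∀ k, ∃ m, Nat.card (Sup X (PosNe cs h k)) = p ^ m := fun k =>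
    IsPGroup.iff_card.1 (R.isPGroup_of_pos fun z hz => ⟨hz.1, hz.2.1⟩)
  obtain ⟨a, ha⟩ := hVp i
  obtain ⟨b, hb⟩ := hVp j
  rw [ha] at h1
  rw [hb] at h3
  have ha2 := (Nat.pow_lt_pow_iff_right H.prime.one_lt).1 h1
  have hb2 := (Nat.pow_lt_pow_iff_right H.prime.one_lt).1 h3
  have h6 : p ^ N ≤ p ^ (a + b) := by
    rw [← hU]
    refine hle.trans ?_
    rw [ha, add_comm, pow_add, ← hb]
    exact Nat.mul_le_mul_right _ hXj
  have h7 := (Nat.pow_le_pow_iff_right H.prime.one_lt).1 h6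
  have := H.five
  omega

end Cfsg.Agent.H766.Exo
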