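import Cfsg.Agent.H766.PearlRank
import Cfsg.Agent.H766.Five

/-!
# The fusion system on the group of order `7⁵`, I (helper766)
-/

set_option autoImplicit false

namespace Cfsg.Agent.H766

open Cfsg Cfsg.FusionSystem Cfsg.Agent.H802
open Cfsg.Agent.H467.MaxClass
open Matrix (SpecialLinearGroup)
open Cfsg.Agent.ClassicalGeometry.SplitTorus (up lo dg dg_conj_up)
open scoped commutatorElement

variable {Ω : Type*} [Group Ω] {S : Subgroup Ω}

/-- The situation: `|S| = 7⁵`, sectional rank at most `3`, an abelian pearl. -/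
structure Setup [Fact (Nat.Prime 7)] [Finite S] (F : FusionSystem S) (E : Subgroup Ω) (x y : E)
    (e : (E ⧸ frattini E) ≃* Multiplicative (Fin 2 → ZMod 7)) : Prop where
  hS : IsPGroup 7 S
  hF : F.IsSaturated 7
  hE : IsPearl F 7 E
  hcard : Nat.card S = 7 ^ 5
  hE2 : Nat.card E = 7 ^ 2
  hr : Cfsg.SectionalPRankLE 7 3 S
  hfr : Frame F 7 E x y e

namespace Setup

variable [Fact (Nat.Prime 7)] [Finite S] {F : FusionSystem S} {E : Subgroup Ω} {x y : E}
    {e : (E ⧸ frattini E) ≃* Multiplicative (Fin 2 → ZMod 7)}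

theorem hES (s : Setup F E x y e) : E ≤ S := ess_le s.hE.ess

theorem mc (s : Setup F E x y e) : MC S 7 5 (chain S) := pearl_mc s.hE (by norm_num) s.hcard

theorem hcl (s : Setup F E x y e) : Group.nilpotencyClass S = 5 - 1 := pearl_maxClass s.hE s.hcard

theorem frat (s : Setup F E x y e) : frattini E = ⊥ := ess_frattini_eq_bot_of_card_sq s.hS s.hE.ess s.hE2

theorem pos (s : Setup F E x y e) :
    Subgroup.inclusion s.hES x ∈ chain S 4 ∧ Subgroup.inclusion s.hES x ∉ chain S 5 ∧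
      Subgroup.inclusion s.hES y ∉ chain S 1 ∧ Subgroup.inclusion s.hES y ∉ s.mc.Ksub (5 - 2) := by
  obtain ⟨m, hm, -, hx, hx', hy1, hyK⟩ := pearl_position s.hS s.hE (by norm_num) s.hcard s.hfr
  have hm4 : m = 4 := by
    rcases hm with ⟨-, h⟩ | ⟨h, -⟩
    · exact h
    · rw [s.hE2] at h
      norm_num at h
  subst hm4
  exact ⟨hx, hx', hy1, hyK⟩

theorem sigma (s : Setup F E x y e) (t : (ZMod 7)ˣ) :
    ∃ σ ∈ F.autGroup S, ∃ δ ∈ F.autGroup E,
      (∀ v : E, σ (Subgroup.inclusion s.hES v) = Subgroup.inclusion s.hES (δ v)) ∧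
      barHom E δ = MulAut.congr e.symm (planeAct 7 (dg t)) ∧
      (∃ z ∈ chain S 4, σ (Subgroup.inclusion s.hES y) =
        Subgroup.inclusion s.hES y ^ ((t⁻¹ : (ZMod 7)ˣ) : ZMod 7).val * z) := by
  obtain ⟨hx, hx', hy1, hyK⟩ := s.pos
  obtain ⟨σ, h1, δ, h2, h3, h4, h5, -⟩ := pearl_sigma s.hS s.hF s.hE (by norm_num) s.hcard s.hfr
    (m := 4) (by norm_num) (fun v hv => by
      rw [s.frat, Subgroup.mem_bot] at hv
      rw [hv, map_one]
      exact one_mem _) hx hx' (Or.inr s.frat) t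
  exact ⟨σ, h1, δ, h2, h3, h4, h5⟩

theorem torus (s : Setup F E x y e) : TorusAct s.mc (Subgroup.inclusion s.hES y) := by
  obtain ⟨hx, hx', hy1, hyK⟩ := s.pos
  refine ⟨hy1, hyK, fun t => ?_⟩
  obtain ⟨σ, -, -, -, -, -, ⟨z, hz, hσ⟩⟩ := s.sigma t⁻¹
  rw [inv_inv] at hσ
  exact ⟨σ, z, hz, hσ⟩

theorem hne (s : Setup F E x y e) : ∃ a ∈ chain S 1, ∃ b ∈ chain S 2, ⁅a, b⁆ ∉ chain S 5 :=
  s.torus.exists_comm s.hcl le_rfl (by norm_num) (by norm_num) s.hr

theorem weights (s : Setup F E x y e) {τ : MulAut S} {d : ZMod 7} (hd : Wt (chain S) τ 0 d) :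
    d ≠ 0 ∧ ∀ i, i ≤ 3 → Wt (chain S) τ (i + 1) (d ^ (i + 2)) :=
  five_weights s.mc (by norm_num) s.hne hd

/-- Elements of `Aut_F(S)` acting trivially on `S / W 1` are inner. -/
theorem mem_inn (s : Setup F E x y e) {τ : MulAut S} (hτ : τ ∈ F.autGroup S)
    (h0 : Wt (chain S) τ 0 (1 : ZMod 7)) : τ ∈ Inn S := by
  have h1 := (s.weights h0).2 0 (by norm_num)
  rw [one_pow] at h1
  obtain ⟨k, hk⟩ := pow_eq_one_of_weights s.mc h0 h1
  exact mem_inn_of_pow s.hS s.hF hτ hk

theorem wt_y (s : Setup F E x y e) {τ : MulAut S} {d : ZMod 7} {z : S} (hz : z ∈ chain S 1)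
    (h : τ (Subgroup.inclusion s.hES y) = Subgroup.inclusion s.hES y ^ d.val * z) :
    Wt (chain S) τ 0 d := by
  obtain ⟨hx, hx', hy1, hyK⟩ := s.pos
  refine wt_of_gen s.mc (chain_map_mem τ) (by norm_num) (by rw [chain_zero]; trivial) hy1
    (k := (d.val : ℤ)) ?_ ?_
  · push_cast
    rw [ZMod.natCast_zmod_val]
  · rw [zpow_natCast, h, inv_mul_cancel_left]
    exact hz

/-- `Aut_F(E)` acts faithfully on `E / Φ(E) = E`. -/
theorem bar_injective (s : Setup F E x y e) : Function.Injective (barHom E) := by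
  rw [injective_iff_map_eq_one]
  intro α hα
  rw [barHom_eq_one_iff] at hα
  apply MulEquiv.ext
  intro v
  have h1 := hα v
  rw [s.frat, Subgroup.mem_bot, inv_mul_eq_one] at h1
  exact h1.symm

/-- An element of `Aut_F(E)` fixing `x` is unipotent. -/
theorem fix_x (s : Setup F E x y e) {θ : MulAut E} (hθ : θ ∈ F.autGroup E)
    (hx : barHom E θ (x : E ⧸ frattini E) = x) :
    ∃ c : ZMod 7, barHom E θ = MulAut.congr e.symm (planeAct 7 (up c)) := by
  have hfr := s.hfr
  obtain ⟨pxW, pxW', hy1, hyK⟩ := s.pos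
  set X : E ⧸ frattini E := (x : E ⧸ frattini E) with hX
  set Y : E ⧸ frattini E := (y : E ⧸ frattini E) with hY
  set v := barHom E θ Y with hv
  have hrep := eq_pow_mul_pow' e hfr.ex hfr.ey v
  set i := ((e v).toAdd 0) with hi
  set j := ((e v).toAdd 1) with hj
  have hcomm : ∀ a b : E ⧸ frattini E, Commute a b := fun a b => comm_of_equiv e a b
  have hpw : ∀ a : E ⧸ frattini E, a ^ 7 = 1 := by
    intro a
    apply e.injective
    rw [map_pow, map_one]
    apply Multiplicative.toAdd.injective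
    ext k
    show (7 • (e a).toAdd) k = 0
    simp
    left
    rfl
  have hpv : ∀ (a : E ⧸ frattini E) (m n : ℕ), (m : ZMod 7) = n → a ^ m = a ^ n := by
    intro a m n hmn
    rw [ZMod.natCast_eq_natCast_iff] at hmn
    exact pow_eq_pow_of_modEq hmn (hpw a)
  have hj0 : j ≠ 0 := by
    intro h0
    rw [h0, ZMod.val_zero, pow_zero, mul_one] at hrep
    have h1 : barHom E θ Y = barHom E θ (X ^ i.val) := by
      rw [map_pow, hx, ← hrep]
    have h2 := (barHom E θ).injective h1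
    have h3 := hfr.ey
    rw [← hY, h2, map_pow, hfr.ex] at h3
    have h4 : (Multiplicative.toAdd ((Multiplicative.ofAdd (![1, 0] : Fin 2 → ZMod 7)) ^ i.val)) 1 = 1 := by
      rw [h3]; rfl
    have h5 : (Multiplicative.toAdd ((Multiplicative.ofAdd (![1, 0] : Fin 2 → ZMod 7)) ^ i.val)) 1 = 0 := by
      rw [toAdd_pow]
      simp
    rw [h5] at h4
    exact zero_ne_one h4
  -- `θ` normalizes `Aut_S(E)`
  have hnorm : ∀ β ∈ autInducedBy S E, θ * β * θ⁻¹ ∈ autInducedBy S E := by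
    intro β hβ
    obtain ⟨c, hc⟩ := hfr.aut β hβ
    apply hfr.aut' _ ((F.autGroup E).mul_mem ((F.autGroup E).mul_mem hθ
      (autInducedBy_le_autGroup F s.hES hβ)) ((F.autGroup E).inv_mem hθ)) (c * j⁻¹)
    rw [map_mul, map_mul, map_inv, hc, mul_inv_eq_iff_eq_mul]
    have u1 := congr_up_apply e hfr.ex hfr.ey c
    have u2 := congr_up_apply e hfr.ex hfr.ey (c * j⁻¹)
    rw [← hX, ← hY] at u1 u2
    apply aut_ext_coords' e hfr.ex hfr.ey
    · rw [← hX, MulAut.mul_apply, MulAut.mul_apply, u1.1, hx, u2.1]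
    · rw [← hY, MulAut.mul_apply, MulAut.mul_apply, u1.2, map_mul, map_pow, hx, ← hv, hrep, map_mul,
        map_pow, map_pow, u2.1, u2.2, (hcomm _ _).mul_pow, ← pow_mul, ← mul_assoc, ← mul_assoc,
        ← pow_add, ← pow_add, hpv X (c.val + i.val) (i.val + (c * j⁻¹).val * j.val)]
      push_cast
      rw [ZMod.natCast_zmod_val, ZMod.natCast_zmod_val, ZMod.natCast_zmod_val, ZMod.natCast_zmod_val,
        mul_assoc, inv_mul_cancel₀ hj0, mul_one, add_comm]
  obtain ⟨τ, hτ, hτe⟩ := pearl_lift s.hS s.hF s.hE hθ hnorm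
  have hτι : ∀ w : E, τ (Subgroup.inclusion s.hES w) = Subgroup.inclusion s.hES (θ w) := fun w =>
    Subtype.ext (hτe w _)
  have hmk : ∀ a b : E, (a : E ⧸ frattini E) = b → a = b := by
    intro a b hab
    rw [QuotientGroup.eq, s.frat, Subgroup.mem_bot, inv_mul_eq_one] at hab
    exact hab
  have hθx : θ x = x := hmk _ _ (by rw [← barHom_mk]; exact hx)
  have hθy : θ y = x ^ i.val * y ^ j.val := hmk _ _ (by
    rw [← barHom_mk, QuotientGroup.mk_mul, QuotientGroup.mk_pow, QuotientGroup.mk_pow]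
    exact hrep)
  have w4 : Wt (chain S) τ 4 (1 : ZMod 7) := by
    refine wt_of_gen s.mc (chain_map_mem τ) (by norm_num) pxW pxW' (k := 1) (by simp) ?_
    rw [zpow_one, hτι, hθx, inv_mul_cancel]
    exact one_mem _
  have hxc : ∀ g : S, Commute (Subgroup.inclusion s.hES x) g := fun g => s.mc.center_le pxW g
  have w0 : Wt (chain S) τ 0 j := by
    refine s.wt_y (z := Subgroup.inclusion s.hES x ^ i.val) ?_ ?_
    · exact pow_mem (s.mc.antitone (by norm_num) pxW) _
    · rw [hτι, hθy, map_mul, map_pow, map_pow]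
      exact ((hxc _).pow_left _).eq
  have w4' := (s.weights w0).2 3 (by norm_num)
  have h5 : j ^ (3 + 2) = 1 := wt_unique s.mc (by norm_num) w4' w4
  have h6 : j ^ 6 = 1 := ZMod.pow_card_sub_one_eq_one hj0
  have h1 : j = 1 := by
    have : j ^ 6 = j ^ (3 + 2) * j := by ring
    rw [h5, h6, one_mul] at this
    exact this.symm
  refine ⟨i, ?_⟩
  have u1 := congr_up_apply e hfr.ex hfr.ey i
  apply aut_ext_coords' e hfr.ex hfr.ey
  · rw [u1.1]
    exact hx
  · rw [u1.2]
    show v = _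
    rw [hrep, h1, ZMod.val_one, pow_one]

end Setup

end Cfsg.Agent.H766
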