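import Cfsg.Agent.H766.PolyIso
import Cfsg.Agent.LieClassical.SympCount

/-!
# Sylow `p`-subgroups of `Sp(4, p)` (helper766)
-/

set_option autoImplicit false

namespace Cfsg.Agent.H766

open Matrix

section

variable (p : ℕ)

/-- The block matrix `[[1, s], [0, 1]]`. -/
def spT (s : Matrix (Fin 2) (Fin 2) (ZMod p)) : Matrix (Fin 2 ⊕ Fin 2) (Fin 2 ⊕ Fin 2) (ZMod p) :=
  fromBlocks 1 s 0 1

/-- The block matrix `[[g, 0], [0, g⁻ᵀ]]`, `g` upper unitriangular. -/
def spD (l : ZMod p) : Matrix (Fin 2 ⊕ Fin 2) (Fin 2 ⊕ Fin 2) (ZMod p) :=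
  fromBlocks !![1, l; 0, 1] 0 0 !![1, 0; -l, 1]

theorem spT_mul (s t : Matrix (Fin 2) (Fin 2) (ZMod p)) : spT p s * spT p t = spT p (s + t) := by
  rw [spT, spT, spT, fromBlocks_multiply]
  simp [add_comm]

theorem spD_mul (s t : ZMod p) : spD p s * spD p t = spD p (s + t) := by
  rw [spD, spD, spD, fromBlocks_multiply]
  congr 1
  · ext i j
    fin_cases i <;> fin_cases j <;> simp [add_comm]
  · simp
  · simp
  · ext i j
    fin_cases i <;> fin_cases j <;> simp [add_comm]

theorem spT_mem {s : Matrix (Fin 2) (Fin 2) (ZMod p)} (hs : sᵀ = s) :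
    spT p s ∈ symplecticGroup (Fin 2) (ZMod p) := by
  rw [SymplecticGroup.mem_iff, spT, J, fromBlocks_transpose, fromBlocks_multiply,
    fromBlocks_multiply]
  simp [hs]

theorem spD_mem (l : ZMod p) : spD p l ∈ symplecticGroup (Fin 2) (ZMod p) := by
  have t1 : (!![1, l; 0, 1] : Matrix (Fin 2) (Fin 2) (ZMod p))ᵀ = !![1, 0; l, 1] := by
    ext i j; fin_cases i <;> fin_cases j <;> rfl
  have t2 : (!![1, 0; -l, 1] : Matrix (Fin 2) (Fin 2) (ZMod p))ᵀ = !![1, -l; 0, 1] := by
    ext i j; fin_cases i <;> fin_cases j <;> rfl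
  rw [SymplecticGroup.mem_iff, spD, J, fromBlocks_transpose, fromBlocks_multiply,
    fromBlocks_multiply, t1, t2]
  congr 1
  · simp
  · ext i j
    fin_cases i <;> fin_cases j <;> simp
  · ext i j
    fin_cases i <;> fin_cases j <;> simp
  · simp

/-- The three symmetric matrices. -/
def sy0 : Matrix (Fin 2) (Fin 2) (ZMod p) := !![0, 0; 0, 1]
def sy1 : Matrix (Fin 2) (Fin 2) (ZMod p) := !![1, 1; 1, 0]
def sy2 : Matrix (Fin 2) (Fin 2) (ZMod p) := !![2, 0; 0, 0]

theorem sy0_symm : (sy0 p)ᵀ = sy0 p := by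
  ext i j; fin_cases i <;> fin_cases j <;> rfl
theorem sy1_symm : (sy1 p)ᵀ = sy1 p := by
  ext i j; fin_cases i <;> fin_cases j <;> rfl
theorem sy2_symm : (sy2 p)ᵀ = sy2 p := by
  ext i j; fin_cases i <;> fin_cases j <;> rfl

/-- The generators. -/
def gA0 : symplecticGroup (Fin 2) (ZMod p) := ⟨spT p (sy0 p), spT_mem p (sy0_symm p)⟩
def gA1 : symplecticGroup (Fin 2) (ZMod p) := ⟨spT p (sy1 p), spT_mem p (sy1_symm p)⟩
def gA2 : symplecticGroup (Fin 2) (ZMod p) := ⟨spT p (sy2 p), spT_mem p (sy2_symm p)⟩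
def gX : symplecticGroup (Fin 2) (ZMod p) := ⟨spD p 1, spD_mem p 1⟩

theorem spT_pow (s : Matrix (Fin 2) (Fin 2) (ZMod p)) (n : ℕ) : spT p s ^ n = spT p ((n : ZMod p) • s) := by
  induction n with
  | zero => simp [spT]
  | succ n ih =>
    rw [pow_succ, ih, spT_mul]
    congr 1
    push_cast
    rw [add_smul, one_smul]

theorem spD_pow (n : ℕ) : spD p 1 ^ n = spD p (n : ZMod p) := by
  induction n with
  | zero =>
    rw [pow_zero, Nat.cast_zero, spD]
    ext i j
    rcases i with i | i <;> rcases j with j | j <;> fin_cases i <;> fin_cases j <;> simp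
  | succ n ih =>
    rw [pow_succ, ih, spD_mul]
    congr 1
    push_cast
    rfl

theorem spT_zero : spT p 0 = 1 := by simp [spT]
theorem spD_zero : spD p 0 = 1 := by
  have := spD_pow p 0
  rw [pow_zero, Nat.cast_zero] at this
  exact this.symm

/-- The generated subgroup has at least `p ^ 4` elements. -/
theorem le_card_spU [Fact p.Prime] (hp : p ≠ 2) :
    p ^ 4 ≤ Nat.card (Subgroup.closure {gA0 p, gA1 p, gA2 p, gX p}) := by
  have h2 : (2 : ZMod p) ≠ 0 := by
    intro h
    have h3 : ((2 : ℕ) : ZMod p) = 0 := by exact_mod_cast h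
    rw [ZMod.natCast_eq_zero_iff] at h3
    exact hp ((Nat.prime_dvd_prime_iff_eq (Fact.out : p.Prime) Nat.prime_two).1 h3)
  let U := Subgroup.closure {gA0 p, gA1 p, gA2 p, gX p}
  have m0 : gA0 p ∈ U := Subgroup.subset_closure (by simp)
  have m1 : gA1 p ∈ U := Subgroup.subset_closure (by simp)
  have m2 : gA2 p ∈ U := Subgroup.subset_closure (by simp)
  have mx : gX p ∈ U := Subgroup.subset_closure (by simp)
  let f : (Fin 4 → ZMod p) → U := fun c =>
    ⟨gA0 p ^ (c 0).val * gA1 p ^ (c 1).val * gA2 p ^ (c 2).val * gX p ^ (c 3).val,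
      U.mul_mem (U.mul_mem (U.mul_mem (U.pow_mem m0 _) (U.pow_mem m1 _)) (U.pow_mem m2 _))
        (U.pow_mem mx _)⟩
  have hf : ∀ c, (((f c : U) : symplecticGroup (Fin 2) (ZMod p)) :
      Matrix (Fin 2 ⊕ Fin 2) (Fin 2 ⊕ Fin 2) (ZMod p)) =
      spT p (c 0 • sy0 p + c 1 • sy1 p + c 2 • sy2 p) * spD p (c 3) := by
    intro c
    show spT p (sy0 p) ^ (c 0).val * spT p (sy1 p) ^ (c 1).val * spT p (sy2 p) ^ (c 2).val *
      spD p 1 ^ (c 3).val = _
    rw [spT_pow, spT_pow, spT_pow, spD_pow, spT_mul, spT_mul]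
    simp only [ZMod.natCast_val, ZMod.cast_id', id_eq]
  have hinj : Function.Injective f := by
    intro c d hcd
    have h1 : spT p (c 0 • sy0 p + c 1 • sy1 p + c 2 • sy2 p) * spD p (c 3) =
        spT p (d 0 • sy0 p + d 1 • sy1 p + d 2 • sy2 p) * spD p (d 3) := by
      rw [← hf, ← hf, hcd]
    rw [spT, spT, spD, spD, fromBlocks_multiply, fromBlocks_multiply, fromBlocks_inj] at h1
    obtain ⟨e1, e2, -, -⟩ := h1
    have e3 : c 3 = d 3 := by
      have := congrFun (congrFun e1 0) 1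
      simpa using this
    have e4 : c 0 = d 0 := by
      have := congrFun (congrFun e2 1) 1
      simpa [sy0, sy1, sy2] using this
    have e5 : c 1 = d 1 := by
      have := congrFun (congrFun e2 0) 1
      simpa [sy0, sy1, sy2] using this
    have e6 : c 2 = d 2 := by
      have := congrFun (congrFun e2 0) 0
      simp [sy0, sy1, sy2, e3, e5] at this
      rcases this with h | h
      · exact h
      · exact absurd h h2
    ext i
    fin_cases i
    · exact e4
    · exact e5
    · exact e6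
    · exact e3
  have h3 := Nat.card_le_card_of_injective f hinj
  rw [Nat.card_eq_fintype_card, Fintype.card_fun, ZMod.card, Fintype.card_fin] at h3
  exact h3

theorem sp_rel4 : Rel4 p (gA0 p) (gA1 p) (gA2 p) (gX p) := by
  have comm : ∀ s t : Matrix (Fin 2) (Fin 2) (ZMod p), spT p s * spT p t = spT p t * spT p s := by
    intro s t
    rw [spT_mul, spT_mul, add_comm]
  have rel : ∀ s t : Matrix (Fin 2) (Fin 2) (ZMod p), !![1, 1; 0, 1] * s = t * !![1, 0; -1, 1] →
      spD p 1 * spT p s = spT p t * spD p 1 := by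
    intro s t hst
    rw [spD, spT, spT, fromBlocks_multiply, fromBlocks_multiply]
    congr 1
    · simp
    · simpa using hst
    · simp
    · simp
  have op : ∀ s : Matrix (Fin 2) (Fin 2) (ZMod p), spT p s ^ p = 1 := by
    intro s
    rw [spT_pow, ZMod.natCast_self, zero_smul, spT_zero]
  refine ⟨?_, ?_, ?_, ?_, ?_, ?_, ?_, ?_, ?_, ?_⟩
  · exact Subtype.ext (comm _ _)
  · exact Subtype.ext (comm _ _)
  · exact Subtype.ext (comm _ _)
  · apply Subtype.ext
    show spD p 1 * spT p (sy0 p) = spT p (sy0 p) * spT p (sy1 p) * spD p 1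
    rw [spT_mul]
    apply rel
    ext i j
    fin_cases i <;> fin_cases j <;> simp [sy0, sy1, Matrix.mul_apply, Fin.sum_univ_two]
  · apply Subtype.ext
    show spD p 1 * spT p (sy1 p) = spT p (sy1 p) * spT p (sy2 p) * spD p 1
    rw [spT_mul]
    apply rel
    ext i j
    fin_cases i <;> fin_cases j <;> simp [sy1, sy2, Matrix.mul_apply, Fin.sum_univ_two]
    ring
  · apply Subtype.ext
    show spD p 1 * spT p (sy2 p) = spT p (sy2 p) * spD p 1
    apply rel
    ext i j
    fin_cases i <;> fin_cases j <;> simp [sy2, Matrix.mul_apply, Fin.sum_univ_two]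
  · exact Subtype.ext (op _)
  · exact Subtype.ext (op _)
  · exact Subtype.ext (op _)
  · apply Subtype.ext
    show spD p 1 ^ p = 1
    rw [spD_pow, ZMod.natCast_self, spD_zero]

/-- **Sylow `p`-subgroups of `Sp(4, p)`**: generators, relations, order. -/
theorem exists_sylow_rel4 [hp : Fact p.Prime] (hp2 : p ≠ 2) :
    ∃ (P : Sylow p (symplecticGroup (Fin 2) (ZMod p))) (b0 b1 b2 y : P),
      Rel4 p b0 b1 b2 y ∧ Subgroup.closure {b0, b1, b2, y} = ⊤ ∧ Nat.card P = p ^ 4 := by
  have hle := (sp_rel4 p).card_le hp.out.pos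
  set U := Subgroup.closure {gA0 p, gA1 p, gA2 p, gX p} with hU
  have hcard : Nat.card U = p ^ 4 := le_antisymm hle (le_card_spU p hp2)
  obtain ⟨P, hP⟩ := (IsPGroup.of_card hcard).exists_le_sylow
  -- the order of a Sylow subgroup
  have hcP : Nat.card P = p ^ 4 := by
    rw [Sylow.card_eq_multiplicity, Cfsg.Agent.LieClassical.SympCount.card_symplecticGroup, ZMod.card]
    congr 1
    have h1 : 1 < p := hp.out.one_lt
    rw [Finset.prod_range_succ, Finset.prod_range_one]
    have h2 : ¬ p ∣ (p ^ (2 * (0 + 1)) - 1) * (p ^ (2 * (1 + 1)) - 1) := by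
      rw [hp.out.dvd_mul]
      have key : ∀ k, 0 < k → ¬ p ∣ p ^ k - 1 := by
        intro k hk hd
        have h3 : p ∣ p ^ k := dvd_pow_self p hk.ne'
        have h4 := (Nat.dvd_sub h3 hd)
        have h5 : 1 ≤ p ^ k := Nat.one_le_pow _ _ hp.out.pos
        rw [Nat.sub_sub_self h5] at h4
        exact hp.out.one_lt.ne' (Nat.dvd_one.1 h4)
      rintro (h | h)
      · exact key _ (by norm_num) h
      · exact key _ (by norm_num) h
    rw [Nat.factorization_mul (pow_ne_zero _ hp.out.ne_zero) (fun h => h2 (by rw [h]; exact dvd_zero _)),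
      Finsupp.add_apply, Nat.factorization_eq_zero_of_not_dvd h2, hp.out.factorization_pow]
    simp
  have hUP : U = P := Subgroup.eq_of_le_of_card_ge hP (by rw [hcard]; exact hcP.le)
  have m0 : gA0 p ∈ U := Subgroup.subset_closure (by simp)
  have m1 : gA1 p ∈ U := Subgroup.subset_closure (by simp)
  have m2 : gA2 p ∈ U := Subgroup.subset_closure (by simp)
  have mx : gX p ∈ U := Subgroup.subset_closure (by simp)
  have h := sp_rel4 p
  refine ⟨P, ⟨gA0 p, hP m0⟩, ⟨gA1 p, hP m1⟩, ⟨gA2 p, hP m2⟩, ⟨gX p, hP mx⟩,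
    ⟨Subtype.ext h.c01, Subtype.ext h.c02, Subtype.ext h.c12, Subtype.ext h.r0, Subtype.ext h.r1,
      Subtype.ext h.r2, Subtype.ext h.o0, Subtype.ext h.o1, Subtype.ext h.o2, Subtype.ext h.ox⟩,
    ?_, hcP⟩
  have hinj : Function.Injective (P : Subgroup (symplecticGroup (Fin 2) (ZMod p))).subtype :=
    Subtype.coe_injective
  apply Subgroup.map_injective hinj
  rw [MonoidHom.map_closure, ← MonoidHom.range_eq_map, Subgroup.range_subtype]
  refine Eq.trans ?_ hUP
  rw [hU]
  congr 1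
  simp [Set.image_insert_eq]

end

end Cfsg.Agent.H766
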