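import Cfsg.Agent.H766.PearlWeights
import Cfsg.Agent.H779.MaxChain
import Cfsg.Agent.TwoFusion.SectionalRank

/-!
# Groups of maximal class with a torus and sectional rank 3 (helper766)
-/

set_option autoImplicit false

namespace Cfsg.Agent.H766

open Cfsg Cfsg.Agent.H467.MaxClass
open Cfsg.Agent.TwoFusion.SectionalRank
open scoped commutatorElement

universe u

/-- The terms of the chain are characteristic. -/
theorem chain_map_mem {P : Type u} [Group P] [Finite P] (τ : MulAut P) (i : ℕ) (g : P) (hg : g ∈ chain P i) :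
    τ g ∈ chain P i := by
  have hchar : ∀ (i : ℕ) (β : MulAut P) (z : P), z ∈ (⊤ : Subgroup P).lowerCentralSeries i →
      β z ∈ (⊤ : Subgroup P).lowerCentralSeries i := by
    intro i β z hz
    have h3 := (Subgroup.characteristic_iff_comap_eq.1
      (inferInstance : ((⊤ : Subgroup P).lowerCentralSeries i).Characteristic)) β
    rw [← h3] at hz
    exact hz
  match i with
  | 0 => rw [chain_zero]; trivial
  | 1 =>
    rw [chain_one, mem_twoStep] at hg ⊢
    intro w hw
    have h1 := hg (τ⁻¹ w) (hchar 1 τ⁻¹ w hw)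
    have h2 := hchar 3 τ _ h1
    rw [map_commutatorElement, MulAut.apply_inv_self] at h2
    exact h2
  | (j + 2) =>
    rw [chain_of_two_le (by omega)] at hg ⊢
    exact hchar _ τ g hg

theorem chain_mem_of_map {P : Type u} [Group P] [Finite P] (τ : MulAut P) (i : ℕ) (g : P)
    (hg : τ g ∈ chain P i) : g ∈ chain P i := by
  have := chain_map_mem τ⁻¹ i _ hg
  rwa [MulAut.inv_apply_self] at this

theorem pow_eq_one_forall {p : ℕ} [hp : Fact p.Prime] {k : ℕ} (h : ∀ t : (ZMod p)ˣ, t ^ k = 1) :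
    (p - 1) ∣ k := by
  obtain ⟨g, hg⟩ := IsCyclic.exists_generator (α := (ZMod p)ˣ)
  have h1 : orderOf g = p - 1 := by
    rw [orderOf_eq_card_of_forall_mem_zpowers hg, Nat.card_eq_fintype_card, ZMod.card_units]
  rw [← h1]
  exact orderOf_dvd_of_pow_eq_one (h g)

section

variable {P : Type u} [Group P] {p n : ℕ}

/-- The weights of `τ` are determined by the first one and by the action on a uniform element. -/
theorem weights_chain {W : ℕ → Subgroup P} (h : MC P p n W) [hp : Fact p.Prime] {τ : MulAut P}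
    (hτ : ∀ i, ∀ g ∈ W i, τ g ∈ W i) {y z : P} (hy : ∀ i, 1 ≤ i → i ≤ n - 2 → y ∉ h.Ksub i)
    (hz : z ∈ W (n - 1)) {l : ℕ} (hτy : τ y = y ^ l * z) {c : ZMod p} (hc : Wt W τ 1 c) :
    ∀ i, i ≤ n - 2 → Wt W τ (i + 1) (c * (l : ZMod p) ^ i) := by
  have h4 := h.four_le
  intro i
  induction i with
  | zero => intro _; simpa using hc
  | succ i ih =>
    intro hi
    have h1 := ih (by omega)
    obtain ⟨e, he⟩ := wt_exists h hτ (i := i + 2) (by omega)
    obtain ⟨a, ha, ha'⟩ := h.ne_succ (i := i + 1) (by omega)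
    have hay' : ⁅a, y⁆ ∉ W (i + 2 + 1) := by
      intro hh
      apply hy (i + 1) (by omega) (by omega)
      exact (h.mem_K_iff (i := i + 1) (by omega) ha ha' y).2 hh
    have h2 := wt_pair h (i := i + 1) (k := i + 2) (by omega) ha h1 he (h.comm_mem ha) hay' hτy
      (fun u hu => h.comm_mem hu) (fun m => by
        have h3 := (h.center_le hz (a ^ m)).symm
        rw [← commutatorElement_eq_one_iff_commute] at h3
        rw [h3]
        exact one_mem _)
    rw [h2] at he
    have h3 : c * (l : ZMod p) ^ (i + 1) = c * (l : ZMod p) ^ i * l := by ring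
    rw [h3]
    exact he

/-- A torus acting on a group of maximal class. -/
structure TorusAct (h : MC P p n (chain P)) (y : P) : Prop where
  y1 : y ∉ chain P 1
  yK : y ∉ h.Ksub (n - 2)
  lift : ∀ t : (ZMod p)ˣ, ∃ τ : MulAut P, ∃ z ∈ chain P (n - 1), τ y = y ^ (t : ZMod p).val * z

/-- `W 2` has exponent `p`. -/
theorem TorusAct.pow_two [Finite P] {h : MC P p n (chain P)} [hp : Fact p.Prime] {y : P}
    (ht : TorusAct h y) (hcl : Group.nilpotencyClass P = n - 1)
    (hnp : n ≤ p + 1) (hp3 : 3 ≤ p) {u : P} (hu : u ∈ chain P 2) : u ^ p = 1 := by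
  have h4 := h.four_le
  have hC := h.card_centralizer_of_notMem ht.y1 (fun i h1 h2 => h.notMem_Ksub hp3 ht.y1 ht.yK i h1 h2)
  have hy2 : y ∉ (⊤ : Subgroup P).lowerCentralSeries 1 := by
    intro hh
    apply ht.y1
    apply h.le_succ 1
    rw [chain_of_two_le le_rfl]
    exact hh
  obtain ⟨M, hM, hch, hun⟩ := Cfsg.Agent.H779.MaxChain.exists_chain h.card_group (by omega) hcl hy2
    hC.le
  have hu' : u ∈ Cfsg.Agent.H779.MaxChain.gam M 2 := by
    rw [Cfsg.Agent.H779.MaxChain.gam_of le_rfl]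
    rwa [chain_of_two_le le_rfl] at hu
  have h1 := Cfsg.Agent.H779.MaxPow.pow_mem hch (by omega) hun le_rfl hu'
  rw [hch.last _ (by omega), Subgroup.mem_bot] at h1
  exact h1

/-- The weights for a torus. -/
theorem TorusAct.weights [Finite P] {h : MC P p n (chain P)} [hp : Fact p.Prime] {y : P}
    (ht : TorusAct h y) (hp3 : 3 ≤ p) {τ : MulAut P} {z : P} (hz : z ∈ chain P (n - 1)) {d : ZMod p}
    (hτy : τ y = y ^ d.val * z) :
    ∃ c : ZMod p, c ≠ 0 ∧ ∀ i, i ≤ n - 2 → Wt (chain P) τ (i + 1) (c * d ^ i) := by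
  have h4 := h.four_le
  obtain ⟨c, hc⟩ := wt_exists h (τ := τ) (chain_map_mem τ) (i := 1) (by omega)
  refine ⟨c, wt_ne_zero h (τ := τ) (chain_mem_of_map τ) (by omega) hc, ?_⟩
  have := weights_chain h (τ := τ) (chain_map_mem τ)
    (fun i h1 h2 => h.notMem_Ksub hp3 ht.y1 ht.yK i h1 h2) hz hτy hc
  rwa [ZMod.natCast_zmod_val] at this

/-- For sectional rank three, `⁅W 1, W 2⁆` is not contained in `W 5`. -/
theorem TorusAct.exists_comm [Finite P] {h : MC P p n (chain P)} [hp : Fact p.Prime] {y : P}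
    (ht : TorusAct h y) (hcl : Group.nilpotencyClass P = n - 1)
    (hn5 : 5 ≤ n) (hn6 : n ≤ 6) (hp5 : 5 ≤ p) (hr : Cfsg.SectionalPRankLE p 3 P) :
    ∃ a ∈ chain P 1, ∃ b ∈ chain P 2, ⁅a, b⁆ ∉ chain P 5 := by
  by_contra hcon
  push Not at hcon
  have hn := h.normal 5
  have hcomm : ∀ a ∈ chain P 1, ∀ b ∈ chain P 1, ⁅a, b⁆ ∈ chain P 5 := fun a ha b hb =>
    comm_self_of h (i := 1) hcon ha hb
  have hpow2 : ∀ u ∈ chain P 2, u ^ p = 1 := fun u hu => ht.pow_two hcl (by omega) (by omega) hu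
  -- modulo `W 5`
  let π : P →* P ⧸ chain P 5 := QuotientGroup.mk' (chain P 5)
  have hπ : ∀ x, π x = 1 ↔ x ∈ chain P 5 := fun x => QuotientGroup.eq_one_iff x
  have hπc : ∀ x ∈ chain P 1, ∀ y ∈ chain P 1, Commute (π x) (π y) := by
    intro x hx y hy
    rw [← commutatorElement_eq_one_iff_commute, ← map_commutatorElement, hπ]
    exact hcomm x hx y hy
  have hpown : ∀ a ∈ chain P 1, a ^ p ∈ chain P 5 := by
    intro s hs
    by_contra hs5
    have hs2 : s ^ p ∈ chain P 2 := pow_mem_succ h (by omega) hs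
    obtain ⟨j, hj2, hj4, hj, hj'⟩ : ∃ j, 2 ≤ j ∧ j ≤ 4 ∧ s ^ p ∈ chain P j ∧ s ^ p ∉ chain P (j + 1) := by
      by_cases h3 : s ^ p ∈ chain P 3
      · by_cases h4 : s ^ p ∈ chain P 4
        · exact ⟨4, by omega, le_rfl, h4, hs5⟩
        · exact ⟨3, by omega, by omega, h3, h4⟩
      · exact ⟨2, le_rfl, by omega, hs2, h3⟩
    have key : ∀ t : (ZMod p)ˣ, t ^ (j - 1) = 1 := by
      intro t
      obtain ⟨τ, z, hz, hτy⟩ := ht.lift t
      obtain ⟨c, hc0, hc⟩ := ht.weights (by omega) hz hτy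
      have h1 := wt_pow h (i := 1) (k := j) (by omega) hs (by simpa using hc 0 (by omega))
        (by have := hc (j - 1) (by omega); rwa [show j - 1 + 1 = j by omega] at this) hj hj' (by
          intro m u hu
          apply h.antitone (show j + 1 ≤ 5 by omega)
          rw [← hπ, map_mul, map_inv, map_pow, map_pow, map_mul, map_pow,
            ((hπc s hs u (h.le_succ 1 hu)).pow_left m).mul_pow, ← map_pow π u, hpow2 u hu, map_one,
            mul_one, pow_mul, inv_mul_cancel])
      have h2 : (t : ZMod p) ^ (j - 1) = 1 := mul_left_cancel₀ hc0 (by rw [h1, mul_one])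
      apply Units.ext
      rw [Units.val_pow_eq_pow_val, Units.val_one]
      exact h2
    have h1 := Nat.le_of_dvd (by omega) (pow_eq_one_forall key)
    omega
  rw [sectionalPRankLE_iff] at hr
  have h1 := hr (chain P 1) (chain P 5) ⟨h.antitone (by omega), fun a ha b hb => hcomm a ha b hb,
    hpown⟩
  have h2 := h.card_W (n - 1) (by omega)
  have h3 := h.card_W (n - 5) (by omega)
  rw [show n - (n - 1) = 1 by omega] at h2
  rw [show n - (n - 5) = 5 by omega] at h3
  rw [h2, h3, ← pow_add] at h1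
  have h5 := (Nat.pow_le_pow_iff_right hp.out.one_lt).1 h1
  omega

/-- The first weight is the square of the weight on `y`. -/
theorem TorusAct.c_eq [Finite P] {h : MC P p n (chain P)} [hp : Fact p.Prime] {y : P}
    (ht : TorusAct h y) (hcl : Group.nilpotencyClass P = n - 1)
    (hn5 : 5 ≤ n) (hn6 : n ≤ 6) (hp5 : 5 ≤ p) (hr : Cfsg.SectionalPRankLE p 3 P)
    {τ : MulAut P} {z : P} (hz : z ∈ chain P (n - 1)) {d : ZMod p} (hd : d ≠ 0)
    (hτy : τ y = y ^ d.val * z) :
    ∀ i, i ≤ n - 2 → Wt (chain P) τ (i + 1) (d ^ (i + 2)) := by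
  obtain ⟨c, hc0, hc⟩ := ht.weights (by omega) hz hτy
  obtain ⟨a, ha, b, hb, hab⟩ := ht.exists_comm hcl hn5 hn6 hp5 hr
  have h2 : Wt (chain P) τ 2 (c * d) := by simpa using hc 1 (by omega)
  obtain ⟨v, hv, hbv⟩ : ∃ v ∈ chain P 3, τ b = b ^ (c * d).val * v := ⟨_, h2 b hb, by group⟩
  have hn5' := h.normal 5
  have h1 := wt_pair h (i := 1) (k := 4) (by omega) ha (by simpa using hc 0 (by omega))
    (hc 3 (by omega)) (comm_W1 h ha (h.le_succ 1 hb)) hab hbv
    (fun u hu => by
      have : b ^ (c * d).val * v ∈ chain P 2 := mul_mem (pow_mem hb _) (h.le_succ 2 hv)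
      have := h.comm_self hu this
      exact this)
    (fun m => comm_one_three h (pow_mem ha m) hv)
  have h3 : c = d ^ 2 := by
    have h4 : (c * d) * (d ^ 2 - c) = 0 := by
      rw [ZMod.natCast_zmod_val] at h1
      linear_combination h1
    rcases mul_eq_zero.1 h4 with h5 | h5
    · rcases mul_eq_zero.1 h5 with h6 | h6
      · exact absurd h6 hc0
      · exact absurd h6 hd
    · exact (sub_eq_zero.1 h5).symm
  intro i hi
  have := hc i hi
  rw [h3] at this
  rwa [show d ^ (i + 2) = d ^ 2 * d ^ i by ring]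

/-- The order is at most `p ^ 5`. -/
theorem TorusAct.ne_six [Finite P] {h : MC P p n (chain P)} [hp : Fact p.Prime] {y : P}
    (ht : TorusAct h y) (hcl : Group.nilpotencyClass P = n - 1)
    (hn6 : n = 6) (hp5 : 5 ≤ p) (hr : Cfsg.SectionalPRankLE p 3 P) : False := by
  subst hn6
  have hpow2 : ∀ u ∈ chain P 2, u ^ p = 1 := fun u hu => ht.pow_two hcl (by omega) (by omega) hu
  have hne : ∃ a ∈ chain P 2, ∃ b ∈ chain P 3, ⁅a, b⁆ ∉ chain P 6 := by
    by_contra hcon
    push Not at hcon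
    have hn := h.normal 6
    have hcomm : ∀ a ∈ chain P 2, ∀ b ∈ chain P 2, ⁅a, b⁆ ∈ chain P 6 := fun a ha b hb =>
      comm_self_of h (i := 2) hcon ha hb
    have hr' := hr
    rw [sectionalPRankLE_iff] at hr'
    have h1 := hr' (chain P 2) (chain P 6) ⟨h.antitone (by omega), fun a ha b hb => hcomm a ha b hb,
      fun a ha => by rw [hpow2 a ha]; exact one_mem _⟩
    have h2 := h.card_W 4 (by omega)
    have h3 := h.card_W 0 (by omega)
    rw [show 6 - 4 = 2 by omega] at h2
    rw [show 6 - 0 = 6 by omega] at h3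
    rw [h2, h3, ← pow_add] at h1
    have h5 := (Nat.pow_le_pow_iff_right hp.out.one_lt).1 h1
    omega
  obtain ⟨a, ha, b, hb, hab⟩ := hne
  have key : ∀ t : (ZMod p)ˣ, t ^ 1 = 1 := by
    intro t
    obtain ⟨τ, z, hz, hτy⟩ := ht.lift t
    have hc := ht.c_eq hcl (by omega) le_rfl hp5 hr hz t.ne_zero hτy
    obtain ⟨v, hv, hbv⟩ : ∃ v ∈ chain P 4, τ b = b ^ ((t : ZMod p) ^ 4).val * v :=
      ⟨_, hc 2 (by omega) b hb, by group⟩
    have h1 := wt_pair h (i := 2) (k := 5) (by omega) ha (hc 1 (by omega)) (hc 4 (by omega))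
      (h.comm_comm_mem ha hb) hab hbv
      (fun u hu => by
        have : b ^ ((t : ZMod p) ^ 4).val * v ∈ chain P 3 := mul_mem (pow_mem hb _) (h.le_succ 3 hv)
        have := h.comm_self hu this
        exact h.antitone (by omega) this)
      (fun m => h.comm_comm_mem (i := 2) (j := 4) (pow_mem ha m) hv)
    rw [ZMod.natCast_zmod_val] at h1
    have h2 : (t : ZMod p) ^ 6 * ((t : ZMod p) - 1) = 0 := by linear_combination -h1
    rcases mul_eq_zero.1 h2 with h5 | h5
    · exact absurd h5 (pow_ne_zero _ t.ne_zero)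
    · rw [pow_one]
      exact Units.ext (sub_eq_zero.1 h5)
  have h1 := Nat.le_of_dvd (by omega) (pow_eq_one_forall key)
  omega

end

end Cfsg.Agent.H766
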