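import Cfsg.Agent.H766.Homocyclic
import Cfsg.Agent.H802.FusEss

/-!
# Essential subgroups with Frattini quotient of order `p²`: the frame (helper766)
-/

set_option autoImplicit false

namespace Cfsg.Agent.H766

open Cfsg Cfsg.FusionSystem Cfsg.Agent.H802
open Matrix (SpecialLinearGroup)
open Cfsg.Agent.ClassicalGeometry.SplitTorus (up lo dg dg_conj_up)
open scoped commutatorElement

/-- The action of `Aut(P)` on the Frattini quotient. -/
def barHom (P : Type*) [Group P] : MulAut P →* MulAut (P ⧸ frattini P) where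
  toFun a := QuotientGroup.congr (frattini P) (frattini P) a (by
    apply le_antisymm
    · rintro _ ⟨x, hx, rfl⟩
      exact map_mem_frattini a hx
    · intro x hx
      exact ⟨a⁻¹ x, map_mem_frattini _ hx, MulAut.apply_inv_self _ a x⟩)
  map_one' := by
    apply MulEquiv.ext
    intro v
    obtain ⟨x, rfl⟩ := QuotientGroup.mk_surjective v
    rfl
  map_mul' a b := by
    apply MulEquiv.ext
    intro v
    obtain ⟨x, rfl⟩ := QuotientGroup.mk_surjective v
    rfl

theorem barHom_mk {P : Type*} [Group P] (a : MulAut P) (x : P) :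
    barHom P a (x : P ⧸ frattini P) = ((a x : P) : P ⧸ frattini P) := rfl

theorem barHom_eq_one_iff {P : Type*} [Group P] (a : MulAut P) :
    barHom P a = 1 ↔ ∀ x : P, x⁻¹ * a x ∈ frattini P := by
  constructor
  · intro h x
    have h1 := DFunLike.congr_fun h (x : P ⧸ frattini P)
    rw [barHom_mk] at h1
    exact QuotientGroup.eq.1 h1.symm
  · intro h
    apply MulEquiv.ext
    intro v
    obtain ⟨x, rfl⟩ := QuotientGroup.mk_surjective v
    rw [barHom_mk]
    exact (QuotientGroup.eq.2 (h x)).symm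

variable {Ω : Type*} [Group Ω] {S : Subgroup Ω}

/-- Two `p`-elements of `Aut_F(H)`, the first in `Aut_S(H)`, not commuting on the Frattini quotient. -/
theorem ess_exists_noncomm_bar {p : ℕ} [hp : Fact p.Prime] [Finite S] (hS : IsPGroup p S)
    {F : FusionSystem S} (hF : F.IsSaturated p) {H : Subgroup Ω} (hH : F.IsEssential p H) :
    ∃ (a b : MulAut H) (k l : ℕ), a ∈ autInducedBy S H ∧ b ∈ F.autGroup H ∧ a ^ p ^ k = 1 ∧
      b ^ p ^ l = 1 ∧ barHom H a * barHom H b ≠ barHom H b * barHom H a := by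
  have hle := ess_le hH
  have : Finite H := finite_of_le hle
  have hHp : IsPGroup p H := hS.to_le hle
  by_contra hcon
  push Not at hcon
  set A := F.autGroup H with hA
  obtain ⟨P, hP⟩ : ∃ P : Sylow p A, (P : Subgroup A) = (autInducedBy S H).subgroupOf A :=
    (isFullyAutomized_of_isFullyNormalized hS hF hH.2.1).2
  let f : A →* MulAut (H ⧸ frattini H) := (barHom H).comp A.subtype
  have hfker : IsPGroup p f.ker := by
    have h1 : IsPGroup p (barHom H).ker := isPGroup_of_trivial_frattini hHp _ (fun α hα =>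
      (barHom_eq_one_iff α).1 hα)
    have h2 : f.ker = (barHom H).ker.subgroupOf A := rfl
    rw [h2]
    exact h1.comap_of_injective _ (Subgroup.subtype_injective _)
  let N : Subgroup A := (P : Subgroup A) ⊔ f.ker
  have hNP : N = P := by
    -- f.ker is a normal p-subgroup, so in P
    apply sup_eq_left.2
    obtain ⟨R, hR⟩ := hfker.exists_le_sylow
    obtain ⟨g, hg⟩ := MulAction.exists_smul_eq A R P
    intro n hn
    have h1 : g⁻¹ * n * g ∈ (R : Subgroup A) := by
      apply hR
      have := (inferInstance : f.ker.Normal).conj_mem n hn g⁻¹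
      simpa using this
    rw [← hg]
    have h2 : (MulAut.conj g) (g⁻¹ * n * g) ∈ ((g • R : Sylow p A) : Subgroup A) :=
      Subgroup.smul_mem_pointwise_smul _ (MulAut.conj g) (R : Subgroup A) h1
    have h3 : (MulAut.conj g) (g⁻¹ * n * g) = n := by
      rw [MulAut.conj_apply]
      group
    rwa [h3] at h2
  have hkerP : f.ker ≤ P := by
    rw [← hNP]
    exact le_sup_right
  have hPmem : ∀ x : A, x ∈ (P : Subgroup A) ↔ (x : MulAut H) ∈ autInducedBy S H := by
    intro x
    rw [hP, Subgroup.mem_subgroupOf]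
  have hall : ∀ Q : Sylow p A, (Q : Subgroup A) ≤ P := by
    intro Q
    have h1 : (Q : Subgroup A) ≤ Subgroup.normalizer ((P : Subgroup A) : Set A) := by
      intro q hq
      obtain ⟨l, hl⟩ := Q.2 ⟨q, hq⟩
      have hl' : (q : MulAut H) ^ p ^ l = 1 := by
        have := congrArg Subtype.val (congrArg Subtype.val hl)
        exact this
      have key : ∀ (q : A) (l : ℕ), (q : MulAut H) ^ p ^ l = 1 → ∀ x ∈ (P : Subgroup A),
          q * x * q⁻¹ ∈ (P : Subgroup A) := by
        intro q l hl' x hx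
        obtain ⟨k, hk⟩ := P.2 ⟨x, hx⟩
        have hk' : (x : MulAut H) ^ p ^ k = 1 := by
          have := congrArg Subtype.val (congrArg Subtype.val hk)
          exact this
        have h2 := hcon x q k l ((hPmem x).1 hx) q.2 hk' hl'
        have h3 : q * x * q⁻¹ * x⁻¹ ∈ f.ker := by
          rw [MonoidHom.mem_ker, map_mul, map_mul, map_mul, map_inv, map_inv]
          have h4 : f q * f x = f x * f q := h2.symm
          rw [h4]
          group
        have h5 := (P : Subgroup A).mul_mem (hkerP h3) hx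
        rwa [inv_mul_cancel_right] at h5
      rw [Subgroup.mem_normalizer_iff]
      intro x
      constructor
      · exact key q l hl' x
      · intro hx
        have h2 := key q⁻¹ l (by
          rw [Subgroup.coe_inv, inv_pow, hl', inv_one]) _ hx
        have h3 : q⁻¹ * (q * x * q⁻¹) * q⁻¹⁻¹ = x := by group
        rwa [h3] at h2
    have h2 := IsPGroup.inf_normalizer_sylow Q.2 P
    intro x hx
    have h3 : x ∈ (Q : Subgroup A) ⊓ P := by
      rw [← h2]
      exact ⟨hx, h1 hx⟩
    exact h3.2
  have hPn : (P : Subgroup A).Normal := by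
    refine ⟨fun x hx g => ?_⟩
    apply hall (g • P)
    exact Subgroup.smul_mem_pointwise_smul _ (MulAut.conj g) (P : Subgroup A) hx
  obtain ⟨α, k, hα, hαN⟩ := ess_exists_pElement hH (P : Subgroup A) P.2
  apply hαN
  have hz : IsPGroup p (Subgroup.zpowers α) := by
    rintro ⟨g, hg⟩
    obtain ⟨n, rfl⟩ := (mem_powers_iff_mem_zpowers (x := α)).2 hg
    refine ⟨k, ?_⟩
    apply Subtype.ext
    show (α ^ n) ^ p ^ k = 1
    rw [← pow_mul, mul_comm, pow_mul, hα, one_pow]
  obtain ⟨Q, hQ⟩ := hz.exists_le_sylow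
  exact hall Q (hQ (Subgroup.mem_zpowers α))

/-! ### Versions of the coordinate lemmas for a `Group` instance -/

section coords

variable {V : Type*} [Group V] {p : ℕ} [hp : Fact p.Prime]

theorem comm_of_equiv (e : V ≃* Multiplicative (Fin 2 → ZMod p)) (x y : V) : x * y = y * x := by
  apply e.injective
  rw [map_mul, map_mul, mul_comm]

theorem eq_pow_mul_pow' {x y : V} (e : V ≃* Multiplicative (Fin 2 → ZMod p))
    (he1 : e x = Multiplicative.ofAdd ![1, 0]) (he2 : e y = Multiplicative.ofAdd ![0, 1]) (v : V) :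
    v = x ^ ((e v).toAdd 0).val * y ^ ((e v).toAdd 1).val := by
  let cg : CommGroup V := { (inferInstance : Group V) with mul_comm := comm_of_equiv e }
  exact eq_pow_mul_pow (V := V) e he1 he2 v

theorem aut_ext_coords' {x y : V} (e : V ≃* Multiplicative (Fin 2 → ZMod p))
    (he1 : e x = Multiplicative.ofAdd ![1, 0]) (he2 : e y = Multiplicative.ofAdd ![0, 1])
    {α β : MulAut V} (h1 : α x = β x) (h2 : α y = β y) : α = β := by
  let cg : CommGroup V := { (inferInstance : Group V) with mul_comm := comm_of_equiv e }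
  exact aut_ext_coords (V := V) e he1 he2 h1 h2

theorem congr_planeAct_apply' {x y : V} (e : V ≃* Multiplicative (Fin 2 → ZMod p))
    (he1 : e x = Multiplicative.ofAdd ![1, 0]) (he2 : e y = Multiplicative.ofAdd ![0, 1])
    (g : SpecialLinearGroup (Fin 2) (ZMod p)) :
    MulAut.congr e.symm (planeAct p g) x = x ^ (g.1 0 0).val * y ^ (g.1 1 0).val ∧
      MulAut.congr e.symm (planeAct p g) y = x ^ (g.1 0 1).val * y ^ (g.1 1 1).val := by
  let cg : CommGroup V := { (inferInstance : Group V) with mul_comm := comm_of_equiv e }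
  exact congr_planeAct_apply (V := V) e he1 he2 g

theorem exists_SL_two' (hc : ∀ x y : V, x * y = y * x)
    (hexp : ∀ v : V, v ^ p = 1) (hcard : Nat.card V = p ^ 2) (A : Subgroup (MulAut V))
    {a b : MulAut V} (ha : a ∈ A) (hb : b ∈ A) {k l : ℕ} (hak : a ^ p ^ k = 1)
    (hbl : b ^ p ^ l = 1) (hab : a * b ≠ b * a) :
    ∃ (x y : V) (e : V ≃* Multiplicative (Fin 2 → ZMod p)), a x = x ∧ b y = y ∧
      e x = Multiplicative.ofAdd ![1, 0] ∧ e y = Multiplicative.ofAdd ![0, 1] ∧
      ∀ g : SpecialLinearGroup (Fin 2) (ZMod p), MulAut.congr e.symm (planeAct p g) ∈ A := by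
  let cg : CommGroup V := { (inferInstance : Group V) with mul_comm := hc }
  exact exists_SL_two (V := V) hexp hcard A ha hb hak hbl hab

/-- The transformation `up c` in coordinates. -/
theorem congr_up_apply {x y : V} (e : V ≃* Multiplicative (Fin 2 → ZMod p))
    (he1 : e x = Multiplicative.ofAdd ![1, 0]) (he2 : e y = Multiplicative.ofAdd ![0, 1])
    (c : ZMod p) :
    MulAut.congr e.symm (planeAct p (up c)) x = x ∧
      MulAut.congr e.symm (planeAct p (up c)) y = x ^ c.val * y := by
  have h := congr_planeAct_apply' e he1 he2 (up c)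
  refine ⟨?_, ?_⟩
  · rw [h.1]; simp [up, ZMod.val_one]
  · rw [h.2]; simp [up, ZMod.val_one]

/-- The transformation `dg t` in coordinates. -/
theorem congr_dg_apply {x y : V} (e : V ≃* Multiplicative (Fin 2 → ZMod p))
    (he1 : e x = Multiplicative.ofAdd ![1, 0]) (he2 : e y = Multiplicative.ofAdd ![0, 1])
    (t : (ZMod p)ˣ) :
    MulAut.congr e.symm (planeAct p (dg t)) x = x ^ (t : ZMod p).val ∧
      MulAut.congr e.symm (planeAct p (dg t)) y = y ^ ((t⁻¹ : (ZMod p)ˣ) : ZMod p).val := by
  have h := congr_planeAct_apply' e he1 he2 (dg t)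
  refine ⟨?_, ?_⟩
  · rw [h.1]
    show x ^ (t : ZMod p).val * y ^ (0 : ZMod p).val = _
    rw [ZMod.val_zero, pow_zero, mul_one]
  · rw [h.2]
    show x ^ (0 : ZMod p).val * y ^ ((t⁻¹ : (ZMod p)ˣ) : ZMod p).val = _
    rw [ZMod.val_zero, pow_zero, one_mul]

end coords

/-- A frame at an essential subgroup `H` with Frattini quotient of order `p²`: coordinates on
`H / Φ(H)` such that `Aut_F(H)` induces all of `SL(2,p)` and `Aut_S(H)` induces exactly the upper unipotent
matrices. -/
structure Frame (F : FusionSystem S) (p : ℕ) [Fact p.Prime] (H : Subgroup Ω) (x y : H)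
    (e : (H ⧸ frattini H) ≃* Multiplicative (Fin 2 → ZMod p)) : Prop where
  ex : e (x : H ⧸ frattini H) = Multiplicative.ofAdd ![1, 0]
  ey : e (y : H ⧸ frattini H) = Multiplicative.ofAdd ![0, 1]
  sl : ∀ g : SpecialLinearGroup (Fin 2) (ZMod p), ∃ α ∈ F.autGroup H,
    barHom H α = MulAut.congr e.symm (planeAct p g)
  aut : ∀ β ∈ autInducedBy S H, ∃ c : ZMod p, barHom H β = MulAut.congr e.symm (planeAct p (up c))
  aut' : ∀ α ∈ F.autGroup H, ∀ c : ZMod p, barHom H α = MulAut.congr e.symm (planeAct p (up c)) →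
    α ∈ autInducedBy S H

theorem exists_frame {p : ℕ} [hp : Fact p.Prime] [Finite S] (hS : IsPGroup p S)
    {F : FusionSystem S} (hF : F.IsSaturated p) {H : Subgroup Ω} (hH : F.IsEssential p H)
    (hidx : (frattini H).index = p ^ 2) :
    ∃ (x y : H) (e : (H ⧸ frattini H) ≃* Multiplicative (Fin 2 → ZMod p)), Frame F p H x y e := by
  have hle := ess_le hH
  have : Finite H := finite_of_le hle
  have hHp : IsPGroup p H := hS.to_le hle
  obtain ⟨a, b, k, l, ha, hb, hak, hbl, hab⟩ := ess_exists_noncomm_bar hS hF hH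
  have hVc : Nat.card (H ⧸ frattini H) = p ^ 2 := hidx
  have hcomm : ∀ u v : H ⧸ frattini H, u * v = v * u := by
    intro u v
    obtain ⟨u, rfl⟩ := QuotientGroup.mk_surjective u
    obtain ⟨v, rfl⟩ := QuotientGroup.mk_surjective v
    rw [← QuotientGroup.mk_mul, ← QuotientGroup.mk_mul, QuotientGroup.eq]
    have h1 := Cfsg.Agent.Lib.FrattiniPGroup.commutator_le_frattini hHp
      (Subgroup.commutator_mem_commutator (Subgroup.mem_top v⁻¹) (Subgroup.mem_top u⁻¹))
    rw [commutatorElement_def] at h1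
    have h2 : (u * v)⁻¹ * (v * u) = v⁻¹ * u⁻¹ * v⁻¹⁻¹ * u⁻¹⁻¹ := by group
    rw [h2]
    exact h1
  have hexp : ∀ v : H ⧸ frattini H, v ^ p = 1 := by
    intro v
    obtain ⟨v, rfl⟩ := QuotientGroup.mk_surjective v
    rw [← QuotientGroup.mk_pow, QuotientGroup.eq_one_iff]
    exact Cfsg.Agent.Lib.FrattiniPGroup.pow_mem_frattini hHp v
  have haF := autInducedBy_le_autGroup F hle ha
  obtain ⟨x, y, e, hax, hby, he1, he2, hA⟩ := exists_SL_two' hcomm hexp hVc
    ((F.autGroup H).map (barHom H)) (a := barHom H a) (b := barHom H b) ⟨a, haF, rfl⟩ ⟨b, hb, rfl⟩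
    (k := k) (l := l) (by rw [← map_pow, hak, map_one]) (by rw [← map_pow, hbl, map_one]) hab
  obtain ⟨x, rfl⟩ := QuotientGroup.mk_surjective x
  obtain ⟨y, rfl⟩ := QuotientGroup.mk_surjective y
  have hx1 : (x : H ⧸ frattini H) ≠ 1 := by
    intro h
    rw [h, map_one] at he1
    have h1 : (Multiplicative.toAdd (1 : Multiplicative (Fin 2 → ZMod p))) 0 = 1 := by
      rw [he1]; rfl
    have h2 : (0 : ZMod p) = 1 := h1
    exact zero_ne_one h2
  -- the quotient by `⟨x⟩` has order `p`
  have hxidx : (Subgroup.zpowers (x : H ⧸ frattini H)).relIndex ⊤ = p := by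
    rw [Subgroup.relIndex_top_right]
    have h1 : orderOf (x : H ⧸ frattini H) = p := orderOf_eq_prime (hexp _) hx1
    have h2 : Nat.card (Subgroup.zpowers (x : H ⧸ frattini H)) = p := by rw [Nat.card_zpowers, h1]
    have h3 := Subgroup.card_mul_index (Subgroup.zpowers (x : H ⧸ frattini H))
    rw [h2, hVc, sq] at h3
    exact Nat.eq_of_mul_eq_mul_left hp.out.pos h3
  -- an automorphism of p-power order fixing `x` is `up c`
  have hupc : ∀ (c : MulAut (H ⧸ frattini H)) (m : ℕ), c ^ p ^ m = 1 →
      c (x : H ⧸ frattini H) = x → ∃ t : ZMod p, c = MulAut.congr e.symm (planeAct p (up t)) := by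
    intro c m hc hcx
    have h1 : (y : H ⧸ frattini H)⁻¹ * c y ∈ Subgroup.zpowers (x : H ⧸ frattini H) := by
      refine pAut_trivial_section c hc (L := Subgroup.zpowers (x : H ⧸ frattini H)) (K := ⊤) ?_
        (fun _ _ => trivial) (Or.inr hxidx) y trivial
      rintro w ⟨n, rfl⟩
      show c ((x : H ⧸ frattini H) ^ n) ∈ _
      rw [map_zpow, hcx]
      exact Subgroup.zpow_mem _ (Subgroup.mem_zpowers _) n
    obtain ⟨m, hm⟩ := h1
    have hm' : (x : H ⧸ frattini H) ^ m = (y : H ⧸ frattini H)⁻¹ * c y := hm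
    refine ⟨(m : ZMod p), ?_⟩
    have h2 := congr_up_apply e he1 he2 (m : ZMod p)
    apply aut_ext_coords' e he1 he2
    · rw [h2.1, hcx]
    · rw [h2.2]
      have h3 : (x : H ⧸ frattini H) ^ (m : ZMod p).val = (x : H ⧸ frattini H) ^ m := by
        have h4 : (x : H ⧸ frattini H) ^ ((((m : ZMod p).val : ℕ) : ℤ) - m) = 1 := by
          have h5 : (p : ℤ) ∣ ((((m : ZMod p).val : ℕ) : ℤ) - m) := by
            rw [← ZMod.intCast_zmod_eq_zero_iff_dvd]
            push_cast
            rw [ZMod.natCast_zmod_val, sub_self]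
          obtain ⟨r, hr⟩ := h5
          rw [hr, zpow_mul, zpow_natCast, hexp, one_zpow]
        rw [zpow_sub, mul_inv_eq_one, zpow_natCast] at h4
        exact h4
      rw [h3, hm', hcomm]
      group
  -- `a` acts as `up t₀`, `t₀ ≠ 0`
  obtain ⟨t0, ht0⟩ := hupc (barHom H a) k (by rw [← map_pow, hak, map_one]) hax
  have ht0' : t0 ≠ 0 := by
    rintro rfl
    apply hab
    have h1 : up (0 : ZMod p) = 1 := Cfsg.Agent.ClassicalGeometry.SplitTorus.up_zero
    rw [ht0, h1, map_one, map_one, one_mul, mul_one]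
  -- fixed points of `a`
  have hfix : ∀ v : H ⧸ frattini H, barHom H a v = v → v ∈ Subgroup.zpowers (x : H ⧸ frattini H) := by
    intro v hv
    have h1 := eq_pow_mul_pow' e he1 he2 v
    have h2 := congr_up_apply e he1 he2 t0
    rw [ht0] at hv
    by_cases h0 : ((e v).toAdd 1) = 0
    · rw [h1, h0, ZMod.val_zero, pow_zero, mul_one]
      exact Subgroup.npow_mem_zpowers _ _
    · exfalso
      set i := ((e v).toAdd 0).val
      set j := ((e v).toAdd 1) with hj
      rw [h1, map_mul, map_pow, map_pow, h2.1, h2.2] at hv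
      have h3 : ((x : H ⧸ frattini H) ^ t0.val * (y : H ⧸ frattini H)) ^ j.val =
          (y : H ⧸ frattini H) ^ j.val := mul_left_cancel hv
      have h4 : Commute ((x : H ⧸ frattini H) ^ t0.val) (y : H ⧸ frattini H) := hcomm _ _
      rw [h4.mul_pow, mul_eq_right, ← pow_mul] at h3
      have h5 := orderOf_dvd_of_pow_eq_one h3
      rw [orderOf_eq_prime (hexp _) hx1, hp.out.dvd_mul] at h5
      rcases h5 with h5 | h5
      · have h6 := Nat.eq_zero_of_dvd_of_lt h5 (ZMod.val_lt _)
        rw [ZMod.val_eq_zero] at h6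
        exact ht0' h6
      · have h6 := Nat.eq_zero_of_dvd_of_lt h5 (ZMod.val_lt _)
        rw [ZMod.val_eq_zero] at h6
        exact h0 h6
  -- `Aut_S(H)` fixes `x`
  have hSfix : ∀ β ∈ autInducedBy S H, barHom H β (x : H ⧸ frattini H) = x := by
    have hSp : IsPGroup p (autInducedBy S H) := isPGroup_autInducedBy hS H
    let act : MulAction (autInducedBy S H) (H ⧸ frattini H) :=
      MulAction.compHom (H ⧸ frattini H) ((barHom H).comp (autInducedBy S H).subtype)
    have hsm : ∀ (β : autInducedBy S H) (v : H ⧸ frattini H), β • v = barHom H β v := fun _ _ => rfl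
    have hmod := hSp.card_modEq_card_fixedPoints (H ⧸ frattini H)
    have h0 : Nat.card (MulAction.fixedPoints (autInducedBy S H) (H ⧸ frattini H)) ≡ 0 [MOD p] := by
      refine hmod.symm.trans ?_
      rw [hVc]
      exact (Nat.modEq_zero_iff_dvd.2 (dvd_pow_self p two_ne_zero))
    have hone : (1 : H ⧸ frattini H) ∈ MulAction.fixedPoints (autInducedBy S H) (H ⧸ frattini H) := by
      intro g
      rw [hsm, map_one]
    have hpos : 0 < Nat.card (MulAction.fixedPoints (autInducedBy S H) (H ⧸ frattini H)) := by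
      have : Nonempty (MulAction.fixedPoints (autInducedBy S H) (H ⧸ frattini H)) := ⟨⟨_, hone⟩⟩
      exact Nat.card_pos
    have hge : p ≤ Nat.card (MulAction.fixedPoints (autInducedBy S H) (H ⧸ frattini H)) :=
      Nat.le_of_dvd hpos ((Nat.modEq_zero_iff_dvd).1 h0)
    obtain ⟨w, hw, hw1⟩ : ∃ w ∈ MulAction.fixedPoints (autInducedBy S H) (H ⧸ frattini H), w ≠ 1 := by
      by_contra hcon
      push Not at hcon
      have hsub : (MulAction.fixedPoints (autInducedBy S H) (H ⧸ frattini H)) ⊆ {1} := by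
        intro x hx
        exact hcon x hx
      have h5 : (MulAction.fixedPoints (autInducedBy S H) (H ⧸ frattini H)).ncard ≤
          ({1} : Set (H ⧸ frattini H)).ncard := Set.ncard_le_ncard hsub
      rw [Set.ncard_singleton] at h5
      have h6 : Nat.card (MulAction.fixedPoints (autInducedBy S H) (H ⧸ frattini H)) =
        (MulAction.fixedPoints (autInducedBy S H) (H ⧸ frattini H)).ncard := rfl
      rw [h6] at hge
      have := hp.out.two_le
      omega
    have hwx := hfix w (hw ⟨a, ha⟩)
    have hxw : (x : H ⧸ frattini H) ∈ Subgroup.zpowers w := by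
      have h1 : Subgroup.zpowers w = Subgroup.zpowers (x : H ⧸ frattini H) := by
        apply Subgroup.eq_of_le_of_card_ge
        · rw [Subgroup.zpowers_le]
          exact hwx
        · rw [Nat.card_zpowers, Nat.card_zpowers, orderOf_eq_prime (hexp _) hx1,
            orderOf_eq_prime (hexp _) hw1]
      rw [h1]
      exact Subgroup.mem_zpowers _
    intro β hβ
    obtain ⟨n, hn⟩ := hxw
    have hn' : w ^ n = (x : H ⧸ frattini H) := hn
    rw [← hn', map_zpow]
    have h2 : barHom H β w = w := hw ⟨β, hβ⟩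
    rw [h2]
  refine ⟨x, y, e, he1, he2, ?_, ?_, ?_⟩
  · intro g
    obtain ⟨α, hα, hαe⟩ := hA g
    exact ⟨α, hα, hαe⟩
  · intro β hβ
    obtain ⟨m, hm⟩ := isPGroup_autInducedBy hS H ⟨β, hβ⟩
    have hm' : β ^ p ^ m = 1 := congrArg Subtype.val hm
    exact hupc (barHom H β) m (by rw [← map_pow, hm', map_one]) (hSfix β hβ)
  · intro α hα c hc
    -- a power of `a` has the same action
    have hpow : ∀ n : ℕ, barHom H (a ^ n) = MulAut.congr e.symm (planeAct p (up (n * t0))) := by
      intro n
      rw [map_pow, ht0, ← map_pow, ← map_pow]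
      congr 2
      induction n with
      | zero => simp [Cfsg.Agent.ClassicalGeometry.SplitTorus.up_zero]
      | succ n ih =>
        rw [pow_succ, ih, ← Cfsg.Agent.ClassicalGeometry.SplitTorus.up_add]
        congr 1
        push_cast
        ring
    have h1 : barHom H (a ^ (c * t0⁻¹).val) = barHom H α := by
      rw [hpow, hc, ZMod.natCast_zmod_val, mul_assoc, inv_mul_cancel₀ ht0', mul_one]
    have h2 : α * (a ^ (c * t0⁻¹).val)⁻¹ ∈ Inn H := by
      refine ess_faithful hS hH ((F.autGroup H).mul_mem hα ((F.autGroup H).inv_mem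
        ((F.autGroup H).pow_mem haF _))) ?_
      rw [← barHom_eq_one_iff, map_mul, map_inv, h1, mul_inv_cancel]
    have h3 := (autInducedBy S H).mul_mem (inn_le_autInducedBy hle h2)
      ((autInducedBy S H).pow_mem ha (c * t0⁻¹).val)
    rwa [inv_mul_cancel_right] at h3

end Cfsg.Agent.H766
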