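import Mathlib

/-!
# Isomorphisms of polycyclic `p`-groups from relations (helper766)
-/

set_option autoImplicit false

namespace Cfsg.Agent.H766

open scoped commutatorElement

/-- `|K ⟨x⟩| ≤ p |K|` if `x` normalizes `K` and `x ^ p ∈ K`. -/
theorem card_sup_zpowers_le {G : Type*} [Group G] [Finite G] (K : Subgroup G) (x : G)
    (hx : ∀ k ∈ K, x * k * x⁻¹ ∈ K) {p : ℕ} (hp : 0 < p) (hxp : x ^ p ∈ K) :
    Nat.card (K ⊔ Subgroup.zpowers x : Subgroup G) ≤ p * Nat.card K := by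
  -- `x` normalizes `K`
  have hxN : x ∈ Subgroup.normalizer (K : Set G) := by
    have hle : K.map (MulAut.conj x).toMonoidHom ≤ K := by
      rintro _ ⟨z, hz, rfl⟩
      exact hx z hz
    have hcard : Nat.card (K.map (MulAut.conj x).toMonoidHom) = Nat.card K :=
      Nat.card_congr (K.equivMapOfInjective _ (MulAut.conj x).injective).symm.toEquiv
    have heq : K.map (MulAut.conj x).toMonoidHom = K :=
      Subgroup.eq_of_le_of_card_ge hle hcard.ge
    refine Subgroup.mem_normalizer_iff.2 fun z => ⟨hx z, fun hz => ?_⟩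
    have hz' : x * z * x⁻¹ ∈ K.map (MulAut.conj x).toMonoidHom := by
      rw [heq]
      exact hz
    obtain ⟨v, hv, hve⟩ := hz'
    have : x * v * x⁻¹ = x * z * x⁻¹ := hve
    have hwz : v = z := mul_left_cancel (mul_right_cancel this)
    rw [← hwz]
    exact hv
  have hz : ∀ (z : ℤ), ∀ k ∈ K, x ^ z * k * (x ^ z)⁻¹ ∈ K := fun z k hk =>
    (Subgroup.mem_normalizer_iff.1 (zpow_mem hxN z) k).1 hk
  let T : Subgroup G :=
    { carrier := {g | ∃ k ∈ K, ∃ z : ℤ, g = k * x ^ z}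
      one_mem' := ⟨1, K.one_mem, 0, by simp⟩
      mul_mem' := by
        rintro _ _ ⟨k, hk, z, rfl⟩ ⟨l, hl, w, rfl⟩
        refine ⟨k * (x ^ z * l * (x ^ z)⁻¹), K.mul_mem hk (hz z l hl), z + w, ?_⟩
        rw [zpow_add]
        group
      inv_mem' := by
        rintro _ ⟨k, hk, z, rfl⟩
        refine ⟨x ^ (-z) * k⁻¹ * (x ^ (-z))⁻¹, hz (-z) _ (K.inv_mem hk), -z, ?_⟩
        group }
  have hle : K ⊔ Subgroup.zpowers x ≤ T := by
    rw [sup_le_iff, Subgroup.zpowers_le]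
    exact ⟨fun k hk => ⟨k, hk, 0, by simp⟩, ⟨1, K.one_mem, 1, by simp⟩⟩
  have hsurj : ∀ t : T, ∃ a : K × Fin p, (a.1 : G) * x ^ (a.2 : ℕ) = t := by
    rintro ⟨_, k, hk, z, rfl⟩
    have hp' : (0 : ℤ) < p := by exact_mod_cast hp
    have h1 : 0 ≤ z % p := Int.emod_nonneg _ hp'.ne'
    have h2 : z % p < p := Int.emod_lt_of_pos _ hp'
    refine ⟨(⟨k * (x ^ p) ^ (z / p), K.mul_mem hk (K.zpow_mem hxp _)⟩,
      ⟨(z % p).toNat, by omega⟩), ?_⟩
    show k * (x ^ p) ^ (z / p) * x ^ (z % p).toNat = k * x ^ z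
    rw [← zpow_natCast x (z % p).toNat, Int.toNat_of_nonneg h1, ← zpow_natCast, ← zpow_mul,
      mul_assoc, ← zpow_add, Int.mul_ediv_add_emod]
  have hcard : Nat.card T ≤ Nat.card (K × Fin p) := by
    choose f hf using hsurj
    apply Nat.card_le_card_of_injective f
    intro a b hab
    apply Subtype.ext
    rw [← hf a, ← hf b, hab]
  rw [Nat.card_prod, Nat.card_fin, mul_comm] at hcard
  exact (Subgroup.card_le_of_le hle).trans hcard

/-- Isomorphism from a diagonal subgroup. -/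
theorem equiv_of_closure {G H : Type*} [Group G] [Group H] [Finite G] [Finite H] (s : Set (G × H))
    (h1 : Subgroup.closure (Prod.fst '' s) = ⊤) (h2 : Subgroup.closure (Prod.snd '' s) = ⊤)
    (hle1 : Nat.card (Subgroup.closure s) ≤ Nat.card G)
    (hle2 : Nat.card (Subgroup.closure s) ≤ Nat.card H) : Nonempty (G ≃* H) := by
  set D := Subgroup.closure s with hD
  let f : D →* G := (MonoidHom.fst G H).comp D.subtype
  let g : D →* H := (MonoidHom.snd G H).comp D.subtype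
  have hf : Function.Surjective f := by
    rw [← MonoidHom.range_eq_top, MonoidHom.range_comp, Subgroup.range_subtype, hD,
      MonoidHom.map_closure]
    exact h1
  have hg : Function.Surjective g := by
    rw [← MonoidHom.range_eq_top, MonoidHom.range_comp, Subgroup.range_subtype, hD,
      MonoidHom.map_closure]
    exact h2
  have hfb : Function.Bijective f := (Nat.bijective_iff_surjective_and_card f).2
    ⟨hf, le_antisymm hle1 (Nat.card_le_card_of_surjective f hf)⟩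
  have hgb : Function.Bijective g := (Nat.bijective_iff_surjective_and_card g).2
    ⟨hg, le_antisymm hle2 (Nat.card_le_card_of_surjective g hg)⟩
  exact ⟨(MulEquiv.ofBijective f hfb).symm.trans (MulEquiv.ofBijective g hgb)⟩

/-- The relations of `C_p^3 ⋊ C_p` (one Jordan block). -/
structure Rel4 {G : Type*} [Group G] (p : ℕ) (a0 a1 a2 x : G) : Prop where
  c01 : a0 * a1 = a1 * a0
  c02 : a0 * a2 = a2 * a0
  c12 : a1 * a2 = a2 * a1
  r0 : x * a0 = a0 * a1 * x
  r1 : x * a1 = a1 * a2 * x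
  r2 : x * a2 = a2 * x
  o0 : a0 ^ p = 1
  o1 : a1 ^ p = 1
  o2 : a2 ^ p = 1
  ox : x ^ p = 1

theorem Rel4.prod {G H : Type*} [Group G] [Group H] {p : ℕ} {a0 a1 a2 x : G} {b0 b1 b2 y : H}
    (h : Rel4 p a0 a1 a2 x) (k : Rel4 p b0 b1 b2 y) :
    Rel4 p (a0, b0) (a1, b1) (a2, b2) (x, y) :=
  ⟨Prod.ext h.c01 k.c01, Prod.ext h.c02 k.c02, Prod.ext h.c12 k.c12, Prod.ext h.r0 k.r0,
    Prod.ext h.r1 k.r1, Prod.ext h.r2 k.r2, Prod.ext h.o0 k.o0, Prod.ext h.o1 k.o1,
    Prod.ext h.o2 k.o2, Prod.ext h.ox k.ox⟩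

/-- A subgroup of the form `K ⊔ ⟨a⟩` is stable under conjugation by `x` if `K` is and `x a x⁻¹` is in it. -/
theorem conj_mem_sup {G : Type*} [Group G] {K : Subgroup G} {a x : G}
    (hK : ∀ k ∈ K, x * k * x⁻¹ ∈ K) (ha : x * a * x⁻¹ ∈ K ⊔ Subgroup.zpowers a) :
    ∀ k ∈ K ⊔ Subgroup.zpowers a, x * k * x⁻¹ ∈ K ⊔ Subgroup.zpowers a := by
  have hle : K ⊔ Subgroup.zpowers a ≤ (K ⊔ Subgroup.zpowers a).comap (MulAut.conj x).toMonoidHom := by
    rw [sup_le_iff, Subgroup.zpowers_le]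
    exact ⟨fun k hk => Subgroup.mem_sup_left (hK k hk), ha⟩
  exact fun k hk => hle hk

theorem Rel4.card_le {G : Type*} [Group G] [Finite G] {p : ℕ} (hp : 0 < p) {a0 a1 a2 x : G}
    (h : Rel4 p a0 a1 a2 x) : Nat.card (Subgroup.closure {a0, a1, a2, x}) ≤ p ^ 4 := by
  have hbot : ∀ x : G, ∀ k ∈ (⊥ : Subgroup G), x * k * x⁻¹ ∈ (⊥ : Subgroup G) := by
    intro x k hk
    rw [Subgroup.mem_bot] at hk ⊢
    rw [hk]; group
  set K1 := (⊥ : Subgroup G) ⊔ Subgroup.zpowers a2 with hK1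
  set K2 := K1 ⊔ Subgroup.zpowers a1 with hK2
  set K3 := K2 ⊔ Subgroup.zpowers a0 with hK3
  set K4 := K3 ⊔ Subgroup.zpowers x with hK4
  have m21 : a2 ∈ K1 := Subgroup.mem_sup_right (Subgroup.mem_zpowers _)
  have m12 : a1 ∈ K2 := Subgroup.mem_sup_right (Subgroup.mem_zpowers _)
  have m22 : a2 ∈ K2 := Subgroup.mem_sup_left m21
  have m03 : a0 ∈ K3 := Subgroup.mem_sup_right (Subgroup.mem_zpowers _)
  have m13 : a1 ∈ K3 := Subgroup.mem_sup_left m12
  have m23 : a2 ∈ K3 := Subgroup.mem_sup_left m22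
  have cj : ∀ {u v w : G}, u * v = w * u → u * v * u⁻¹ = w := by
    intro u v w huv
    rw [huv, mul_inv_cancel_right]
  have n1 : ∀ y : G, y * a2 = a2 * y → ∀ k ∈ K1, y * k * y⁻¹ ∈ K1 := fun y hy =>
    conj_mem_sup (hbot y) (by rw [cj hy]; exact m21)
  have n2 : ∀ y : G, y * a2 = a2 * y → y * a1 * y⁻¹ ∈ K2 → ∀ k ∈ K2, y * k * y⁻¹ ∈ K2 :=
    fun y hy hy1 => conj_mem_sup (n1 y hy) hy1
  have c1 : Nat.card K1 ≤ p := by
    have := card_sup_zpowers_le (⊥ : Subgroup G) a2 (hbot a2) hp (by rw [h.o2]; exact one_mem _)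
    rwa [Subgroup.card_bot, mul_one] at this
  have c2 : Nat.card K2 ≤ p * Nat.card K1 :=
    card_sup_zpowers_le K1 a1 (n1 a1 h.c12) hp (by rw [h.o1]; exact one_mem _)
  have c3 : Nat.card K3 ≤ p * Nat.card K2 :=
    card_sup_zpowers_le K2 a0 (n2 a0 h.c02 (by rw [cj h.c01]; exact m12)) hp
      (by rw [h.o0]; exact one_mem _)
  have c4 : Nat.card K4 ≤ p * Nat.card K3 :=
    card_sup_zpowers_le K3 x (conj_mem_sup (n2 x h.r2 (by
      rw [cj h.r1]; exact mul_mem m12 m22)) (by rw [cj h.r0]; exact mul_mem m03 m13)) hp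
      (by rw [h.ox]; exact one_mem _)
  have hle : Subgroup.closure {a0, a1, a2, x} ≤ K4 := by
    rw [Subgroup.closure_le]
    rintro g (rfl | rfl | rfl | rfl)
    · exact Subgroup.mem_sup_left m03
    · exact Subgroup.mem_sup_left m13
    · exact Subgroup.mem_sup_left m23
    · exact Subgroup.mem_sup_right (Subgroup.mem_zpowers _)
  calc Nat.card (Subgroup.closure {a0, a1, a2, x}) ≤ Nat.card K4 := Subgroup.card_le_of_le hle
    _ ≤ p * (p * (p * p)) :=
      c4.trans (Nat.mul_le_mul_left p (c3.trans (Nat.mul_le_mul_left p (c2.trans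
        (Nat.mul_le_mul_left p c1)))))
    _ = p ^ 4 := by ring

/-- Uniqueness of the group with these relations. -/
theorem Rel4.equiv {G H : Type*} [Group G] [Group H] [Finite G] [Finite H] {p : ℕ} (hp : 0 < p)
    {a0 a1 a2 x : G} {b0 b1 b2 y : H}
    (h : Rel4 p a0 a1 a2 x) (k : Rel4 p b0 b1 b2 y) (hG : Subgroup.closure {a0, a1, a2, x} = ⊤)
    (hH : Subgroup.closure {b0, b1, b2, y} = ⊤) (cG : Nat.card G = p ^ 4) (cH : Nat.card H = p ^ 4) :
    Nonempty (G ≃* H) := by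
  refine equiv_of_closure {(a0, b0), (a1, b1), (a2, b2), (x, y)} ?_ ?_ ?_ ?_
  · rw [← hG]
    congr 1
    simp [Set.image_insert_eq]
  · rw [← hH]
    congr 1
    simp [Set.image_insert_eq]
  · rw [cG]
    exact (h.prod k).card_le hp
  · rw [cH]
    exact (h.prod k).card_le hp

end Cfsg.Agent.H766
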