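import Cfsg.Agent.H638.G2Iso
import Cfsg.Agent.H766.PolyIso

/-!
# A subgroup of `G₂(7)` generated by five elements with given relations (helper766)

`exists_rel5`: for `1 ≤ k < 7` there are `a1, …, a4, x` in `Cfsg.Lie.G2 (ZMod 7)` with the relations `Rel5 7 k` and
`a4 ≠ 1` (with `x = x_a(1) x_b(1)`, `a1 = x_{a+b}(k)`); `card_sylow`: the Sylow 7-subgroups of `G₂(7)` have order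
`7 ^ 6`.
-/

set_option autoImplicit false

namespace Cfsg.Agent.H766

/-- The relations of a group of order `p ^ 5` of maximal class with a non-abelian largest two-step centralizer. -/
structure Rel5 {G : Type*} [Group G] (p k : ℕ) (a1 a2 a3 a4 x : G) : Prop where
  c12 : a1 * a2 = a2 * a1 * a4 ^ k
  c13 : a1 * a3 = a3 * a1
  c14 : a1 * a4 = a4 * a1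
  c23 : a2 * a3 = a3 * a2
  c24 : a2 * a4 = a4 * a2
  c34 : a3 * a4 = a4 * a3
  r1 : x * a1 = a1 * a2 * x
  r2 : x * a2 = a2 * a3 * x
  r3 : x * a3 = a3 * a4 * x
  r4 : x * a4 = a4 * x
  o1 : a1 ^ p = 1
  o2 : a2 ^ p = 1
  o3 : a3 ^ p = 1
  o4 : a4 ^ p = 1
  ox : x ^ p = 1

namespace GMax

open Matrix Cfsg.Lie Cfsg.Agent.H638.G2Rep Cfsg.Agent.H638.G2Link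

/-- Matrices over `ZMod 7` as lists. -/
abbrev LL := List (List ℕ)

/-- The product. -/
def mm (A B : LL) : LL :=
  (List.range 8).map fun i => (List.range 8).map fun j =>
    ((List.range 8).map fun k => (A.getD i []).getD k 0 * (B.getD k []).getD j 0).sum % 7

/-- The matrix of a list. -/
def toM (A : LL) : Matrix (Fin 8) (Fin 8) (ZMod 7) := fun i j => (((A.getD i []).getD j 0 : ℕ) : ZMod 7)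

theorem getD_map_range {α : Type*} (f : ℕ → α) (n : ℕ) (d : α) (i : Fin n) :
    ((List.range n).map f).getD i d = f i := by
  rw [List.getD_eq_getElem _ _ (by simp)]
  simp

theorem toM_mm (A B : LL) : toM (mm A B) = toM A * toM B := by
  ext i j
  rw [Matrix.mul_apply]
  simp only [toM, mm]
  rw [getD_map_range _ 8 [] i, getD_map_range _ 8 0 j]
  rw [ZMod.natCast_mod, Nat.cast_list_sum, List.map_map, Fin.sum_univ_eight]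
  simp [List.range_succ]
  ring

instance fact7 : Fact (Nat.Prime 7) := ⟨by norm_num⟩

/-- `P` represents `g` and its inverse. -/
structure Rep (g : G2 (ZMod 7)) (P : LL × LL) : Prop where
  val : ((g : GL (Fin 8) (ZMod 7)) : Matrix (Fin 8) (Fin 8) (ZMod 7)) = toM P.1
  inv : (((g⁻¹ : G2 (ZMod 7)) : GL (Fin 8) (ZMod 7)) : Matrix (Fin 8) (Fin 8) (ZMod 7)) = toM P.2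

/-- The product of pairs. -/
def ml (P Q : LL × LL) : LL × LL := (mm P.1 Q.1, mm Q.2 P.2)
/-- The inverse. -/
def iv (P : LL × LL) : LL × LL := (P.2, P.1)
/-- `s⁻¹ (y s y⁻¹)`. -/
def dd (Y P : LL × LL) : LL × LL := ml (iv P) (ml (ml Y P) (iv Y))

theorem Rep.mul {g h : G2 (ZMod 7)} {P Q : LL × LL} (hg : Rep g P) (hh : Rep h Q) :
    Rep (g * h) (ml P Q) := by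
  constructor
  · rw [Subgroup.coe_mul, Units.val_mul, hg.val, hh.val, ml, toM_mm]
  · rw [_root_.mul_inv_rev, Subgroup.coe_mul, Units.val_mul, hg.inv, hh.inv, ml, toM_mm]

theorem Rep.iv {g : G2 (ZMod 7)} {P : LL × LL} (hg : Rep g P) : Rep g⁻¹ (iv P) :=
  ⟨hg.inv, by rw [inv_inv]; exact hg.val⟩

theorem Rep.dd {g h : G2 (ZMod 7)} {P Q : LL × LL} (hg : Rep g P) (hh : Rep h Q) :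
    Rep (h⁻¹ * (g * h * g⁻¹)) (dd P Q) :=
  hh.iv.mul ((hg.mul hh).mul hg.iv)

theorem Rep.eq {g h : G2 (ZMod 7)} {P Q : LL × LL} (hg : Rep g P) (hh : Rep h Q) (e : P.1 = Q.1) :
    g = h := by
  apply Subtype.ext
  apply Units.ext
  rw [hg.val, hh.val, e]

/-- The identity matrix. -/
def l1 : LL := [[1, 0, 0, 0, 0, 0, 0, 0], [0, 1, 0, 0, 0, 0, 0, 0], [0, 0, 1, 0, 0, 0, 0, 0], [0, 0, 0, 1, 0, 0, 0, 0], [0, 0, 0, 0, 1, 0, 0, 0], [0, 0, 0, 0, 0, 1, 0, 0], [0, 0, 0, 0, 0, 0, 1, 0], [0, 0, 0, 0, 0, 0, 0, 1]]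

theorem rep_one : Rep 1 (l1, l1) := by
  have h : toM l1 = 1 := by decide +kernel
  constructor
  · rw [h]; rfl
  · rw [inv_one, h]; rfl

/-- Powers. -/
def pw (P : LL × LL) : ℕ → LL × LL
  | 0 => (l1, l1)
  | n + 1 => ml (pw P n) P

theorem Rep.pow {g : G2 (ZMod 7)} {P : LL × LL} (hg : Rep g P) (n : ℕ) : Rep (g ^ n) (pw P n) := by
  induction n with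
  | zero => rw [pow_zero]; exact rep_one
  | succ n ih => rw [pow_succ]; exact ih.mul hg

/-- The element `x_r(t)`. -/
def gg (r : Fin chevG2.nroots) (t : ZMod 7) : G2 (ZMod 7) := ⟨yG r t, yG_mem r t⟩

/-- Table of `x`. -/
def ty : LL × LL := ([[1, 0, 0, 0, 1, 6, 0, 0], [6, 1, 0, 0, 6, 1, 0, 1], [0, 1, 1, 0, 0, 0, 0, 0], [0, 0, 0, 1, 0, 0, 0, 0], [0, 0, 0, 0, 1, 6, 0, 0], [0, 0, 0, 1, 0, 1, 0, 0], [0, 6, 6, 0, 0, 0, 1, 0], [0, 0, 0, 0, 6, 1, 0, 1]],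
    [[1, 0, 0, 0, 6, 0, 0, 0], [1, 1, 0, 0, 6, 0, 0, 6], [6, 6, 1, 0, 1, 0, 0, 1], [0, 0, 0, 1, 0, 0, 0, 0], [0, 0, 0, 6, 1, 1, 0, 0], [0, 0, 0, 6, 0, 1, 0, 0], [0, 0, 1, 0, 0, 0, 1, 0], [0, 0, 0, 0, 1, 0, 0, 1]])

/-- Table of `x_a(1)`. -/
def ta : LL × LL := ([[1, 0, 0, 0, 1, 0, 0, 0], [6, 1, 0, 0, 6, 0, 0, 1], [0, 0, 1, 0, 0, 0, 0, 0], [0, 0, 0, 1, 0, 0, 0, 0], [0, 0, 0, 0, 1, 0, 0, 0], [0, 0, 0, 1, 0, 1, 0, 0], [0, 0, 6, 0, 0, 0, 1, 0], [0, 0, 0, 0, 6, 0, 0, 1]],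
    [[1, 0, 0, 0, 6, 0, 0, 0], [1, 1, 0, 0, 6, 0, 0, 6], [0, 0, 1, 0, 0, 0, 0, 0], [0, 0, 0, 1, 0, 0, 0, 0], [0, 0, 0, 0, 1, 0, 0, 0], [0, 0, 0, 6, 0, 1, 0, 0], [0, 0, 1, 0, 0, 0, 1, 0], [0, 0, 0, 0, 1, 0, 0, 1]])

/-- Table of `x_b(1)`. -/
def tb : LL × LL := ([[1, 0, 0, 0, 0, 0, 0, 0], [0, 1, 0, 0, 0, 0, 0, 0], [0, 1, 1, 0, 0, 0, 0, 0], [0, 0, 0, 1, 0, 0, 0, 0], [0, 0, 0, 0, 1, 6, 0, 0], [0, 0, 0, 0, 0, 1, 0, 0], [0, 0, 0, 0, 0, 0, 1, 0], [0, 0, 0, 0, 0, 0, 0, 1]],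
    [[1, 0, 0, 0, 0, 0, 0, 0], [0, 1, 0, 0, 0, 0, 0, 0], [0, 6, 1, 0, 0, 0, 0, 0], [0, 0, 0, 1, 0, 0, 0, 0], [0, 0, 0, 0, 1, 1, 0, 0], [0, 0, 0, 0, 0, 1, 0, 0], [0, 0, 0, 0, 0, 0, 1, 0], [0, 0, 0, 0, 0, 0, 0, 1]])

/-- Table of `x ^ 2`. -/
def ty2 : LL × LL := ([[1, 0, 0, 6, 2, 4, 0, 0], [5, 1, 0, 1, 3, 5, 0, 2], [6, 2, 1, 0, 6, 1, 0, 1], [0, 0, 0, 1, 0, 0, 0, 0], [0, 0, 0, 6, 1, 5, 0, 0], [0, 0, 0, 2, 0, 1, 0, 0], [1, 4, 5, 0, 1, 6, 1, 6], [0, 0, 0, 1, 5, 3, 0, 1]],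
    [[1, 0, 0, 1, 5, 6, 0, 0], [2, 1, 0, 1, 3, 6, 0, 5], [4, 5, 1, 6, 5, 1, 0, 3], [0, 0, 0, 1, 0, 0, 0, 0], [0, 0, 0, 4, 1, 2, 0, 0], [0, 0, 0, 5, 0, 1, 0, 0], [6, 6, 2, 0, 1, 0, 1, 1], [0, 0, 0, 6, 2, 1, 0, 1]])

/-- Table of `x ^ 4`. -/
def ty4 : LL × LL := ([[1, 0, 0, 4, 4, 4, 0, 0], [3, 1, 0, 6, 5, 2, 0, 4], [1, 4, 1, 0, 0, 6, 0, 6], [0, 0, 0, 1, 0, 0, 0, 0], [0, 0, 0, 1, 1, 3, 0, 0], [0, 0, 0, 4, 0, 1, 0, 0], [3, 4, 3, 6, 6, 1, 1, 4], [0, 0, 0, 3, 3, 3, 0, 1]],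
    [[1, 0, 0, 3, 3, 1, 0, 0], [4, 1, 0, 6, 5, 0, 0, 3], [4, 3, 1, 1, 2, 6, 0, 3], [0, 0, 0, 1, 0, 0, 0, 0], [0, 0, 0, 4, 1, 4, 0, 0], [0, 0, 0, 3, 0, 1, 0, 0], [4, 1, 4, 6, 6, 0, 1, 3], [0, 0, 0, 4, 4, 6, 0, 1]])

/-- Tables of `a1`. -/
def t1 (c : ℕ) : LL × LL := [([[1, 0, 0, 0, 0, 1, 0, 0], [0, 1, 0, 0, 0, 0, 0, 0], [6, 0, 1, 0, 0, 6, 0, 1], [0, 0, 0, 1, 0, 0, 0, 0], [0, 0, 0, 6, 1, 0, 0, 0], [0, 0, 0, 0, 0, 1, 0, 0], [0, 1, 0, 0, 0, 0, 1, 0], [0, 0, 0, 0, 0, 6, 0, 1]],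
    [[1, 0, 0, 0, 0, 6, 0, 0], [0, 1, 0, 0, 0, 0, 0, 0], [1, 0, 1, 0, 0, 6, 0, 6], [0, 0, 0, 1, 0, 0, 0, 0], [0, 0, 0, 1, 1, 0, 0, 0], [0, 0, 0, 0, 0, 1, 0, 0], [0, 6, 0, 0, 0, 0, 1, 0], [0, 0, 0, 0, 0, 1, 0, 1]]),
  ([[1, 0, 0, 0, 0, 2, 0, 0], [0, 1, 0, 0, 0, 0, 0, 0], [5, 0, 1, 0, 0, 3, 0, 2], [0, 0, 0, 1, 0, 0, 0, 0], [0, 0, 0, 5, 1, 0, 0, 0], [0, 0, 0, 0, 0, 1, 0, 0], [0, 2, 0, 0, 0, 0, 1, 0], [0, 0, 0, 0, 0, 5, 0, 1]],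
    [[1, 0, 0, 0, 0, 5, 0, 0], [0, 1, 0, 0, 0, 0, 0, 0], [2, 0, 1, 0, 0, 3, 0, 5], [0, 0, 0, 1, 0, 0, 0, 0], [0, 0, 0, 2, 1, 0, 0, 0], [0, 0, 0, 0, 0, 1, 0, 0], [0, 5, 0, 0, 0, 0, 1, 0], [0, 0, 0, 0, 0, 2, 0, 1]]),
  ([[1, 0, 0, 0, 0, 3, 0, 0], [0, 1, 0, 0, 0, 0, 0, 0], [4, 0, 1, 0, 0, 5, 0, 3], [0, 0, 0, 1, 0, 0, 0, 0], [0, 0, 0, 4, 1, 0, 0, 0], [0, 0, 0, 0, 0, 1, 0, 0], [0, 3, 0, 0, 0, 0, 1, 0], [0, 0, 0, 0, 0, 4, 0, 1]],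
    [[1, 0, 0, 0, 0, 4, 0, 0], [0, 1, 0, 0, 0, 0, 0, 0], [3, 0, 1, 0, 0, 5, 0, 4], [0, 0, 0, 1, 0, 0, 0, 0], [0, 0, 0, 3, 1, 0, 0, 0], [0, 0, 0, 0, 0, 1, 0, 0], [0, 4, 0, 0, 0, 0, 1, 0], [0, 0, 0, 0, 0, 3, 0, 1]]),
  ([[1, 0, 0, 0, 0, 4, 0, 0], [0, 1, 0, 0, 0, 0, 0, 0], [3, 0, 1, 0, 0, 5, 0, 4], [0, 0, 0, 1, 0, 0, 0, 0], [0, 0, 0, 3, 1, 0, 0, 0], [0, 0, 0, 0, 0, 1, 0, 0], [0, 4, 0, 0, 0, 0, 1, 0], [0, 0, 0, 0, 0, 3, 0, 1]],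
    [[1, 0, 0, 0, 0, 3, 0, 0], [0, 1, 0, 0, 0, 0, 0, 0], [4, 0, 1, 0, 0, 5, 0, 3], [0, 0, 0, 1, 0, 0, 0, 0], [0, 0, 0, 4, 1, 0, 0, 0], [0, 0, 0, 0, 0, 1, 0, 0], [0, 3, 0, 0, 0, 0, 1, 0], [0, 0, 0, 0, 0, 4, 0, 1]]),
  ([[1, 0, 0, 0, 0, 5, 0, 0], [0, 1, 0, 0, 0, 0, 0, 0], [2, 0, 1, 0, 0, 3, 0, 5], [0, 0, 0, 1, 0, 0, 0, 0], [0, 0, 0, 2, 1, 0, 0, 0], [0, 0, 0, 0, 0, 1, 0, 0], [0, 5, 0, 0, 0, 0, 1, 0], [0, 0, 0, 0, 0, 2, 0, 1]],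
    [[1, 0, 0, 0, 0, 2, 0, 0], [0, 1, 0, 0, 0, 0, 0, 0], [5, 0, 1, 0, 0, 3, 0, 2], [0, 0, 0, 1, 0, 0, 0, 0], [0, 0, 0, 5, 1, 0, 0, 0], [0, 0, 0, 0, 0, 1, 0, 0], [0, 2, 0, 0, 0, 0, 1, 0], [0, 0, 0, 0, 0, 5, 0, 1]]),
  ([[1, 0, 0, 0, 0, 6, 0, 0], [0, 1, 0, 0, 0, 0, 0, 0], [1, 0, 1, 0, 0, 6, 0, 6], [0, 0, 0, 1, 0, 0, 0, 0], [0, 0, 0, 1, 1, 0, 0, 0], [0, 0, 0, 0, 0, 1, 0, 0], [0, 6, 0, 0, 0, 0, 1, 0], [0, 0, 0, 0, 0, 1, 0, 1]],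
    [[1, 0, 0, 0, 0, 1, 0, 0], [0, 1, 0, 0, 0, 0, 0, 0], [6, 0, 1, 0, 0, 6, 0, 1], [0, 0, 0, 1, 0, 0, 0, 0], [0, 0, 0, 6, 1, 0, 0, 0], [0, 0, 0, 0, 0, 1, 0, 0], [0, 1, 0, 0, 0, 0, 1, 0], [0, 0, 0, 0, 0, 6, 0, 1]])].getD c (l1, l1)

/-- Tables of `a2`. -/
def t2 (c : ℕ) : LL × LL := [([[1, 0, 0, 5, 0, 0, 0, 0], [0, 1, 0, 3, 0, 5, 0, 0], [0, 0, 1, 4, 2, 0, 0, 0], [0, 0, 0, 1, 0, 0, 0, 0], [0, 0, 0, 0, 1, 0, 0, 0], [0, 0, 0, 0, 0, 1, 0, 0], [2, 0, 0, 3, 4, 3, 1, 5], [0, 0, 0, 2, 0, 0, 0, 1]],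
    [[1, 0, 0, 2, 0, 0, 0, 0], [0, 1, 0, 4, 0, 2, 0, 0], [0, 0, 1, 3, 5, 0, 0, 0], [0, 0, 0, 1, 0, 0, 0, 0], [0, 0, 0, 0, 1, 0, 0, 0], [0, 0, 0, 0, 0, 1, 0, 0], [5, 0, 0, 3, 3, 4, 1, 2], [0, 0, 0, 5, 0, 0, 0, 1]]),
  ([[1, 0, 0, 3, 0, 0, 0, 0], [0, 1, 0, 6, 0, 3, 0, 0], [0, 0, 1, 2, 4, 0, 0, 0], [0, 0, 0, 1, 0, 0, 0, 0], [0, 0, 0, 0, 1, 0, 0, 0], [0, 0, 0, 0, 0, 1, 0, 0], [4, 0, 0, 5, 1, 5, 1, 3], [0, 0, 0, 4, 0, 0, 0, 1]],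
    [[1, 0, 0, 4, 0, 0, 0, 0], [0, 1, 0, 1, 0, 4, 0, 0], [0, 0, 1, 5, 3, 0, 0, 0], [0, 0, 0, 1, 0, 0, 0, 0], [0, 0, 0, 0, 1, 0, 0, 0], [0, 0, 0, 0, 0, 1, 0, 0], [3, 0, 0, 5, 6, 2, 1, 4], [0, 0, 0, 3, 0, 0, 0, 1]]),
  ([[1, 0, 0, 1, 0, 0, 0, 0], [0, 1, 0, 2, 0, 1, 0, 0], [0, 0, 1, 1, 6, 0, 0, 0], [0, 0, 0, 1, 0, 0, 0, 0], [0, 0, 0, 0, 1, 0, 0, 0], [0, 0, 0, 0, 0, 1, 0, 0], [6, 0, 0, 6, 5, 6, 1, 1], [0, 0, 0, 6, 0, 0, 0, 1]],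
    [[1, 0, 0, 6, 0, 0, 0, 0], [0, 1, 0, 5, 0, 6, 0, 0], [0, 0, 1, 6, 1, 0, 0, 0], [0, 0, 0, 1, 0, 0, 0, 0], [0, 0, 0, 0, 1, 0, 0, 0], [0, 0, 0, 0, 0, 1, 0, 0], [1, 0, 0, 6, 2, 1, 1, 6], [0, 0, 0, 1, 0, 0, 0, 1]]),
  ([[1, 0, 0, 6, 0, 0, 0, 0], [0, 1, 0, 5, 0, 6, 0, 0], [0, 0, 1, 1, 1, 0, 0, 0], [0, 0, 0, 1, 0, 0, 0, 0], [0, 0, 0, 0, 1, 0, 0, 0], [0, 0, 0, 0, 0, 1, 0, 0], [1, 0, 0, 6, 2, 6, 1, 6], [0, 0, 0, 1, 0, 0, 0, 1]],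
    [[1, 0, 0, 1, 0, 0, 0, 0], [0, 1, 0, 2, 0, 1, 0, 0], [0, 0, 1, 6, 6, 0, 0, 0], [0, 0, 0, 1, 0, 0, 0, 0], [0, 0, 0, 0, 1, 0, 0, 0], [0, 0, 0, 0, 0, 1, 0, 0], [6, 0, 0, 6, 5, 1, 1, 1], [0, 0, 0, 6, 0, 0, 0, 1]]),
  ([[1, 0, 0, 4, 0, 0, 0, 0], [0, 1, 0, 1, 0, 4, 0, 0], [0, 0, 1, 2, 3, 0, 0, 0], [0, 0, 0, 1, 0, 0, 0, 0], [0, 0, 0, 0, 1, 0, 0, 0], [0, 0, 0, 0, 0, 1, 0, 0], [3, 0, 0, 5, 6, 5, 1, 4], [0, 0, 0, 3, 0, 0, 0, 1]],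
    [[1, 0, 0, 3, 0, 0, 0, 0], [0, 1, 0, 6, 0, 3, 0, 0], [0, 0, 1, 5, 4, 0, 0, 0], [0, 0, 0, 1, 0, 0, 0, 0], [0, 0, 0, 0, 1, 0, 0, 0], [0, 0, 0, 0, 0, 1, 0, 0], [4, 0, 0, 5, 1, 2, 1, 3], [0, 0, 0, 4, 0, 0, 0, 1]]),
  ([[1, 0, 0, 2, 0, 0, 0, 0], [0, 1, 0, 4, 0, 2, 0, 0], [0, 0, 1, 4, 5, 0, 0, 0], [0, 0, 0, 1, 0, 0, 0, 0], [0, 0, 0, 0, 1, 0, 0, 0], [0, 0, 0, 0, 0, 1, 0, 0], [5, 0, 0, 3, 3, 3, 1, 2], [0, 0, 0, 5, 0, 0, 0, 1]],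
    [[1, 0, 0, 5, 0, 0, 0, 0], [0, 1, 0, 3, 0, 5, 0, 0], [0, 0, 1, 3, 2, 0, 0, 0], [0, 0, 0, 1, 0, 0, 0, 0], [0, 0, 0, 0, 1, 0, 0, 0], [0, 0, 0, 0, 0, 1, 0, 0], [2, 0, 0, 3, 4, 4, 1, 5], [0, 0, 0, 2, 0, 0, 0, 1]])].getD c (l1, l1)

/-- Tables of `a3`. -/
def t3 (c : ℕ) : LL × LL := [([[1, 0, 0, 0, 0, 0, 0, 0], [0, 1, 0, 6, 0, 0, 0, 0], [0, 0, 1, 3, 0, 0, 0, 0], [0, 0, 0, 1, 0, 0, 0, 0], [0, 0, 0, 0, 1, 0, 0, 0], [0, 0, 0, 0, 0, 1, 0, 0], [0, 0, 0, 0, 1, 4, 1, 0], [0, 0, 0, 0, 0, 0, 0, 1]],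
    [[1, 0, 0, 0, 0, 0, 0, 0], [0, 1, 0, 1, 0, 0, 0, 0], [0, 0, 1, 4, 0, 0, 0, 0], [0, 0, 0, 1, 0, 0, 0, 0], [0, 0, 0, 0, 1, 0, 0, 0], [0, 0, 0, 0, 0, 1, 0, 0], [0, 0, 0, 0, 6, 3, 1, 0], [0, 0, 0, 0, 0, 0, 0, 1]]),
  ([[1, 0, 0, 0, 0, 0, 0, 0], [0, 1, 0, 5, 0, 0, 0, 0], [0, 0, 1, 6, 0, 0, 0, 0], [0, 0, 0, 1, 0, 0, 0, 0], [0, 0, 0, 0, 1, 0, 0, 0], [0, 0, 0, 0, 0, 1, 0, 0], [0, 0, 0, 0, 2, 1, 1, 0], [0, 0, 0, 0, 0, 0, 0, 1]],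
    [[1, 0, 0, 0, 0, 0, 0, 0], [0, 1, 0, 2, 0, 0, 0, 0], [0, 0, 1, 1, 0, 0, 0, 0], [0, 0, 0, 1, 0, 0, 0, 0], [0, 0, 0, 0, 1, 0, 0, 0], [0, 0, 0, 0, 0, 1, 0, 0], [0, 0, 0, 0, 5, 6, 1, 0], [0, 0, 0, 0, 0, 0, 0, 1]]),
  ([[1, 0, 0, 0, 0, 0, 0, 0], [0, 1, 0, 4, 0, 0, 0, 0], [0, 0, 1, 2, 0, 0, 0, 0], [0, 0, 0, 1, 0, 0, 0, 0], [0, 0, 0, 0, 1, 0, 0, 0], [0, 0, 0, 0, 0, 1, 0, 0], [0, 0, 0, 0, 3, 5, 1, 0], [0, 0, 0, 0, 0, 0, 0, 1]],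
    [[1, 0, 0, 0, 0, 0, 0, 0], [0, 1, 0, 3, 0, 0, 0, 0], [0, 0, 1, 5, 0, 0, 0, 0], [0, 0, 0, 1, 0, 0, 0, 0], [0, 0, 0, 0, 1, 0, 0, 0], [0, 0, 0, 0, 0, 1, 0, 0], [0, 0, 0, 0, 4, 2, 1, 0], [0, 0, 0, 0, 0, 0, 0, 1]]),
  ([[1, 0, 0, 0, 0, 0, 0, 0], [0, 1, 0, 3, 0, 0, 0, 0], [0, 0, 1, 5, 0, 0, 0, 0], [0, 0, 0, 1, 0, 0, 0, 0], [0, 0, 0, 0, 1, 0, 0, 0], [0, 0, 0, 0, 0, 1, 0, 0], [0, 0, 0, 0, 4, 2, 1, 0], [0, 0, 0, 0, 0, 0, 0, 1]],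
    [[1, 0, 0, 0, 0, 0, 0, 0], [0, 1, 0, 4, 0, 0, 0, 0], [0, 0, 1, 2, 0, 0, 0, 0], [0, 0, 0, 1, 0, 0, 0, 0], [0, 0, 0, 0, 1, 0, 0, 0], [0, 0, 0, 0, 0, 1, 0, 0], [0, 0, 0, 0, 3, 5, 1, 0], [0, 0, 0, 0, 0, 0, 0, 1]]),
  ([[1, 0, 0, 0, 0, 0, 0, 0], [0, 1, 0, 2, 0, 0, 0, 0], [0, 0, 1, 1, 0, 0, 0, 0], [0, 0, 0, 1, 0, 0, 0, 0], [0, 0, 0, 0, 1, 0, 0, 0], [0, 0, 0, 0, 0, 1, 0, 0], [0, 0, 0, 0, 5, 6, 1, 0], [0, 0, 0, 0, 0, 0, 0, 1]],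
    [[1, 0, 0, 0, 0, 0, 0, 0], [0, 1, 0, 5, 0, 0, 0, 0], [0, 0, 1, 6, 0, 0, 0, 0], [0, 0, 0, 1, 0, 0, 0, 0], [0, 0, 0, 0, 1, 0, 0, 0], [0, 0, 0, 0, 0, 1, 0, 0], [0, 0, 0, 0, 2, 1, 1, 0], [0, 0, 0, 0, 0, 0, 0, 1]]),
  ([[1, 0, 0, 0, 0, 0, 0, 0], [0, 1, 0, 1, 0, 0, 0, 0], [0, 0, 1, 4, 0, 0, 0, 0], [0, 0, 0, 1, 0, 0, 0, 0], [0, 0, 0, 0, 1, 0, 0, 0], [0, 0, 0, 0, 0, 1, 0, 0], [0, 0, 0, 0, 6, 3, 1, 0], [0, 0, 0, 0, 0, 0, 0, 1]],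
    [[1, 0, 0, 0, 0, 0, 0, 0], [0, 1, 0, 6, 0, 0, 0, 0], [0, 0, 1, 3, 0, 0, 0, 0], [0, 0, 0, 1, 0, 0, 0, 0], [0, 0, 0, 0, 1, 0, 0, 0], [0, 0, 0, 0, 0, 1, 0, 0], [0, 0, 0, 0, 1, 4, 1, 0], [0, 0, 0, 0, 0, 0, 0, 1]])].getD c (l1, l1)

/-- Tables of `a4`. -/
def t4 (c : ℕ) : LL × LL := [([[1, 0, 0, 0, 0, 0, 0, 0], [0, 1, 0, 0, 0, 0, 0, 0], [0, 0, 1, 6, 0, 0, 0, 0], [0, 0, 0, 1, 0, 0, 0, 0], [0, 0, 0, 0, 1, 0, 0, 0], [0, 0, 0, 0, 0, 1, 0, 0], [0, 0, 0, 0, 0, 1, 1, 0], [0, 0, 0, 0, 0, 0, 0, 1]],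
    [[1, 0, 0, 0, 0, 0, 0, 0], [0, 1, 0, 0, 0, 0, 0, 0], [0, 0, 1, 1, 0, 0, 0, 0], [0, 0, 0, 1, 0, 0, 0, 0], [0, 0, 0, 0, 1, 0, 0, 0], [0, 0, 0, 0, 0, 1, 0, 0], [0, 0, 0, 0, 0, 6, 1, 0], [0, 0, 0, 0, 0, 0, 0, 1]]),
  ([[1, 0, 0, 0, 0, 0, 0, 0], [0, 1, 0, 0, 0, 0, 0, 0], [0, 0, 1, 5, 0, 0, 0, 0], [0, 0, 0, 1, 0, 0, 0, 0], [0, 0, 0, 0, 1, 0, 0, 0], [0, 0, 0, 0, 0, 1, 0, 0], [0, 0, 0, 0, 0, 2, 1, 0], [0, 0, 0, 0, 0, 0, 0, 1]],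
    [[1, 0, 0, 0, 0, 0, 0, 0], [0, 1, 0, 0, 0, 0, 0, 0], [0, 0, 1, 2, 0, 0, 0, 0], [0, 0, 0, 1, 0, 0, 0, 0], [0, 0, 0, 0, 1, 0, 0, 0], [0, 0, 0, 0, 0, 1, 0, 0], [0, 0, 0, 0, 0, 5, 1, 0], [0, 0, 0, 0, 0, 0, 0, 1]]),
  ([[1, 0, 0, 0, 0, 0, 0, 0], [0, 1, 0, 0, 0, 0, 0, 0], [0, 0, 1, 4, 0, 0, 0, 0], [0, 0, 0, 1, 0, 0, 0, 0], [0, 0, 0, 0, 1, 0, 0, 0], [0, 0, 0, 0, 0, 1, 0, 0], [0, 0, 0, 0, 0, 3, 1, 0], [0, 0, 0, 0, 0, 0, 0, 1]],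
    [[1, 0, 0, 0, 0, 0, 0, 0], [0, 1, 0, 0, 0, 0, 0, 0], [0, 0, 1, 3, 0, 0, 0, 0], [0, 0, 0, 1, 0, 0, 0, 0], [0, 0, 0, 0, 1, 0, 0, 0], [0, 0, 0, 0, 0, 1, 0, 0], [0, 0, 0, 0, 0, 4, 1, 0], [0, 0, 0, 0, 0, 0, 0, 1]]),
  ([[1, 0, 0, 0, 0, 0, 0, 0], [0, 1, 0, 0, 0, 0, 0, 0], [0, 0, 1, 3, 0, 0, 0, 0], [0, 0, 0, 1, 0, 0, 0, 0], [0, 0, 0, 0, 1, 0, 0, 0], [0, 0, 0, 0, 0, 1, 0, 0], [0, 0, 0, 0, 0, 4, 1, 0], [0, 0, 0, 0, 0, 0, 0, 1]],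
    [[1, 0, 0, 0, 0, 0, 0, 0], [0, 1, 0, 0, 0, 0, 0, 0], [0, 0, 1, 4, 0, 0, 0, 0], [0, 0, 0, 1, 0, 0, 0, 0], [0, 0, 0, 0, 1, 0, 0, 0], [0, 0, 0, 0, 0, 1, 0, 0], [0, 0, 0, 0, 0, 3, 1, 0], [0, 0, 0, 0, 0, 0, 0, 1]]),
  ([[1, 0, 0, 0, 0, 0, 0, 0], [0, 1, 0, 0, 0, 0, 0, 0], [0, 0, 1, 2, 0, 0, 0, 0], [0, 0, 0, 1, 0, 0, 0, 0], [0, 0, 0, 0, 1, 0, 0, 0], [0, 0, 0, 0, 0, 1, 0, 0], [0, 0, 0, 0, 0, 5, 1, 0], [0, 0, 0, 0, 0, 0, 0, 1]],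
    [[1, 0, 0, 0, 0, 0, 0, 0], [0, 1, 0, 0, 0, 0, 0, 0], [0, 0, 1, 5, 0, 0, 0, 0], [0, 0, 0, 1, 0, 0, 0, 0], [0, 0, 0, 0, 1, 0, 0, 0], [0, 0, 0, 0, 0, 1, 0, 0], [0, 0, 0, 0, 0, 2, 1, 0], [0, 0, 0, 0, 0, 0, 0, 1]]),
  ([[1, 0, 0, 0, 0, 0, 0, 0], [0, 1, 0, 0, 0, 0, 0, 0], [0, 0, 1, 1, 0, 0, 0, 0], [0, 0, 0, 1, 0, 0, 0, 0], [0, 0, 0, 0, 1, 0, 0, 0], [0, 0, 0, 0, 0, 1, 0, 0], [0, 0, 0, 0, 0, 6, 1, 0], [0, 0, 0, 0, 0, 0, 0, 1]],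
    [[1, 0, 0, 0, 0, 0, 0, 0], [0, 1, 0, 0, 0, 0, 0, 0], [0, 0, 1, 6, 0, 0, 0, 0], [0, 0, 0, 1, 0, 0, 0, 0], [0, 0, 0, 0, 1, 0, 0, 0], [0, 0, 0, 0, 0, 1, 0, 0], [0, 0, 0, 0, 0, 1, 1, 0], [0, 0, 0, 0, 0, 0, 0, 1]])].getD c (l1, l1)

/-- Tables of `a1 ^ 2`. -/
def u1 (c : ℕ) : LL × LL := [([[1, 0, 0, 0, 0, 2, 0, 0], [0, 1, 0, 0, 0, 0, 0, 0], [5, 0, 1, 0, 0, 3, 0, 2], [0, 0, 0, 1, 0, 0, 0, 0], [0, 0, 0, 5, 1, 0, 0, 0], [0, 0, 0, 0, 0, 1, 0, 0], [0, 2, 0, 0, 0, 0, 1, 0], [0, 0, 0, 0, 0, 5, 0, 1]],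
    [[1, 0, 0, 0, 0, 5, 0, 0], [0, 1, 0, 0, 0, 0, 0, 0], [2, 0, 1, 0, 0, 3, 0, 5], [0, 0, 0, 1, 0, 0, 0, 0], [0, 0, 0, 2, 1, 0, 0, 0], [0, 0, 0, 0, 0, 1, 0, 0], [0, 5, 0, 0, 0, 0, 1, 0], [0, 0, 0, 0, 0, 2, 0, 1]]),
  ([[1, 0, 0, 0, 0, 4, 0, 0], [0, 1, 0, 0, 0, 0, 0, 0], [3, 0, 1, 0, 0, 5, 0, 4], [0, 0, 0, 1, 0, 0, 0, 0], [0, 0, 0, 3, 1, 0, 0, 0], [0, 0, 0, 0, 0, 1, 0, 0], [0, 4, 0, 0, 0, 0, 1, 0], [0, 0, 0, 0, 0, 3, 0, 1]],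
    [[1, 0, 0, 0, 0, 3, 0, 0], [0, 1, 0, 0, 0, 0, 0, 0], [4, 0, 1, 0, 0, 5, 0, 3], [0, 0, 0, 1, 0, 0, 0, 0], [0, 0, 0, 4, 1, 0, 0, 0], [0, 0, 0, 0, 0, 1, 0, 0], [0, 3, 0, 0, 0, 0, 1, 0], [0, 0, 0, 0, 0, 4, 0, 1]]),
  ([[1, 0, 0, 0, 0, 6, 0, 0], [0, 1, 0, 0, 0, 0, 0, 0], [1, 0, 1, 0, 0, 6, 0, 6], [0, 0, 0, 1, 0, 0, 0, 0], [0, 0, 0, 1, 1, 0, 0, 0], [0, 0, 0, 0, 0, 1, 0, 0], [0, 6, 0, 0, 0, 0, 1, 0], [0, 0, 0, 0, 0, 1, 0, 1]],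
    [[1, 0, 0, 0, 0, 1, 0, 0], [0, 1, 0, 0, 0, 0, 0, 0], [6, 0, 1, 0, 0, 6, 0, 1], [0, 0, 0, 1, 0, 0, 0, 0], [0, 0, 0, 6, 1, 0, 0, 0], [0, 0, 0, 0, 0, 1, 0, 0], [0, 1, 0, 0, 0, 0, 1, 0], [0, 0, 0, 0, 0, 6, 0, 1]]),
  ([[1, 0, 0, 0, 0, 1, 0, 0], [0, 1, 0, 0, 0, 0, 0, 0], [6, 0, 1, 0, 0, 6, 0, 1], [0, 0, 0, 1, 0, 0, 0, 0], [0, 0, 0, 6, 1, 0, 0, 0], [0, 0, 0, 0, 0, 1, 0, 0], [0, 1, 0, 0, 0, 0, 1, 0], [0, 0, 0, 0, 0, 6, 0, 1]],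
    [[1, 0, 0, 0, 0, 6, 0, 0], [0, 1, 0, 0, 0, 0, 0, 0], [1, 0, 1, 0, 0, 6, 0, 6], [0, 0, 0, 1, 0, 0, 0, 0], [0, 0, 0, 1, 1, 0, 0, 0], [0, 0, 0, 0, 0, 1, 0, 0], [0, 6, 0, 0, 0, 0, 1, 0], [0, 0, 0, 0, 0, 1, 0, 1]]),
  ([[1, 0, 0, 0, 0, 3, 0, 0], [0, 1, 0, 0, 0, 0, 0, 0], [4, 0, 1, 0, 0, 5, 0, 3], [0, 0, 0, 1, 0, 0, 0, 0], [0, 0, 0, 4, 1, 0, 0, 0], [0, 0, 0, 0, 0, 1, 0, 0], [0, 3, 0, 0, 0, 0, 1, 0], [0, 0, 0, 0, 0, 4, 0, 1]],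
    [[1, 0, 0, 0, 0, 4, 0, 0], [0, 1, 0, 0, 0, 0, 0, 0], [3, 0, 1, 0, 0, 5, 0, 4], [0, 0, 0, 1, 0, 0, 0, 0], [0, 0, 0, 3, 1, 0, 0, 0], [0, 0, 0, 0, 0, 1, 0, 0], [0, 4, 0, 0, 0, 0, 1, 0], [0, 0, 0, 0, 0, 3, 0, 1]]),
  ([[1, 0, 0, 0, 0, 5, 0, 0], [0, 1, 0, 0, 0, 0, 0, 0], [2, 0, 1, 0, 0, 3, 0, 5], [0, 0, 0, 1, 0, 0, 0, 0], [0, 0, 0, 2, 1, 0, 0, 0], [0, 0, 0, 0, 0, 1, 0, 0], [0, 5, 0, 0, 0, 0, 1, 0], [0, 0, 0, 0, 0, 2, 0, 1]],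
    [[1, 0, 0, 0, 0, 2, 0, 0], [0, 1, 0, 0, 0, 0, 0, 0], [5, 0, 1, 0, 0, 3, 0, 2], [0, 0, 0, 1, 0, 0, 0, 0], [0, 0, 0, 5, 1, 0, 0, 0], [0, 0, 0, 0, 0, 1, 0, 0], [0, 2, 0, 0, 0, 0, 1, 0], [0, 0, 0, 0, 0, 5, 0, 1]])].getD c (l1, l1)

/-- Tables of `a1 ^ 4`. -/
def v1 (c : ℕ) : LL × LL := [([[1, 0, 0, 0, 0, 4, 0, 0], [0, 1, 0, 0, 0, 0, 0, 0], [3, 0, 1, 0, 0, 5, 0, 4], [0, 0, 0, 1, 0, 0, 0, 0], [0, 0, 0, 3, 1, 0, 0, 0], [0, 0, 0, 0, 0, 1, 0, 0], [0, 4, 0, 0, 0, 0, 1, 0], [0, 0, 0, 0, 0, 3, 0, 1]],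
    [[1, 0, 0, 0, 0, 3, 0, 0], [0, 1, 0, 0, 0, 0, 0, 0], [4, 0, 1, 0, 0, 5, 0, 3], [0, 0, 0, 1, 0, 0, 0, 0], [0, 0, 0, 4, 1, 0, 0, 0], [0, 0, 0, 0, 0, 1, 0, 0], [0, 3, 0, 0, 0, 0, 1, 0], [0, 0, 0, 0, 0, 4, 0, 1]]),
  ([[1, 0, 0, 0, 0, 1, 0, 0], [0, 1, 0, 0, 0, 0, 0, 0], [6, 0, 1, 0, 0, 6, 0, 1], [0, 0, 0, 1, 0, 0, 0, 0], [0, 0, 0, 6, 1, 0, 0, 0], [0, 0, 0, 0, 0, 1, 0, 0], [0, 1, 0, 0, 0, 0, 1, 0], [0, 0, 0, 0, 0, 6, 0, 1]],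
    [[1, 0, 0, 0, 0, 6, 0, 0], [0, 1, 0, 0, 0, 0, 0, 0], [1, 0, 1, 0, 0, 6, 0, 6], [0, 0, 0, 1, 0, 0, 0, 0], [0, 0, 0, 1, 1, 0, 0, 0], [0, 0, 0, 0, 0, 1, 0, 0], [0, 6, 0, 0, 0, 0, 1, 0], [0, 0, 0, 0, 0, 1, 0, 1]]),
  ([[1, 0, 0, 0, 0, 5, 0, 0], [0, 1, 0, 0, 0, 0, 0, 0], [2, 0, 1, 0, 0, 3, 0, 5], [0, 0, 0, 1, 0, 0, 0, 0], [0, 0, 0, 2, 1, 0, 0, 0], [0, 0, 0, 0, 0, 1, 0, 0], [0, 5, 0, 0, 0, 0, 1, 0], [0, 0, 0, 0, 0, 2, 0, 1]],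
    [[1, 0, 0, 0, 0, 2, 0, 0], [0, 1, 0, 0, 0, 0, 0, 0], [5, 0, 1, 0, 0, 3, 0, 2], [0, 0, 0, 1, 0, 0, 0, 0], [0, 0, 0, 5, 1, 0, 0, 0], [0, 0, 0, 0, 0, 1, 0, 0], [0, 2, 0, 0, 0, 0, 1, 0], [0, 0, 0, 0, 0, 5, 0, 1]]),
  ([[1, 0, 0, 0, 0, 2, 0, 0], [0, 1, 0, 0, 0, 0, 0, 0], [5, 0, 1, 0, 0, 3, 0, 2], [0, 0, 0, 1, 0, 0, 0, 0], [0, 0, 0, 5, 1, 0, 0, 0], [0, 0, 0, 0, 0, 1, 0, 0], [0, 2, 0, 0, 0, 0, 1, 0], [0, 0, 0, 0, 0, 5, 0, 1]],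
    [[1, 0, 0, 0, 0, 5, 0, 0], [0, 1, 0, 0, 0, 0, 0, 0], [2, 0, 1, 0, 0, 3, 0, 5], [0, 0, 0, 1, 0, 0, 0, 0], [0, 0, 0, 2, 1, 0, 0, 0], [0, 0, 0, 0, 0, 1, 0, 0], [0, 5, 0, 0, 0, 0, 1, 0], [0, 0, 0, 0, 0, 2, 0, 1]]),
  ([[1, 0, 0, 0, 0, 6, 0, 0], [0, 1, 0, 0, 0, 0, 0, 0], [1, 0, 1, 0, 0, 6, 0, 6], [0, 0, 0, 1, 0, 0, 0, 0], [0, 0, 0, 1, 1, 0, 0, 0], [0, 0, 0, 0, 0, 1, 0, 0], [0, 6, 0, 0, 0, 0, 1, 0], [0, 0, 0, 0, 0, 1, 0, 1]],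
    [[1, 0, 0, 0, 0, 1, 0, 0], [0, 1, 0, 0, 0, 0, 0, 0], [6, 0, 1, 0, 0, 6, 0, 1], [0, 0, 0, 1, 0, 0, 0, 0], [0, 0, 0, 6, 1, 0, 0, 0], [0, 0, 0, 0, 0, 1, 0, 0], [0, 1, 0, 0, 0, 0, 1, 0], [0, 0, 0, 0, 0, 6, 0, 1]]),
  ([[1, 0, 0, 0, 0, 3, 0, 0], [0, 1, 0, 0, 0, 0, 0, 0], [4, 0, 1, 0, 0, 5, 0, 3], [0, 0, 0, 1, 0, 0, 0, 0], [0, 0, 0, 4, 1, 0, 0, 0], [0, 0, 0, 0, 0, 1, 0, 0], [0, 3, 0, 0, 0, 0, 1, 0], [0, 0, 0, 0, 0, 4, 0, 1]],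
    [[1, 0, 0, 0, 0, 4, 0, 0], [0, 1, 0, 0, 0, 0, 0, 0], [3, 0, 1, 0, 0, 5, 0, 4], [0, 0, 0, 1, 0, 0, 0, 0], [0, 0, 0, 3, 1, 0, 0, 0], [0, 0, 0, 0, 0, 1, 0, 0], [0, 4, 0, 0, 0, 0, 1, 0], [0, 0, 0, 0, 0, 3, 0, 1]])].getD c (l1, l1)

/-- Tables of `a2 ^ 2`. -/
def u2 (c : ℕ) : LL × LL := [([[1, 0, 0, 3, 0, 0, 0, 0], [0, 1, 0, 6, 0, 3, 0, 0], [0, 0, 1, 1, 4, 0, 0, 0], [0, 0, 0, 1, 0, 0, 0, 0], [0, 0, 0, 0, 1, 0, 0, 0], [0, 0, 0, 0, 0, 1, 0, 0], [4, 0, 0, 5, 1, 6, 1, 3], [0, 0, 0, 4, 0, 0, 0, 1]],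
    [[1, 0, 0, 4, 0, 0, 0, 0], [0, 1, 0, 1, 0, 4, 0, 0], [0, 0, 1, 6, 3, 0, 0, 0], [0, 0, 0, 1, 0, 0, 0, 0], [0, 0, 0, 0, 1, 0, 0, 0], [0, 0, 0, 0, 0, 1, 0, 0], [3, 0, 0, 5, 6, 1, 1, 4], [0, 0, 0, 3, 0, 0, 0, 1]]),
  ([[1, 0, 0, 6, 0, 0, 0, 0], [0, 1, 0, 5, 0, 6, 0, 0], [0, 0, 1, 4, 1, 0, 0, 0], [0, 0, 0, 1, 0, 0, 0, 0], [0, 0, 0, 0, 1, 0, 0, 0], [0, 0, 0, 0, 0, 1, 0, 0], [1, 0, 0, 6, 2, 3, 1, 6], [0, 0, 0, 1, 0, 0, 0, 1]],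
    [[1, 0, 0, 1, 0, 0, 0, 0], [0, 1, 0, 2, 0, 1, 0, 0], [0, 0, 1, 3, 6, 0, 0, 0], [0, 0, 0, 1, 0, 0, 0, 0], [0, 0, 0, 0, 1, 0, 0, 0], [0, 0, 0, 0, 0, 1, 0, 0], [6, 0, 0, 6, 5, 4, 1, 1], [0, 0, 0, 6, 0, 0, 0, 1]]),
  ([[1, 0, 0, 2, 0, 0, 0, 0], [0, 1, 0, 4, 0, 2, 0, 0], [0, 0, 1, 2, 5, 0, 0, 0], [0, 0, 0, 1, 0, 0, 0, 0], [0, 0, 0, 0, 1, 0, 0, 0], [0, 0, 0, 0, 0, 1, 0, 0], [5, 0, 0, 3, 3, 5, 1, 2], [0, 0, 0, 5, 0, 0, 0, 1]],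
    [[1, 0, 0, 5, 0, 0, 0, 0], [0, 1, 0, 3, 0, 5, 0, 0], [0, 0, 1, 5, 2, 0, 0, 0], [0, 0, 0, 1, 0, 0, 0, 0], [0, 0, 0, 0, 1, 0, 0, 0], [0, 0, 0, 0, 0, 1, 0, 0], [2, 0, 0, 3, 4, 2, 1, 5], [0, 0, 0, 2, 0, 0, 0, 1]]),
  ([[1, 0, 0, 5, 0, 0, 0, 0], [0, 1, 0, 3, 0, 5, 0, 0], [0, 0, 1, 2, 2, 0, 0, 0], [0, 0, 0, 1, 0, 0, 0, 0], [0, 0, 0, 0, 1, 0, 0, 0], [0, 0, 0, 0, 0, 1, 0, 0], [2, 0, 0, 3, 4, 5, 1, 5], [0, 0, 0, 2, 0, 0, 0, 1]],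
    [[1, 0, 0, 2, 0, 0, 0, 0], [0, 1, 0, 4, 0, 2, 0, 0], [0, 0, 1, 5, 5, 0, 0, 0], [0, 0, 0, 1, 0, 0, 0, 0], [0, 0, 0, 0, 1, 0, 0, 0], [0, 0, 0, 0, 0, 1, 0, 0], [5, 0, 0, 3, 3, 2, 1, 2], [0, 0, 0, 5, 0, 0, 0, 1]]),
  ([[1, 0, 0, 1, 0, 0, 0, 0], [0, 1, 0, 2, 0, 1, 0, 0], [0, 0, 1, 4, 6, 0, 0, 0], [0, 0, 0, 1, 0, 0, 0, 0], [0, 0, 0, 0, 1, 0, 0, 0], [0, 0, 0, 0, 0, 1, 0, 0], [6, 0, 0, 6, 5, 3, 1, 1], [0, 0, 0, 6, 0, 0, 0, 1]],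
    [[1, 0, 0, 6, 0, 0, 0, 0], [0, 1, 0, 5, 0, 6, 0, 0], [0, 0, 1, 3, 1, 0, 0, 0], [0, 0, 0, 1, 0, 0, 0, 0], [0, 0, 0, 0, 1, 0, 0, 0], [0, 0, 0, 0, 0, 1, 0, 0], [1, 0, 0, 6, 2, 4, 1, 6], [0, 0, 0, 1, 0, 0, 0, 1]]),
  ([[1, 0, 0, 4, 0, 0, 0, 0], [0, 1, 0, 1, 0, 4, 0, 0], [0, 0, 1, 1, 3, 0, 0, 0], [0, 0, 0, 1, 0, 0, 0, 0], [0, 0, 0, 0, 1, 0, 0, 0], [0, 0, 0, 0, 0, 1, 0, 0], [3, 0, 0, 5, 6, 6, 1, 4], [0, 0, 0, 3, 0, 0, 0, 1]],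
    [[1, 0, 0, 3, 0, 0, 0, 0], [0, 1, 0, 6, 0, 3, 0, 0], [0, 0, 1, 6, 4, 0, 0, 0], [0, 0, 0, 1, 0, 0, 0, 0], [0, 0, 0, 0, 1, 0, 0, 0], [0, 0, 0, 0, 0, 1, 0, 0], [4, 0, 0, 5, 1, 1, 1, 3], [0, 0, 0, 4, 0, 0, 0, 1]])].getD c (l1, l1)

/-- Tables of `a2 ^ 4`. -/
def v2 (c : ℕ) : LL × LL := [([[1, 0, 0, 6, 0, 0, 0, 0], [0, 1, 0, 5, 0, 6, 0, 0], [0, 0, 1, 2, 1, 0, 0, 0], [0, 0, 0, 1, 0, 0, 0, 0], [0, 0, 0, 0, 1, 0, 0, 0], [0, 0, 0, 0, 0, 1, 0, 0], [1, 0, 0, 6, 2, 5, 1, 6], [0, 0, 0, 1, 0, 0, 0, 1]],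
    [[1, 0, 0, 1, 0, 0, 0, 0], [0, 1, 0, 2, 0, 1, 0, 0], [0, 0, 1, 5, 6, 0, 0, 0], [0, 0, 0, 1, 0, 0, 0, 0], [0, 0, 0, 0, 1, 0, 0, 0], [0, 0, 0, 0, 0, 1, 0, 0], [6, 0, 0, 6, 5, 2, 1, 1], [0, 0, 0, 6, 0, 0, 0, 1]]),
  ([[1, 0, 0, 5, 0, 0, 0, 0], [0, 1, 0, 3, 0, 5, 0, 0], [0, 0, 1, 1, 2, 0, 0, 0], [0, 0, 0, 1, 0, 0, 0, 0], [0, 0, 0, 0, 1, 0, 0, 0], [0, 0, 0, 0, 0, 1, 0, 0], [2, 0, 0, 3, 4, 6, 1, 5], [0, 0, 0, 2, 0, 0, 0, 1]],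
    [[1, 0, 0, 2, 0, 0, 0, 0], [0, 1, 0, 4, 0, 2, 0, 0], [0, 0, 1, 6, 5, 0, 0, 0], [0, 0, 0, 1, 0, 0, 0, 0], [0, 0, 0, 0, 1, 0, 0, 0], [0, 0, 0, 0, 0, 1, 0, 0], [5, 0, 0, 3, 3, 1, 1, 2], [0, 0, 0, 5, 0, 0, 0, 1]]),
  ([[1, 0, 0, 4, 0, 0, 0, 0], [0, 1, 0, 1, 0, 4, 0, 0], [0, 0, 1, 4, 3, 0, 0, 0], [0, 0, 0, 1, 0, 0, 0, 0], [0, 0, 0, 0, 1, 0, 0, 0], [0, 0, 0, 0, 0, 1, 0, 0], [3, 0, 0, 5, 6, 3, 1, 4], [0, 0, 0, 3, 0, 0, 0, 1]],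
    [[1, 0, 0, 3, 0, 0, 0, 0], [0, 1, 0, 6, 0, 3, 0, 0], [0, 0, 1, 3, 4, 0, 0, 0], [0, 0, 0, 1, 0, 0, 0, 0], [0, 0, 0, 0, 1, 0, 0, 0], [0, 0, 0, 0, 0, 1, 0, 0], [4, 0, 0, 5, 1, 4, 1, 3], [0, 0, 0, 4, 0, 0, 0, 1]]),
  ([[1, 0, 0, 3, 0, 0, 0, 0], [0, 1, 0, 6, 0, 3, 0, 0], [0, 0, 1, 4, 4, 0, 0, 0], [0, 0, 0, 1, 0, 0, 0, 0], [0, 0, 0, 0, 1, 0, 0, 0], [0, 0, 0, 0, 0, 1, 0, 0], [4, 0, 0, 5, 1, 3, 1, 3], [0, 0, 0, 4, 0, 0, 0, 1]],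
    [[1, 0, 0, 4, 0, 0, 0, 0], [0, 1, 0, 1, 0, 4, 0, 0], [0, 0, 1, 3, 3, 0, 0, 0], [0, 0, 0, 1, 0, 0, 0, 0], [0, 0, 0, 0, 1, 0, 0, 0], [0, 0, 0, 0, 0, 1, 0, 0], [3, 0, 0, 5, 6, 4, 1, 4], [0, 0, 0, 3, 0, 0, 0, 1]]),
  ([[1, 0, 0, 2, 0, 0, 0, 0], [0, 1, 0, 4, 0, 2, 0, 0], [0, 0, 1, 1, 5, 0, 0, 0], [0, 0, 0, 1, 0, 0, 0, 0], [0, 0, 0, 0, 1, 0, 0, 0], [0, 0, 0, 0, 0, 1, 0, 0], [5, 0, 0, 3, 3, 6, 1, 2], [0, 0, 0, 5, 0, 0, 0, 1]],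
    [[1, 0, 0, 5, 0, 0, 0, 0], [0, 1, 0, 3, 0, 5, 0, 0], [0, 0, 1, 6, 2, 0, 0, 0], [0, 0, 0, 1, 0, 0, 0, 0], [0, 0, 0, 0, 1, 0, 0, 0], [0, 0, 0, 0, 0, 1, 0, 0], [2, 0, 0, 3, 4, 1, 1, 5], [0, 0, 0, 2, 0, 0, 0, 1]]),
  ([[1, 0, 0, 1, 0, 0, 0, 0], [0, 1, 0, 2, 0, 1, 0, 0], [0, 0, 1, 2, 6, 0, 0, 0], [0, 0, 0, 1, 0, 0, 0, 0], [0, 0, 0, 0, 1, 0, 0, 0], [0, 0, 0, 0, 0, 1, 0, 0], [6, 0, 0, 6, 5, 5, 1, 1], [0, 0, 0, 6, 0, 0, 0, 1]],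
    [[1, 0, 0, 6, 0, 0, 0, 0], [0, 1, 0, 5, 0, 6, 0, 0], [0, 0, 1, 5, 1, 0, 0, 0], [0, 0, 0, 1, 0, 0, 0, 0], [0, 0, 0, 0, 1, 0, 0, 0], [0, 0, 0, 0, 0, 1, 0, 0], [1, 0, 0, 6, 2, 2, 1, 6], [0, 0, 0, 1, 0, 0, 0, 1]])].getD c (l1, l1)

/-- Tables of `a3 ^ 2`. -/
def u3 (c : ℕ) : LL × LL := [([[1, 0, 0, 0, 0, 0, 0, 0], [0, 1, 0, 5, 0, 0, 0, 0], [0, 0, 1, 6, 0, 0, 0, 0], [0, 0, 0, 1, 0, 0, 0, 0], [0, 0, 0, 0, 1, 0, 0, 0], [0, 0, 0, 0, 0, 1, 0, 0], [0, 0, 0, 0, 2, 1, 1, 0], [0, 0, 0, 0, 0, 0, 0, 1]],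
    [[1, 0, 0, 0, 0, 0, 0, 0], [0, 1, 0, 2, 0, 0, 0, 0], [0, 0, 1, 1, 0, 0, 0, 0], [0, 0, 0, 1, 0, 0, 0, 0], [0, 0, 0, 0, 1, 0, 0, 0], [0, 0, 0, 0, 0, 1, 0, 0], [0, 0, 0, 0, 5, 6, 1, 0], [0, 0, 0, 0, 0, 0, 0, 1]]),
  ([[1, 0, 0, 0, 0, 0, 0, 0], [0, 1, 0, 3, 0, 0, 0, 0], [0, 0, 1, 5, 0, 0, 0, 0], [0, 0, 0, 1, 0, 0, 0, 0], [0, 0, 0, 0, 1, 0, 0, 0], [0, 0, 0, 0, 0, 1, 0, 0], [0, 0, 0, 0, 4, 2, 1, 0], [0, 0, 0, 0, 0, 0, 0, 1]],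
    [[1, 0, 0, 0, 0, 0, 0, 0], [0, 1, 0, 4, 0, 0, 0, 0], [0, 0, 1, 2, 0, 0, 0, 0], [0, 0, 0, 1, 0, 0, 0, 0], [0, 0, 0, 0, 1, 0, 0, 0], [0, 0, 0, 0, 0, 1, 0, 0], [0, 0, 0, 0, 3, 5, 1, 0], [0, 0, 0, 0, 0, 0, 0, 1]]),
  ([[1, 0, 0, 0, 0, 0, 0, 0], [0, 1, 0, 1, 0, 0, 0, 0], [0, 0, 1, 4, 0, 0, 0, 0], [0, 0, 0, 1, 0, 0, 0, 0], [0, 0, 0, 0, 1, 0, 0, 0], [0, 0, 0, 0, 0, 1, 0, 0], [0, 0, 0, 0, 6, 3, 1, 0], [0, 0, 0, 0, 0, 0, 0, 1]],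
    [[1, 0, 0, 0, 0, 0, 0, 0], [0, 1, 0, 6, 0, 0, 0, 0], [0, 0, 1, 3, 0, 0, 0, 0], [0, 0, 0, 1, 0, 0, 0, 0], [0, 0, 0, 0, 1, 0, 0, 0], [0, 0, 0, 0, 0, 1, 0, 0], [0, 0, 0, 0, 1, 4, 1, 0], [0, 0, 0, 0, 0, 0, 0, 1]]),
  ([[1, 0, 0, 0, 0, 0, 0, 0], [0, 1, 0, 6, 0, 0, 0, 0], [0, 0, 1, 3, 0, 0, 0, 0], [0, 0, 0, 1, 0, 0, 0, 0], [0, 0, 0, 0, 1, 0, 0, 0], [0, 0, 0, 0, 0, 1, 0, 0], [0, 0, 0, 0, 1, 4, 1, 0], [0, 0, 0, 0, 0, 0, 0, 1]],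
    [[1, 0, 0, 0, 0, 0, 0, 0], [0, 1, 0, 1, 0, 0, 0, 0], [0, 0, 1, 4, 0, 0, 0, 0], [0, 0, 0, 1, 0, 0, 0, 0], [0, 0, 0, 0, 1, 0, 0, 0], [0, 0, 0, 0, 0, 1, 0, 0], [0, 0, 0, 0, 6, 3, 1, 0], [0, 0, 0, 0, 0, 0, 0, 1]]),
  ([[1, 0, 0, 0, 0, 0, 0, 0], [0, 1, 0, 4, 0, 0, 0, 0], [0, 0, 1, 2, 0, 0, 0, 0], [0, 0, 0, 1, 0, 0, 0, 0], [0, 0, 0, 0, 1, 0, 0, 0], [0, 0, 0, 0, 0, 1, 0, 0], [0, 0, 0, 0, 3, 5, 1, 0], [0, 0, 0, 0, 0, 0, 0, 1]],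
    [[1, 0, 0, 0, 0, 0, 0, 0], [0, 1, 0, 3, 0, 0, 0, 0], [0, 0, 1, 5, 0, 0, 0, 0], [0, 0, 0, 1, 0, 0, 0, 0], [0, 0, 0, 0, 1, 0, 0, 0], [0, 0, 0, 0, 0, 1, 0, 0], [0, 0, 0, 0, 4, 2, 1, 0], [0, 0, 0, 0, 0, 0, 0, 1]]),
  ([[1, 0, 0, 0, 0, 0, 0, 0], [0, 1, 0, 2, 0, 0, 0, 0], [0, 0, 1, 1, 0, 0, 0, 0], [0, 0, 0, 1, 0, 0, 0, 0], [0, 0, 0, 0, 1, 0, 0, 0], [0, 0, 0, 0, 0, 1, 0, 0], [0, 0, 0, 0, 5, 6, 1, 0], [0, 0, 0, 0, 0, 0, 0, 1]],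
    [[1, 0, 0, 0, 0, 0, 0, 0], [0, 1, 0, 5, 0, 0, 0, 0], [0, 0, 1, 6, 0, 0, 0, 0], [0, 0, 0, 1, 0, 0, 0, 0], [0, 0, 0, 0, 1, 0, 0, 0], [0, 0, 0, 0, 0, 1, 0, 0], [0, 0, 0, 0, 2, 1, 1, 0], [0, 0, 0, 0, 0, 0, 0, 1]])].getD c (l1, l1)

/-- Tables of `a3 ^ 4`. -/
def v3 (c : ℕ) : LL × LL := [([[1, 0, 0, 0, 0, 0, 0, 0], [0, 1, 0, 3, 0, 0, 0, 0], [0, 0, 1, 5, 0, 0, 0, 0], [0, 0, 0, 1, 0, 0, 0, 0], [0, 0, 0, 0, 1, 0, 0, 0], [0, 0, 0, 0, 0, 1, 0, 0], [0, 0, 0, 0, 4, 2, 1, 0], [0, 0, 0, 0, 0, 0, 0, 1]],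
    [[1, 0, 0, 0, 0, 0, 0, 0], [0, 1, 0, 4, 0, 0, 0, 0], [0, 0, 1, 2, 0, 0, 0, 0], [0, 0, 0, 1, 0, 0, 0, 0], [0, 0, 0, 0, 1, 0, 0, 0], [0, 0, 0, 0, 0, 1, 0, 0], [0, 0, 0, 0, 3, 5, 1, 0], [0, 0, 0, 0, 0, 0, 0, 1]]),
  ([[1, 0, 0, 0, 0, 0, 0, 0], [0, 1, 0, 6, 0, 0, 0, 0], [0, 0, 1, 3, 0, 0, 0, 0], [0, 0, 0, 1, 0, 0, 0, 0], [0, 0, 0, 0, 1, 0, 0, 0], [0, 0, 0, 0, 0, 1, 0, 0], [0, 0, 0, 0, 1, 4, 1, 0], [0, 0, 0, 0, 0, 0, 0, 1]],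
    [[1, 0, 0, 0, 0, 0, 0, 0], [0, 1, 0, 1, 0, 0, 0, 0], [0, 0, 1, 4, 0, 0, 0, 0], [0, 0, 0, 1, 0, 0, 0, 0], [0, 0, 0, 0, 1, 0, 0, 0], [0, 0, 0, 0, 0, 1, 0, 0], [0, 0, 0, 0, 6, 3, 1, 0], [0, 0, 0, 0, 0, 0, 0, 1]]),
  ([[1, 0, 0, 0, 0, 0, 0, 0], [0, 1, 0, 2, 0, 0, 0, 0], [0, 0, 1, 1, 0, 0, 0, 0], [0, 0, 0, 1, 0, 0, 0, 0], [0, 0, 0, 0, 1, 0, 0, 0], [0, 0, 0, 0, 0, 1, 0, 0], [0, 0, 0, 0, 5, 6, 1, 0], [0, 0, 0, 0, 0, 0, 0, 1]],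
    [[1, 0, 0, 0, 0, 0, 0, 0], [0, 1, 0, 5, 0, 0, 0, 0], [0, 0, 1, 6, 0, 0, 0, 0], [0, 0, 0, 1, 0, 0, 0, 0], [0, 0, 0, 0, 1, 0, 0, 0], [0, 0, 0, 0, 0, 1, 0, 0], [0, 0, 0, 0, 2, 1, 1, 0], [0, 0, 0, 0, 0, 0, 0, 1]]),
  ([[1, 0, 0, 0, 0, 0, 0, 0], [0, 1, 0, 5, 0, 0, 0, 0], [0, 0, 1, 6, 0, 0, 0, 0], [0, 0, 0, 1, 0, 0, 0, 0], [0, 0, 0, 0, 1, 0, 0, 0], [0, 0, 0, 0, 0, 1, 0, 0], [0, 0, 0, 0, 2, 1, 1, 0], [0, 0, 0, 0, 0, 0, 0, 1]],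
    [[1, 0, 0, 0, 0, 0, 0, 0], [0, 1, 0, 2, 0, 0, 0, 0], [0, 0, 1, 1, 0, 0, 0, 0], [0, 0, 0, 1, 0, 0, 0, 0], [0, 0, 0, 0, 1, 0, 0, 0], [0, 0, 0, 0, 0, 1, 0, 0], [0, 0, 0, 0, 5, 6, 1, 0], [0, 0, 0, 0, 0, 0, 0, 1]]),
  ([[1, 0, 0, 0, 0, 0, 0, 0], [0, 1, 0, 1, 0, 0, 0, 0], [0, 0, 1, 4, 0, 0, 0, 0], [0, 0, 0, 1, 0, 0, 0, 0], [0, 0, 0, 0, 1, 0, 0, 0], [0, 0, 0, 0, 0, 1, 0, 0], [0, 0, 0, 0, 6, 3, 1, 0], [0, 0, 0, 0, 0, 0, 0, 1]],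
    [[1, 0, 0, 0, 0, 0, 0, 0], [0, 1, 0, 6, 0, 0, 0, 0], [0, 0, 1, 3, 0, 0, 0, 0], [0, 0, 0, 1, 0, 0, 0, 0], [0, 0, 0, 0, 1, 0, 0, 0], [0, 0, 0, 0, 0, 1, 0, 0], [0, 0, 0, 0, 1, 4, 1, 0], [0, 0, 0, 0, 0, 0, 0, 1]]),
  ([[1, 0, 0, 0, 0, 0, 0, 0], [0, 1, 0, 4, 0, 0, 0, 0], [0, 0, 1, 2, 0, 0, 0, 0], [0, 0, 0, 1, 0, 0, 0, 0], [0, 0, 0, 0, 1, 0, 0, 0], [0, 0, 0, 0, 0, 1, 0, 0], [0, 0, 0, 0, 3, 5, 1, 0], [0, 0, 0, 0, 0, 0, 0, 1]],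
    [[1, 0, 0, 0, 0, 0, 0, 0], [0, 1, 0, 3, 0, 0, 0, 0], [0, 0, 1, 5, 0, 0, 0, 0], [0, 0, 0, 1, 0, 0, 0, 0], [0, 0, 0, 0, 1, 0, 0, 0], [0, 0, 0, 0, 0, 1, 0, 0], [0, 0, 0, 0, 4, 2, 1, 0], [0, 0, 0, 0, 0, 0, 0, 1]])].getD c (l1, l1)

/-- Tables of `a4 ^ 2`. -/
def u4 (c : ℕ) : LL × LL := [([[1, 0, 0, 0, 0, 0, 0, 0], [0, 1, 0, 0, 0, 0, 0, 0], [0, 0, 1, 5, 0, 0, 0, 0], [0, 0, 0, 1, 0, 0, 0, 0], [0, 0, 0, 0, 1, 0, 0, 0], [0, 0, 0, 0, 0, 1, 0, 0], [0, 0, 0, 0, 0, 2, 1, 0], [0, 0, 0, 0, 0, 0, 0, 1]],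
    [[1, 0, 0, 0, 0, 0, 0, 0], [0, 1, 0, 0, 0, 0, 0, 0], [0, 0, 1, 2, 0, 0, 0, 0], [0, 0, 0, 1, 0, 0, 0, 0], [0, 0, 0, 0, 1, 0, 0, 0], [0, 0, 0, 0, 0, 1, 0, 0], [0, 0, 0, 0, 0, 5, 1, 0], [0, 0, 0, 0, 0, 0, 0, 1]]),
  ([[1, 0, 0, 0, 0, 0, 0, 0], [0, 1, 0, 0, 0, 0, 0, 0], [0, 0, 1, 3, 0, 0, 0, 0], [0, 0, 0, 1, 0, 0, 0, 0], [0, 0, 0, 0, 1, 0, 0, 0], [0, 0, 0, 0, 0, 1, 0, 0], [0, 0, 0, 0, 0, 4, 1, 0], [0, 0, 0, 0, 0, 0, 0, 1]],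
    [[1, 0, 0, 0, 0, 0, 0, 0], [0, 1, 0, 0, 0, 0, 0, 0], [0, 0, 1, 4, 0, 0, 0, 0], [0, 0, 0, 1, 0, 0, 0, 0], [0, 0, 0, 0, 1, 0, 0, 0], [0, 0, 0, 0, 0, 1, 0, 0], [0, 0, 0, 0, 0, 3, 1, 0], [0, 0, 0, 0, 0, 0, 0, 1]]),
  ([[1, 0, 0, 0, 0, 0, 0, 0], [0, 1, 0, 0, 0, 0, 0, 0], [0, 0, 1, 1, 0, 0, 0, 0], [0, 0, 0, 1, 0, 0, 0, 0], [0, 0, 0, 0, 1, 0, 0, 0], [0, 0, 0, 0, 0, 1, 0, 0], [0, 0, 0, 0, 0, 6, 1, 0], [0, 0, 0, 0, 0, 0, 0, 1]],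
    [[1, 0, 0, 0, 0, 0, 0, 0], [0, 1, 0, 0, 0, 0, 0, 0], [0, 0, 1, 6, 0, 0, 0, 0], [0, 0, 0, 1, 0, 0, 0, 0], [0, 0, 0, 0, 1, 0, 0, 0], [0, 0, 0, 0, 0, 1, 0, 0], [0, 0, 0, 0, 0, 1, 1, 0], [0, 0, 0, 0, 0, 0, 0, 1]]),
  ([[1, 0, 0, 0, 0, 0, 0, 0], [0, 1, 0, 0, 0, 0, 0, 0], [0, 0, 1, 6, 0, 0, 0, 0], [0, 0, 0, 1, 0, 0, 0, 0], [0, 0, 0, 0, 1, 0, 0, 0], [0, 0, 0, 0, 0, 1, 0, 0], [0, 0, 0, 0, 0, 1, 1, 0], [0, 0, 0, 0, 0, 0, 0, 1]],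
    [[1, 0, 0, 0, 0, 0, 0, 0], [0, 1, 0, 0, 0, 0, 0, 0], [0, 0, 1, 1, 0, 0, 0, 0], [0, 0, 0, 1, 0, 0, 0, 0], [0, 0, 0, 0, 1, 0, 0, 0], [0, 0, 0, 0, 0, 1, 0, 0], [0, 0, 0, 0, 0, 6, 1, 0], [0, 0, 0, 0, 0, 0, 0, 1]]),
  ([[1, 0, 0, 0, 0, 0, 0, 0], [0, 1, 0, 0, 0, 0, 0, 0], [0, 0, 1, 4, 0, 0, 0, 0], [0, 0, 0, 1, 0, 0, 0, 0], [0, 0, 0, 0, 1, 0, 0, 0], [0, 0, 0, 0, 0, 1, 0, 0], [0, 0, 0, 0, 0, 3, 1, 0], [0, 0, 0, 0, 0, 0, 0, 1]],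
    [[1, 0, 0, 0, 0, 0, 0, 0], [0, 1, 0, 0, 0, 0, 0, 0], [0, 0, 1, 3, 0, 0, 0, 0], [0, 0, 0, 1, 0, 0, 0, 0], [0, 0, 0, 0, 1, 0, 0, 0], [0, 0, 0, 0, 0, 1, 0, 0], [0, 0, 0, 0, 0, 4, 1, 0], [0, 0, 0, 0, 0, 0, 0, 1]]),
  ([[1, 0, 0, 0, 0, 0, 0, 0], [0, 1, 0, 0, 0, 0, 0, 0], [0, 0, 1, 2, 0, 0, 0, 0], [0, 0, 0, 1, 0, 0, 0, 0], [0, 0, 0, 0, 1, 0, 0, 0], [0, 0, 0, 0, 0, 1, 0, 0], [0, 0, 0, 0, 0, 5, 1, 0], [0, 0, 0, 0, 0, 0, 0, 1]],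
    [[1, 0, 0, 0, 0, 0, 0, 0], [0, 1, 0, 0, 0, 0, 0, 0], [0, 0, 1, 5, 0, 0, 0, 0], [0, 0, 0, 1, 0, 0, 0, 0], [0, 0, 0, 0, 1, 0, 0, 0], [0, 0, 0, 0, 0, 1, 0, 0], [0, 0, 0, 0, 0, 2, 1, 0], [0, 0, 0, 0, 0, 0, 0, 1]])].getD c (l1, l1)

/-- Tables of `a4 ^ 4`. -/
def v4 (c : ℕ) : LL × LL := [([[1, 0, 0, 0, 0, 0, 0, 0], [0, 1, 0, 0, 0, 0, 0, 0], [0, 0, 1, 3, 0, 0, 0, 0], [0, 0, 0, 1, 0, 0, 0, 0], [0, 0, 0, 0, 1, 0, 0, 0], [0, 0, 0, 0, 0, 1, 0, 0], [0, 0, 0, 0, 0, 4, 1, 0], [0, 0, 0, 0, 0, 0, 0, 1]],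
    [[1, 0, 0, 0, 0, 0, 0, 0], [0, 1, 0, 0, 0, 0, 0, 0], [0, 0, 1, 4, 0, 0, 0, 0], [0, 0, 0, 1, 0, 0, 0, 0], [0, 0, 0, 0, 1, 0, 0, 0], [0, 0, 0, 0, 0, 1, 0, 0], [0, 0, 0, 0, 0, 3, 1, 0], [0, 0, 0, 0, 0, 0, 0, 1]]),
  ([[1, 0, 0, 0, 0, 0, 0, 0], [0, 1, 0, 0, 0, 0, 0, 0], [0, 0, 1, 6, 0, 0, 0, 0], [0, 0, 0, 1, 0, 0, 0, 0], [0, 0, 0, 0, 1, 0, 0, 0], [0, 0, 0, 0, 0, 1, 0, 0], [0, 0, 0, 0, 0, 1, 1, 0], [0, 0, 0, 0, 0, 0, 0, 1]],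
    [[1, 0, 0, 0, 0, 0, 0, 0], [0, 1, 0, 0, 0, 0, 0, 0], [0, 0, 1, 1, 0, 0, 0, 0], [0, 0, 0, 1, 0, 0, 0, 0], [0, 0, 0, 0, 1, 0, 0, 0], [0, 0, 0, 0, 0, 1, 0, 0], [0, 0, 0, 0, 0, 6, 1, 0], [0, 0, 0, 0, 0, 0, 0, 1]]),
  ([[1, 0, 0, 0, 0, 0, 0, 0], [0, 1, 0, 0, 0, 0, 0, 0], [0, 0, 1, 2, 0, 0, 0, 0], [0, 0, 0, 1, 0, 0, 0, 0], [0, 0, 0, 0, 1, 0, 0, 0], [0, 0, 0, 0, 0, 1, 0, 0], [0, 0, 0, 0, 0, 5, 1, 0], [0, 0, 0, 0, 0, 0, 0, 1]],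
    [[1, 0, 0, 0, 0, 0, 0, 0], [0, 1, 0, 0, 0, 0, 0, 0], [0, 0, 1, 5, 0, 0, 0, 0], [0, 0, 0, 1, 0, 0, 0, 0], [0, 0, 0, 0, 1, 0, 0, 0], [0, 0, 0, 0, 0, 1, 0, 0], [0, 0, 0, 0, 0, 2, 1, 0], [0, 0, 0, 0, 0, 0, 0, 1]]),
  ([[1, 0, 0, 0, 0, 0, 0, 0], [0, 1, 0, 0, 0, 0, 0, 0], [0, 0, 1, 5, 0, 0, 0, 0], [0, 0, 0, 1, 0, 0, 0, 0], [0, 0, 0, 0, 1, 0, 0, 0], [0, 0, 0, 0, 0, 1, 0, 0], [0, 0, 0, 0, 0, 2, 1, 0], [0, 0, 0, 0, 0, 0, 0, 1]],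
    [[1, 0, 0, 0, 0, 0, 0, 0], [0, 1, 0, 0, 0, 0, 0, 0], [0, 0, 1, 2, 0, 0, 0, 0], [0, 0, 0, 1, 0, 0, 0, 0], [0, 0, 0, 0, 1, 0, 0, 0], [0, 0, 0, 0, 0, 1, 0, 0], [0, 0, 0, 0, 0, 5, 1, 0], [0, 0, 0, 0, 0, 0, 0, 1]]),
  ([[1, 0, 0, 0, 0, 0, 0, 0], [0, 1, 0, 0, 0, 0, 0, 0], [0, 0, 1, 1, 0, 0, 0, 0], [0, 0, 0, 1, 0, 0, 0, 0], [0, 0, 0, 0, 1, 0, 0, 0], [0, 0, 0, 0, 0, 1, 0, 0], [0, 0, 0, 0, 0, 6, 1, 0], [0, 0, 0, 0, 0, 0, 0, 1]],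
    [[1, 0, 0, 0, 0, 0, 0, 0], [0, 1, 0, 0, 0, 0, 0, 0], [0, 0, 1, 6, 0, 0, 0, 0], [0, 0, 0, 1, 0, 0, 0, 0], [0, 0, 0, 0, 1, 0, 0, 0], [0, 0, 0, 0, 0, 1, 0, 0], [0, 0, 0, 0, 0, 1, 1, 0], [0, 0, 0, 0, 0, 0, 0, 1]]),
  ([[1, 0, 0, 0, 0, 0, 0, 0], [0, 1, 0, 0, 0, 0, 0, 0], [0, 0, 1, 4, 0, 0, 0, 0], [0, 0, 0, 1, 0, 0, 0, 0], [0, 0, 0, 0, 1, 0, 0, 0], [0, 0, 0, 0, 0, 1, 0, 0], [0, 0, 0, 0, 0, 3, 1, 0], [0, 0, 0, 0, 0, 0, 0, 1]],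
    [[1, 0, 0, 0, 0, 0, 0, 0], [0, 1, 0, 0, 0, 0, 0, 0], [0, 0, 1, 3, 0, 0, 0, 0], [0, 0, 0, 1, 0, 0, 0, 0], [0, 0, 0, 0, 1, 0, 0, 0], [0, 0, 0, 0, 0, 1, 0, 0], [0, 0, 0, 0, 0, 4, 1, 0], [0, 0, 0, 0, 0, 0, 0, 1]])].getD c (l1, l1)


theorem rep_a : Rep (gg ⟨7, by decide⟩ 1) ta := by
  constructor
  · show ev (1 : ZMod 7) (Y (⟨7, by decide⟩ : Fin chevG2.nroots)) = _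
    decide +kernel
  · show ev (-1 : ZMod 7) (Y (⟨7, by decide⟩ : Fin chevG2.nroots)) = _
    decide +kernel

theorem rep_b : Rep (gg ⟨6, by decide⟩ 1) tb := by
  constructor
  · show ev (1 : ZMod 7) (Y (⟨6, by decide⟩ : Fin chevG2.nroots)) = _
    decide +kernel
  · show ev (-1 : ZMod 7) (Y (⟨6, by decide⟩ : Fin chevG2.nroots)) = _
    decide +kernel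

/-- The regular unipotent element. -/
def gx : G2 (ZMod 7) := gg ⟨7, by decide⟩ 1 * gg ⟨6, by decide⟩ 1

theorem rep_x : Rep gx ty := by
  have h : ml ta tb = ty := by decide +kernel
  rw [← h]
  exact rep_a.mul rep_b

/-- The first element. -/
def g1 (c : ℕ) : G2 (ZMod 7) := gg ⟨8, by decide⟩ ((c + 1 : ℕ) : ZMod 7)

theorem rep_1 (c : ℕ) (hc : c < 6) : Rep (g1 c) (t1 c) := by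
  constructor
  · show ev ((c + 1 : ℕ) : ZMod 7) (Y (⟨8, by decide⟩ : Fin chevG2.nroots)) = _
    revert c
    decide +kernel
  · show ev (- ((c + 1 : ℕ) : ZMod 7)) (Y (⟨8, by decide⟩ : Fin chevG2.nroots)) = _
    revert c
    decide +kernel

/-- The second element. -/
def g2 (c : ℕ) : G2 (ZMod 7) := (g1 c)⁻¹ * (gx * g1 c * gx⁻¹)
/-- The third element. -/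
def g3 (c : ℕ) : G2 (ZMod 7) := (g2 c)⁻¹ * (gx * g2 c * gx⁻¹)
/-- The fourth element. -/
def g4 (c : ℕ) : G2 (ZMod 7) := (g3 c)⁻¹ * (gx * g3 c * gx⁻¹)

theorem rep_2 (c : ℕ) (hc : c < 6) : Rep (g2 c) (t2 c) := by
  have h : ∀ c < 6, dd ty (t1 c) = t2 c := by decide +kernel
  rw [← h c hc]
  exact rep_x.dd (rep_1 c hc)

theorem rep_3 (c : ℕ) (hc : c < 6) : Rep (g3 c) (t3 c) := by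
  have h : ∀ c < 6, dd ty (t2 c) = t3 c := by decide +kernel
  rw [← h c hc]
  exact rep_x.dd (rep_2 c hc)

theorem rep_4 (c : ℕ) (hc : c < 6) : Rep (g4 c) (t4 c) := by
  have h : ∀ c < 6, dd ty (t3 c) = t4 c := by decide +kernel
  rw [← h c hc]
  exact rep_x.dd (rep_3 c hc)

theorem pow_seven {g : G2 (ZMod 7)} {P P2 P4 : LL × LL} (h : Rep g P) (h2 : ml P P = P2)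
    (h4 : ml P2 P2 = P4) (h7 : (ml (ml P4 P2) P).1 = l1) : g ^ 7 = 1 := by
  have e : g ^ 7 = g * g * (g * g) * (g * g) * g := by
    simp only [pow_succ, pow_zero, one_mul, mul_assoc]
  rw [e]
  have k2 : Rep (g * g) P2 := h2 ▸ h.mul h
  have k4 : Rep (g * g * (g * g)) P4 := h4 ▸ k2.mul k2
  exact ((k4.mul k2).mul h).eq rep_one h7

theorem pw_x : gx ^ 7 = 1 :=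
  pow_seven rep_x (P2 := ty2) (P4 := ty4) (by decide +kernel) (by decide +kernel) (by decide +kernel)

theorem pw_1 (c : ℕ) (hc : c < 6) : g1 c ^ 7 = 1 := by
  have h : ∀ c < 6, (ml (t1 c) (t1 c) = u1 c ∧ ml (u1 c) (u1 c) = v1 c) ∧
      (ml (ml (v1 c) (u1 c)) (t1 c)).1 = l1 := by decide +kernel
  exact pow_seven (rep_1 c hc) (h c hc).1.1 (h c hc).1.2 (h c hc).2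

theorem pw_2 (c : ℕ) (hc : c < 6) : g2 c ^ 7 = 1 := by
  have h : ∀ c < 6, (ml (t2 c) (t2 c) = u2 c ∧ ml (u2 c) (u2 c) = v2 c) ∧
      (ml (ml (v2 c) (u2 c)) (t2 c)).1 = l1 := by decide +kernel
  exact pow_seven (rep_2 c hc) (h c hc).1.1 (h c hc).1.2 (h c hc).2

theorem pw_3 (c : ℕ) (hc : c < 6) : g3 c ^ 7 = 1 := by
  have h : ∀ c < 6, (ml (t3 c) (t3 c) = u3 c ∧ ml (u3 c) (u3 c) = v3 c) ∧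
      (ml (ml (v3 c) (u3 c)) (t3 c)).1 = l1 := by decide +kernel
  exact pow_seven (rep_3 c hc) (h c hc).1.1 (h c hc).1.2 (h c hc).2

theorem pw_4 (c : ℕ) (hc : c < 6) : g4 c ^ 7 = 1 := by
  have h : ∀ c < 6, (ml (t4 c) (t4 c) = u4 c ∧ ml (u4 c) (u4 c) = v4 c) ∧
      (ml (ml (v4 c) (u4 c)) (t4 c)).1 = l1 := by decide +kernel
  exact pow_seven (rep_4 c hc) (h c hc).1.1 (h c hc).1.2 (h c hc).2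


/-- The relations in `G₂(7)`. -/
theorem rel5 (c : ℕ) (hc : c < 6) : Rel5 7 (c + 1) (g1 c) (g2 c) (g3 c) (g4 c) gx where
  c12 := by
    have h : ∀ c < 6, (ml (t1 c) (t2 c)).1 = (ml (ml (t2 c) (t1 c)) (pw (t4 c) (c + 1))).1 := by
      decide +kernel
    exact ((rep_1 c hc).mul (rep_2 c hc)).eq
      (((rep_2 c hc).mul (rep_1 c hc)).mul ((rep_4 c hc).pow (c + 1))) (h c hc)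
  c13 := by
    have h : ∀ c < 6, (ml (t1 c) (t3 c)).1 = (ml (t3 c) (t1 c)).1 := by decide +kernel
    exact ((rep_1 c hc).mul (rep_3 c hc)).eq ((rep_3 c hc).mul (rep_1 c hc)) (h c hc)
  c14 := by
    have h : ∀ c < 6, (ml (t1 c) (t4 c)).1 = (ml (t4 c) (t1 c)).1 := by decide +kernel
    exact ((rep_1 c hc).mul (rep_4 c hc)).eq ((rep_4 c hc).mul (rep_1 c hc)) (h c hc)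
  c23 := by
    have h : ∀ c < 6, (ml (t2 c) (t3 c)).1 = (ml (t3 c) (t2 c)).1 := by decide +kernel
    exact ((rep_2 c hc).mul (rep_3 c hc)).eq ((rep_3 c hc).mul (rep_2 c hc)) (h c hc)
  c24 := by
    have h : ∀ c < 6, (ml (t2 c) (t4 c)).1 = (ml (t4 c) (t2 c)).1 := by decide +kernel
    exact ((rep_2 c hc).mul (rep_4 c hc)).eq ((rep_4 c hc).mul (rep_2 c hc)) (h c hc)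
  c34 := by
    have h : ∀ c < 6, (ml (t3 c) (t4 c)).1 = (ml (t4 c) (t3 c)).1 := by decide +kernel
    exact ((rep_3 c hc).mul (rep_4 c hc)).eq ((rep_4 c hc).mul (rep_3 c hc)) (h c hc)
  r1 := by rw [g2]; group
  r2 := by rw [g3]; group
  r3 := by rw [g4]; group
  r4 := by
    have h : ∀ c < 6, (ml ty (t4 c)).1 = (ml (t4 c) ty).1 := by decide +kernel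
    exact (rep_x.mul (rep_4 c hc)).eq ((rep_4 c hc).mul rep_x) (h c hc)
  o1 := pw_1 c hc
  o2 := pw_2 c hc
  o3 := pw_3 c hc
  o4 := pw_4 c hc
  ox := pw_x

theorem g4_ne_one (c : ℕ) (hc : c < 6) : g4 c ≠ 1 := by
  intro h
  have h1 := (rep_4 c hc).val
  rw [h] at h1
  have h2 : ((1 : Matrix (Fin 8) (Fin 8) (ZMod 7))) = toM (t4 c).1 := h1
  revert h2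
  clear h h1
  revert c
  decide +kernel

end GMax

theorem exists_rel5 (k : ℕ) (h1 : 1 ≤ k) (h7 : k < 7) :
    ∃ a1 a2 a3 a4 x : Cfsg.Lie.G2 (ZMod 7), Rel5 7 k a1 a2 a3 a4 x ∧ a4 ≠ 1 := by
  obtain ⟨c, rfl⟩ := Nat.exists_eq_add_of_le' h1
  exact ⟨_, _, _, _, _, GMax.rel5 c (by omega), GMax.g4_ne_one c (by omega)⟩

/-- The order of a Sylow 7-subgroup of `G₂(7)`. -/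
theorem card_sylow (P : Sylow 7 (Cfsg.Lie.G2 (ZMod 7))) :
    Nat.card (P : Subgroup (Cfsg.Lie.G2 (ZMod 7))) = 7 ^ 6 := by
  have h := Cfsg.Agent.H638.G2Iso.card_G2 (F := ZMod 7)
  rw [Nat.card_zmod] at h
  rw [P.card_eq_multiplicity, h]
  have e : 7 ^ 6 * (7 ^ 2 - 1) * (7 ^ 6 - 1) = 7 ^ 6 * 5647104 := by norm_num
  rw [e, Nat.factorization_mul (by norm_num) (by norm_num), Finsupp.add_apply,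
    Nat.factorization_eq_zero_of_not_dvd (n := 5647104) (by norm_num),
    (by norm_num : Nat.Prime 7).factorization_pow, Finsupp.single_eq_same]

end Cfsg.Agent.H766
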