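import Cfsg.Agent.H766.EssBasic
import Cfsg.Prelude.Def_Transfer

/-!
# Abelian essential subgroups of rank two (helper766)
-/

set_option autoImplicit false

namespace Cfsg.Agent.H766

open Cfsg Cfsg.FusionSystem Cfsg.Agent.H802
open scoped commutatorElement

/-- No endomorphism `A` with `A ^ p = 1`, `p ≥ 5`, acts on `M / pM` as a nontrivial transvection, when
`M[p] ≤ pM`. -/
theorem end_trivial_mod {M : Type*} [AddCommGroup M] {p : ℕ} (hp : p.Prime) (h5 : 5 ≤ p) (b : ℕ)
    (hexp : ∀ m : M, p ^ b • m = 0) (htors : ∀ m : M, p • m = 0 → ∃ m' : M, m = p • m')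
    (A : Module.End ℤ M) (hA : A ^ p = 1) (hN : ∀ m : M, ∃ m' : M, ((A - 1) ^ 2 : Module.End ℤ M) m = p • m') :
    ∀ m : M, ∃ m' : M, (A - 1) m = p • m' := by
  set N : Module.End ℤ M := A - 1 with hNdef
  have hAN : A = N + 1 := by rw [hNdef]; abel
  have hD : ∀ (j : ℕ) (m : M), ∃ m' : M, (N ^ (2 * j)) m = p ^ j • m' := by
    intro j
    induction j with
    | zero => intro m; exact ⟨m, by simp⟩
    | succ j ih =>
      intro m
      obtain ⟨m1, h1⟩ := ih m
      obtain ⟨m2, h2⟩ := hN m1
      refine ⟨m2, ?_⟩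
      have h3 : 2 * (j + 1) = 2 + 2 * j := by ring
      rw [h3, pow_add, Module.End.mul_apply, h1, map_nsmul, h2, ← mul_nsmul', pow_succ]
  have hnil : IsNilpotent N := by
    refine ⟨2 * b, ?_⟩
    ext m
    obtain ⟨m', h⟩ := hD b m
    rw [h, hexp]
    rfl
  -- the binomial expansion
  obtain ⟨u, hu, hcu⟩ : ∃ u : Module.End ℤ M,
      (N + 1) ^ p = N ^ p + 1 + (p : Module.End ℤ M) * (N * (1 + N * u)) ∧ Commute N u := by
    refine ⟨∑ k ∈ Finset.Ioo 1 p, N ^ (k - 2) * ((p.choose k / p : ℕ) : Module.End ℤ M), ?_, ?_⟩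
    · have hsum : ∑ k ∈ Finset.Ioo 0 p, N ^ (k - 1) * (1 : Module.End ℤ M) ^ (p - k - 1) *
          ((p.choose k / p : ℕ) : Module.End ℤ M) =
          1 + N * ∑ k ∈ Finset.Ioo 1 p, N ^ (k - 2) * ((p.choose k / p : ℕ) : Module.End ℤ M) := by
        have h1 : Finset.Ioo 0 p = insert 1 (Finset.Ioo 1 p) := by
          ext k
          simp only [Finset.mem_Ioo, Finset.mem_insert]
          omega
        rw [h1, Finset.sum_insert (by simp), Finset.mul_sum]
        congr 1
        · rw [Nat.sub_self, pow_zero, one_pow, mul_one, Nat.choose_one_right, Nat.div_self hp.pos,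
            Nat.cast_one, mul_one]
        · apply Finset.sum_congr rfl
          intro k hk
          rw [Finset.mem_Ioo] at hk
          rw [one_pow, mul_one, ← mul_assoc, ← pow_succ']
          congr 2
          omega
      rw [(Commute.one_right N).add_pow_prime_eq hp, one_pow, hsum, mul_one, mul_assoc]
    · apply Commute.sum_right
      intro k _
      exact ((Commute.refl N).pow_right _).mul_right (Nat.cast_commute _ _).symm
  have hunit : IsUnit (1 + N * u) := by
    have h1 : IsNilpotent (N * u) := hcu.isNilpotent_mul_right hnil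
    exact h1.isUnit_one_add
  obtain ⟨v, hv⟩ := hunit.exists_right_inv
  intro m
  have h1 : (p : Module.End ℤ M) * (N * (1 + N * u)) = - N ^ p := by
    rw [← hAN, hA] at hu
    have h2 : (0 : Module.End ℤ M) = N ^ p + (p : Module.End ℤ M) * (N * (1 + N * u)) := by
      have h3 : (1 : Module.End ℤ M) = (N ^ p + (p : Module.End ℤ M) * (N * (1 + N * u))) + 1 := by
        refine hu.trans ?_
        abel
      exact (right_eq_add.1 h3).symm
    exact (neg_eq_of_add_eq_zero_right h2.symm).symm
  have h2 : p • N m = - (N ^ p) (v m) := by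
    have h3 := congrArg (fun f : Module.End ℤ M => f (v m)) h1
    have h4 : (N * (1 + N * u)) (v m) = N m := by
      rw [Module.End.mul_apply]
      congr 1
      have := congrArg (fun f : Module.End ℤ M => f m) hv
      exact this
    simp only [Module.End.mul_apply] at h3 h4
    rw [h4] at h3
    rw [← Module.End.natCast_apply (R := ℤ) p (N m)]
    exact h3
  obtain ⟨m1, hm1⟩ := hD 2 ((N ^ (p - 4)) (v m))
  have h3 : (N ^ p) (v m) = p ^ 2 • m1 := by
    have h4 : N ^ p = N ^ (2 * 2) * N ^ (p - 4) := by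
      rw [← pow_add]
      congr 1
      omega
    rw [← hm1, h4, Module.End.mul_apply]
  rw [h3] at h2
  obtain ⟨m2, hm2⟩ := htors (N m + p • m1) (by
    rw [smul_add, h2, ← mul_nsmul', sq]
    abel)
  refine ⟨m2 - m1, ?_⟩
  rw [smul_sub, ← hm2]
  abel

/-- The order of a homocyclic group, recognised by its powers. -/
theorem card_homocyclic {H : Type*} [CommGroup H] [Finite H] {p : ℕ} (b : ℕ)
    (hexp : ∀ x : H, x ^ p ^ b = 1) (hidx : (powMonoidHom p : H →* H).range.index = p ^ 2)
    (hstar : ∀ x : H, x ^ p ^ (b - 1) = 1 → ∃ y : H, x = y ^ p) : Nat.card H = p ^ (2 * b) := by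
  have hom : ∀ j, j < b → ∀ x : H, x ^ p = 1 → ∃ y : H, x = y ^ p ^ j := by
    intro j
    induction j with
    | zero => intro _ x _; exact ⟨x, by simp⟩
    | succ j ih =>
      intro hj x hx
      obtain ⟨y, hy⟩ := ih (by omega) x hx
      obtain ⟨w, hw⟩ := hstar y (by
        have h1 : b - 1 = (j + 1) + (b - 1 - (j + 1)) := by omega
        rw [h1, pow_add, pow_mul, pow_succ, pow_mul, ← hy, hx, one_pow])
      refine ⟨w, ?_⟩
      rw [hy, hw, ← pow_mul, pow_succ, mul_comm]
  have hkc : Nat.card (powMonoidHom p : H →* H).ker = p ^ 2 := by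
    have h1 := Subgroup.card_mul_index (powMonoidHom p : H →* H).ker
    have h2 := Subgroup.card_mul_index (powMonoidHom p : H →* H).range
    rw [Subgroup.index_ker] at h1
    rw [hidx] at h2
    rw [← h1, mul_comm] at h2
    exact (Nat.eq_of_mul_eq_mul_right Nat.card_pos h2).symm
  have hstep : ∀ j, j ≤ b → Nat.card (powMonoidHom (p ^ j) : H →* H).range * p ^ (2 * j) = Nat.card H := by
    intro j
    induction j with
    | zero =>
      intro _
      have h1 : (powMonoidHom (p ^ 0) : H →* H).range = ⊤ := by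
        rw [MonoidHom.range_eq_top]
        intro x
        exact ⟨x, by simp⟩
      rw [h1]
      simp
    | succ j ih =>
      intro hj
      rw [← ih (by omega)]
      let g : (powMonoidHom (p ^ j) : H →* H).range →* H :=
        (powMonoidHom p : H →* H).comp (powMonoidHom (p ^ j) : H →* H).range.subtype
      have hg : ∀ x, g x = (x : H) ^ p := fun x => rfl
      have hgr : g.range = (powMonoidHom (p ^ (j + 1)) : H →* H).range := by
        ext z
        constructor
        · rintro ⟨⟨_, x, rfl⟩, rfl⟩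
          refine ⟨x, ?_⟩
          rw [hg]
          show x ^ p ^ (j + 1) = (x ^ p ^ j) ^ p
          rw [pow_succ, pow_mul]
        · rintro ⟨x, rfl⟩
          refine ⟨⟨x ^ p ^ j, x, rfl⟩, ?_⟩
          rw [hg]
          show (x ^ p ^ j) ^ p = x ^ p ^ (j + 1)
          rw [pow_succ, pow_mul]
      have hgk : Nat.card g.ker = p ^ 2 := by
        rw [← hkc]
        refine Nat.card_congr ⟨fun x => ⟨(x : (powMonoidHom (p ^ j) : H →* H).range), by
            have := x.2
            rw [MonoidHom.mem_ker] at this ⊢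
            exact this⟩,
          fun x => ⟨⟨x, by
            obtain ⟨y, hy⟩ := hom j (by omega) x (by
              have := x.2
              rw [MonoidHom.mem_ker] at this
              exact this)
            exact ⟨y, hy.symm⟩⟩, by
            have := x.2
            rw [MonoidHom.mem_ker] at this ⊢
            exact this⟩, fun x => rfl, fun x => rfl⟩
      have h1 := Subgroup.card_mul_index g.ker
      rw [Subgroup.index_ker, hgr, hgk] at h1
      rw [← h1]
      ring
  have h1 := hstep b le_rfl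
  have h2 : (powMonoidHom (p ^ b) : H →* H).range = ⊥ := by
    rw [MonoidHom.range_eq_bot_iff]
    ext x
    exact hexp x
  rw [h2, Subgroup.card_bot, one_mul] at h1
  exact h1.symm

/-- A 2-generated abelian group of exponent dividing `n` and order `n²` is `C_n × C_n`. -/
theorem iso_of_card {H : Type*} [CommGroup H] [Finite H] (n : ℕ) [NeZero n]
    (hexp : ∀ x : H, x ^ n = 1) (hcard : Nat.card H = n ^ 2) (x y : H)
    (hgen : Subgroup.closure ({x, y} : Set H) = ⊤) :
    Nonempty (H ≃* Multiplicative (ZMod n × ZMod n)) := by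
  let f1 : H → (ZMod n →+ Additive H) := fun x => ZMod.lift n ⟨(zmultiplesHom (Additive H)) (Additive.ofMul x), by
    show ((n : ℤ) • Additive.ofMul x) = 0
    rw [natCast_zsmul]
    exact hexp x⟩
  have hf1 : ∀ (x : H) (m : ℤ), f1 x (m : ZMod n) = Additive.ofMul (x ^ m) := by
    intro x m
    show (ZMod.lift n _) (m : ZMod n) = _
    rw [ZMod.lift_coe]
    rfl
  let f : (ZMod n × ZMod n) →+ Additive H := (f1 x).coprod (f1 y)
  let g : Multiplicative (ZMod n × ZMod n) →* H := AddMonoidHom.toMultiplicativeLeft f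
  have hg : ∀ i j : ℤ, g (Multiplicative.ofAdd ((i : ZMod n), (j : ZMod n))) = x ^ i * y ^ j := by
    intro i j
    show (f ((i : ZMod n), (j : ZMod n))).toMul = _
    rw [AddMonoidHom.coprod_apply, hf1, hf1]
    rfl
  have hsurj : Function.Surjective g := by
    rw [← MonoidHom.range_eq_top, eq_top_iff, ← hgen, Subgroup.closure_le]
    rintro z (rfl | rfl)
    · refine ⟨Multiplicative.ofAdd (((1 : ℤ) : ZMod n), ((0 : ℤ) : ZMod n)), ?_⟩
      rw [hg]
      simp
    · refine ⟨Multiplicative.ofAdd (((0 : ℤ) : ZMod n), ((1 : ℤ) : ZMod n)), ?_⟩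
      rw [hg]
      simp
  have hc : Nat.card (Multiplicative (ZMod n × ZMod n)) = Nat.card H := by
    rw [hcard, sq]
    show Nat.card (ZMod n × ZMod n) = _
    rw [Nat.card_prod, Nat.card_zmod]
  have hbij : Function.Bijective g := (Nat.bijective_iff_surjective_and_card g).2 ⟨hsurj, hc⟩
  exact ⟨(MulEquiv.ofBijective g hbij).symm⟩

variable {Ω : Type*} [Group Ω] {S : Subgroup Ω}

theorem map_mem_frattini {P : Type*} [Group P] (α : MulAut P) {x : P} (hx : x ∈ frattini P) :
    α x ∈ frattini P := by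
  have h3 := (Subgroup.characteristic_iff_comap_eq.1 (inferInstance : (frattini P).Characteristic)) α
  rw [← h3] at hx
  exact hx

/-- Elements of `Aut_F(H)`, `H` essential, acting trivially on `H / Φ(H)` are inner. -/
theorem ess_faithful {p : ℕ} [hp : Fact p.Prime] [Finite S] (hS : IsPGroup p S) {F : FusionSystem S}
    {H : Subgroup Ω} (hH : F.IsEssential p H) {α : MulAut H} (hα : α ∈ F.autGroup H)
    (h : ∀ x : H, x⁻¹ * α x ∈ frattini H) : α ∈ Inn H := by
  have hle := ess_le hH
  have : Finite H := finite_of_le hle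
  have hHp : IsPGroup p H := hS.to_le hle
  let A : Subgroup (MulAut H) :=
      { carrier := {α | ∀ x : H, x⁻¹ * α x ∈ frattini H}
        one_mem' := by
          intro x
          show x⁻¹ * x ∈ frattini H
          rw [inv_mul_cancel]
          exact Subgroup.one_mem _
        mul_mem' := by
          intro a b ha hb x
          have e : x⁻¹ * (a * b) x = (x⁻¹ * b x) * ((b x)⁻¹ * a (b x)) := by
            rw [MulAut.mul_apply]
            group
          rw [e]
          exact Subgroup.mul_mem _ (hb x) (ha (b x))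
        inv_mem' := by
          intro a ha x
          have e := ha (a⁻¹ x)
          rw [MulAut.apply_inv_self] at e
          have e3 := (frattini H).inv_mem e
          have e4 : ((a⁻¹ x)⁻¹ * x)⁻¹ = x⁻¹ * a⁻¹ x := by group
          rwa [e4] at e3 }
  have hAp : IsPGroup p A := isPGroup_of_trivial_frattini hHp A (fun α hα => hα)
  have hAn : A.Normal := by
    refine ⟨fun a ha g x => ?_⟩
    have e := ha (g⁻¹ x)
    have e1 := map_mem_frattini g e
    rw [map_mul, map_inv, MulAut.apply_inv_self] at e1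
    exact e1
  have h1 := ess_core hH (A.subgroupOf (F.autGroup H)) (hNn := hAn.comap _)
    (hAp.comap_of_injective _ (Subgroup.subtype_injective _))
  have h2 : (⟨α, hα⟩ : F.autGroup H) ∈ A.subgroupOf (F.autGroup H) := h
  exact h1 h2

/-- Powers of an automorphism stabilizing a chain. -/
theorem pow_apply_mod {P : Type*} [Group P] {a : MulAut P} {K : Subgroup P}
    (ha1 : ∀ x : P, x⁻¹ * a x ∈ K) (ha2 : ∀ x ∈ K, x⁻¹ * a x ∈ frattini P) :
    ∀ (n : ℕ) (x : P), ∃ f ∈ frattini P, (a ^ n) x = x * (x⁻¹ * a x) ^ n * f := by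
  intro n
  induction n with
  | zero => intro x; exact ⟨1, Subgroup.one_mem _, by simp⟩
  | succ n ih =>
    intro x
    obtain ⟨f, hf, hfe⟩ := ih x
    have hk : (x⁻¹ * a x) ^ n ∈ K := K.pow_mem (ha1 x) n
    have e1 := ha2 _ hk
    refine ⟨((x⁻¹ * a x) ^ n)⁻¹ * a ((x⁻¹ * a x) ^ n) * a f,
      Subgroup.mul_mem _ e1 (map_mem_frattini _ hf), ?_⟩
    rw [pow_succ', MulAut.mul_apply, hfe, map_mul, map_mul, pow_succ']
    group

/-- The data of a `p`-automorphism of a `p`-group with Frattini quotient of order `p²`. -/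
theorem exists_chain {P : Type*} [Group P] [Finite P] {p : ℕ} [hp : Fact p.Prime]
    (hP : IsPGroup p P) (hidx : (frattini P).index = p ^ 2) (a : MulAut P) {k : ℕ}
    (hak : a ^ p ^ k = 1) : ∃ K : Subgroup P, frattini P ≤ K ∧ (∀ x ∈ K, a x ∈ K) ∧
      (∀ x : P, x⁻¹ * a x ∈ K) ∧ ∀ x ∈ K, x⁻¹ * a x ∈ frattini P := by
  have hn : (frattini P).Normal := inferInstance
  let V := P ⧸ frattini P
  have hcongr : (frattini P).map (a : P →* P) = frattini P := by
    apply le_antisymm
    · rintro _ ⟨x, hx, rfl⟩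
      exact map_mem_frattini a hx
    · intro x hx
      exact ⟨a⁻¹ x, map_mem_frattini _ hx, MulAut.apply_inv_self _ a x⟩
  let abar : MulAut V := QuotientGroup.congr (frattini P) (frattini P) a hcongr
  have habar : ∀ x : P, abar (x : V) = ((a x : P) : V) := fun x => rfl
  have hpow : ∀ (n : ℕ) (x : P), (abar ^ n) (x : V) = (((a ^ n) x : P) : V) := by
    intro n
    induction n with
    | zero => intro x; rfl
    | succ n ih =>
      intro x
      rw [pow_succ', MulAut.mul_apply, ih, habar, pow_succ', MulAut.mul_apply]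
  have habk : abar ^ p ^ k = 1 := by
    apply MulEquiv.ext
    intro v
    obtain ⟨x, rfl⟩ := QuotientGroup.mk_surjective v
    rw [hpow, hak]
    rfl
  have hVc : Nat.card V = p ^ 2 := hidx
  obtain ⟨v, hv1, hv⟩ := exists_fixed (V := V) (hP.to_quotient _) (by
    rw [hVc]
    exact (Nat.one_lt_pow two_ne_zero hp.out.one_lt).ne') abar habk
  obtain ⟨x, rfl⟩ := QuotientGroup.mk_surjective v
  have hx1 : x ∉ frattini P := fun h => hv1 ((QuotientGroup.eq_one_iff _).2 h)
  have hx2 : x⁻¹ * a x ∈ frattini P := QuotientGroup.eq.1 hv.symm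
  let K : Subgroup P := frattini P ⊔ Subgroup.zpowers x
  have hΦK : frattini P ≤ K := le_sup_left
  have hxK : x ∈ K := (le_sup_right : Subgroup.zpowers x ≤ K) (Subgroup.mem_zpowers x)
  -- trivial action on K / Φ
  have hK2 : ∀ y ∈ K, y⁻¹ * a y ∈ frattini P := by
    have h1 : ∀ y z : P, y⁻¹ * a y ∈ frattini P → z⁻¹ * a z ∈ frattini P →
        (y * z)⁻¹ * a (y * z) ∈ frattini P := by
      intro y z hy hz
      have e : (y * z)⁻¹ * a (y * z) = (z⁻¹ * (y⁻¹ * a y) * z) * (z⁻¹ * a z) := by
        rw [map_mul]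
        group
      rw [e]
      refine Subgroup.mul_mem _ ?_ hz
      have := hn.conj_mem _ hy z⁻¹
      rwa [inv_inv] at this
    have h2 : ∀ y : P, y⁻¹ * a y ∈ frattini P → (y⁻¹)⁻¹ * a y⁻¹ ∈ frattini P := by
      intro y hy
      have h3 := (frattini P).inv_mem (hn.conj_mem _ hy y)
      have e : (y * (y⁻¹ * a y) * y⁻¹)⁻¹ = (y⁻¹)⁻¹ * a y⁻¹ := by
        rw [map_inv]
        group
      rwa [e] at h3
    have h4 : K = Subgroup.closure ((frattini P : Set P) ∪ {x}) := by
      rw [Subgroup.closure_union, Subgroup.closure_eq, ← Subgroup.zpowers_eq_closure]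
    intro y hy
    rw [h4] at hy
    refine Subgroup.closure_induction (p := fun y _ => y⁻¹ * a y ∈ frattini P) ?_ ?_ ?_ ?_ hy
    · rintro z (hz | hz)
      · exact Subgroup.mul_mem _ (Subgroup.inv_mem _ hz) (map_mem_frattini _ hz)
      · rw [Set.mem_singleton_iff] at hz
        rw [hz]
        exact hx2
    · rw [map_one, inv_one, mul_one]
      exact Subgroup.one_mem _
    · intro y z _ _ hy hz
      exact h1 y z hy hz
    · intro y _ hy
      exact h2 y hy
  have hKa : ∀ y ∈ K, a y ∈ K := by
    intro y hy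
    have e : a y = y * (y⁻¹ * a y) := by group
    rw [e]
    exact K.mul_mem hy (hΦK (hK2 y hy))
  refine ⟨K, hΦK, hKa, fun y => ?_, hK2⟩
  have hidx2 := Subgroup.relIndex_mul_index hΦK
  rw [hidx] at hidx2
  have hdvd : K.index ∣ p ^ 2 := ⟨_, by rw [← hidx2, mul_comm]⟩
  obtain ⟨r, hr, hre⟩ := (Nat.dvd_prime_pow hp.out).1 hdvd
  have h5 : K.index = 1 ∨ K.index = p := by
    interval_cases r
    · left; simpa using hre
    · right; simpa using hre
    · exfalso
      rw [hre] at hidx2
      have h6 : (frattini P).relIndex K = 1 :=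
        Nat.eq_of_mul_eq_mul_right (pow_pos hp.out.pos 2) (by rw [hidx2, one_mul])
      exact hx1 (Subgroup.relIndex_eq_one.1 h6 hxK)
  exact pAut_trivial_section a hak (L := K) (K := ⊤) hKa (fun _ _ => Subgroup.mem_top _)
    (by rw [Subgroup.relIndex_top_right]; exact h5) y (Subgroup.mem_top y)

/-- A `p`-element of `Aut_F(H)`, `H` essential abelian of rank two, has order dividing `p`. -/
theorem ess_pow_p_eq_one {p : ℕ} [hp : Fact p.Prime] [Finite S] (hS : IsPGroup p S)
    {F : FusionSystem S} {H : Subgroup Ω} (hH : F.IsEssential p H)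
    (hc : ∀ x y : H, x * y = y * x) (hidx : (frattini H).index = p ^ 2)
    {a : MulAut H} (ha : a ∈ F.autGroup H) {k : ℕ} (hak : a ^ p ^ k = 1) : a ^ p = 1 := by
  have hle := ess_le hH
  have : Finite H := finite_of_le hle
  have hHp : IsPGroup p H := hS.to_le hle
  obtain ⟨K, -, -, h1, h2⟩ := exists_chain hHp hidx a hak
  have h3 : a ^ p ∈ Inn H := by
    refine ess_faithful hS hH ((F.autGroup H).pow_mem ha p) (fun x => ?_)
    obtain ⟨f, hf, hfe⟩ := pow_apply_mod h1 h2 p x
    rw [hfe]
    have e : x⁻¹ * (x * (x⁻¹ * a x) ^ p * f) = (x⁻¹ * a x) ^ p * f := by group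
    rw [e]
    exact Subgroup.mul_mem _ (Cfsg.Agent.Lib.FrattiniPGroup.pow_mem_frattini hHp _) hf
  obtain ⟨h, hh⟩ := h3
  rw [← hh]
  apply MulEquiv.ext
  intro x
  rw [MulAut.conj_apply, hc h x, mul_inv_cancel_right]
  rfl

/-- **Abelian essential subgroups of rank two.** -/
theorem ess_abelian_rank_two {p : ℕ} [hp : Fact p.Prime] [Finite S] (hS : IsPGroup p S)
    {F : FusionSystem S} {H : Subgroup Ω} (hH : F.IsEssential p H)
    (hc : ∀ x y : H, x * y = y * x) (hidx : (frattini H).index ≤ p ^ 2) :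
    (Nat.card H = p ^ 2 ∧ ∀ x : H, x ^ p = 1) ∨
      (p ≤ 3 ∧ ∃ k : ℕ, Nonempty (H ≃* Multiplicative (ZMod (p ^ k) × ZMod (p ^ k)))) := by
  have hle := ess_le hH
  have : Finite H := finite_of_le hle
  have hHp : IsPGroup p H := hS.to_le hle
  let cg : CommGroup H := { (inferInstance : Group H) with mul_comm := hc }
  have hidx2 : (frattini H).index = p ^ 2 := by
    obtain ⟨h1, h2⟩ := ess_frattini_index hS hH
    obtain ⟨n, hn⟩ := IsPGroup.iff_card.1 hHp
    have h3 : (frattini H).index ∣ p ^ n := by rw [← hn]; exact Subgroup.index_dvd_card _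
    obtain ⟨r, -, hre⟩ := (Nat.dvd_prime_pow hp.out).1 h3
    have hr2 : r ≤ 2 := by
      rw [hre] at hidx
      exact (Nat.pow_le_pow_iff_right hp.out.one_lt).1 hidx
    interval_cases r
    · exact absurd hre (by simpa using h1)
    · exact absurd hre (by simpa using h2)
    · exact hre
  have hΦ : frattini H = (powMonoidHom p : H →* H).range := by
    apply le_antisymm
    · refine Cfsg.Agent.Lib.FrattiniPGroup.frattini_le (p := p) _ (fun x y => ?_) (fun x => ⟨x, rfl⟩)
      have : x * y * x⁻¹ * y⁻¹ = 1 := by rw [hc x y]; group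
      rw [commutatorElement_def, this]
      exact Subgroup.one_mem _
    · rintro _ ⟨x, rfl⟩
      exact Cfsg.Agent.Lib.FrattiniPGroup.pow_mem_frattini hHp x
  -- the exponent
  have hex : ∃ b : ℕ, ∀ x : H, x ^ p ^ b = 1 := by
    obtain ⟨n, hn⟩ := IsPGroup.iff_card.1 hHp
    exact ⟨n, fun x => by rw [← hn]; exact pow_card_eq_one'⟩
  classical
  obtain ⟨b, hb, hbmin⟩ : ∃ b : ℕ, (∀ x : H, x ^ p ^ b = 1) ∧ ∀ c < b, ¬ ∀ x : H, x ^ p ^ c = 1 :=
    ⟨Nat.find hex, Nat.find_spec hex, fun c hc => Nat.find_min hex hc⟩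
  have hb1 : 1 ≤ b := by
    by_contra hb0
    have hb0' : b = 0 := by omega
    subst hb0'
    have h1 : ∀ x : H, x = 1 := fun x => by simpa using hb x
    have h2 : frattini H = ⊤ := by
      rw [eq_top_iff]
      intro x _
      rw [h1 x]
      exact Subgroup.one_mem _
    rw [h2, Subgroup.index_top] at hidx2
    have := Nat.one_lt_pow two_ne_zero hp.out.one_lt
    omega
  let K : Subgroup H := (powMonoidHom (p ^ (b - 1)) : H →* H).ker
  have hKmem : ∀ x : H, x ∈ K ↔ x ^ p ^ (b - 1) = 1 := fun x => Iff.rfl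
  have hΦK : frattini H ≤ K := by
    rw [hΦ]
    rintro _ ⟨x, rfl⟩
    rw [hKmem]
    show (x ^ p) ^ p ^ (b - 1) = 1
    rw [← pow_mul, ← pow_succ']
    have : b - 1 + 1 = b := by omega
    rw [this]
    exact hb x
  have hKα : ∀ α ∈ F.autGroup H, ∀ x ∈ K, α x ∈ K := by
    intro α _ x hx
    rw [hKmem] at hx ⊢
    rw [← map_pow, hx, map_one]
  have hKtop : K.index ≠ 1 := by
    intro h
    rw [Subgroup.index_eq_one] at h
    refine hbmin (b - 1) (by omega) (fun x => ?_)
    have : x ∈ K := by rw [h]; exact Subgroup.mem_top x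
    exact this
  have hrel := Subgroup.relIndex_mul_index hΦK
  rw [hidx2] at hrel
  have hKidx : K.index = p ^ 2 := by
    have hdvd : K.index ∣ p ^ 2 := ⟨_, by rw [← hrel, mul_comm]⟩
    obtain ⟨r, hr, hre⟩ := (Nat.dvd_prime_pow hp.out).1 hdvd
    interval_cases r
    · exact absurd (by simpa using hre) hKtop
    · exfalso
      have h1 : K.index = p := by simpa using hre
      rw [h1, sq] at hrel
      have h2 := Nat.eq_of_mul_eq_mul_right hp.out.pos hrel
      exact ess_flag hS hH K hKα hΦK (Or.inr h1) (Or.inr h2)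
    · exact hre
  have hKeq : K ≤ frattini H := by
    rw [hKidx] at hrel
    have h1 : (frattini H).relIndex K = 1 :=
      Nat.eq_of_mul_eq_mul_right (pow_pos hp.out.pos 2) (by rw [hrel, one_mul])
    exact Subgroup.relIndex_eq_one.1 h1
  have hstar : ∀ x : H, x ^ p ^ (b - 1) = 1 → ∃ y : H, x = y ^ p := by
    intro x hx
    have h1 : x ∈ frattini H := hKeq hx
    rw [hΦ] at h1
    obtain ⟨y, hy⟩ := h1
    exact ⟨y, hy.symm⟩
  have hcard : Nat.card H = p ^ (2 * b) :=
    card_homocyclic b hb (by rw [← hΦ]; exact hidx2) hstar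
  by_cases hb2 : b = 1
  · left
    subst hb2
    refine ⟨by rw [hcard], fun x => by simpa using hb x⟩
  · by_cases hp5 : 5 ≤ p
    · exfalso
      obtain ⟨a, c, k, l, ha, hc', hak, hcl, hac⟩ := ess_exists_noncomm hH
      have hap := ess_pow_p_eq_one hS hH hc hidx2 ha hak
      obtain ⟨L, hΦL, hLa, hL1, hL2⟩ := exists_chain hHp hidx2 a hak
      let A : Module.End ℤ (Additive H) := (MonoidHom.toAdditive (a : H →* H)).toIntLinearMap
      have hAx : ∀ x : H, A (Additive.ofMul x) = Additive.ofMul (a x) := fun x => rfl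
      have hApow : ∀ (n : ℕ) (x : H), (A ^ n) (Additive.ofMul x) = Additive.ofMul ((a ^ n) x) := by
        intro n
        induction n with
        | zero => intro x; rfl
        | succ n ih =>
          intro x
          rw [pow_succ', Module.End.mul_apply, ih, hAx, pow_succ', MulAut.mul_apply]
      have hA1 : ∀ x : H, (A - 1) (Additive.ofMul x) = Additive.ofMul (x⁻¹ * a x) := by
        intro x
        rw [LinearMap.sub_apply, hAx]
        show Additive.ofMul (a x) - Additive.ofMul x = _
        rw [← ofMul_div, div_eq_mul_inv, hc]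
      have hres := end_trivial_mod hp.out hp5 b (fun m => hb m.toMul) (fun m hm => ?_) A ?_ ?_
      · have htriv : ∀ x : H, x⁻¹ * a x ∈ frattini H := by
          intro x
          obtain ⟨m', hm'⟩ := hres (Additive.ofMul x)
          rw [hA1] at hm'
          have h1 : x⁻¹ * a x = m'.toMul ^ p := hm'
          rw [h1]
          exact Cfsg.Agent.Lib.FrattiniPGroup.pow_mem_frattini hHp _
        obtain ⟨h, hh⟩ := ess_faithful hS hH ha htriv
        have ha1 : a = 1 := by
          rw [← hh]
          apply MulEquiv.ext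
          intro x
          rw [MulAut.conj_apply, hc h x, mul_inv_cancel_right]
          rfl
        apply hac
        rw [ha1, one_mul, mul_one]
      · obtain ⟨y, hy⟩ := hstar m.toMul (by
          have h1 : m.toMul ^ p = 1 := hm
          have h2 : b - 1 = 1 + (b - 1 - 1) := by omega
          rw [h2, pow_add, pow_mul, pow_one, h1, one_pow])
        exact ⟨Additive.ofMul y, hy⟩
      · refine LinearMap.ext fun m => ?_
        have h1 := hApow p m.toMul
        rw [hap] at h1
        exact h1
      · intro m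
        have h1 := hA1 m.toMul
        have h2 := hA1 (m.toMul⁻¹ * a m.toMul)
        have h3 := hL2 _ (hL1 m.toMul)
        rw [hΦ] at h3
        obtain ⟨y, hy⟩ := h3
        refine ⟨Additive.ofMul y, ?_⟩
        rw [sq, Module.End.mul_apply]
        have h4 : (A - 1) m = Additive.ofMul (m.toMul⁻¹ * a m.toMul) := h1
        rw [h4, h2, ← hy]
        rfl
    · right
      have hp3 : p ≤ 3 := by
        by_contra h
        have : p = 4 := by omega
        have := hp.out
        simp_all
        exact absurd this (by norm_num)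
      refine ⟨hp3, b, ?_⟩
      obtain ⟨T, -, hTc, hT⟩ := (Cfsg.Agent.S0014.result p 2 hHp hidx2).1 (Set.univ : Set H).toFinite.toFinset (by simp)
      obtain ⟨x, y, hxy, rfl⟩ := Finset.card_eq_two.1 hTc
      have : NeZero (p ^ b) := ⟨(pow_pos hp.out.pos b).ne'⟩
      refine iso_of_card (p ^ b) hb (by rw [hcard, mul_comm, pow_mul]) x y ?_
      rw [← hT]
      simp

end Cfsg.Agent.H766
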