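import Cfsg.Agent.H766.EssBasic
import Cfsg.Agent.Lib.DihedralRecog
import Cfsg.Agent.J2Type.ExtCube
import Cfsg.Prelude.Def_Transfer

/-!
# Essential subgroups of order `p³` (helper766)
-/

set_option autoImplicit false

namespace Cfsg.Agent.H766

open Cfsg Cfsg.FusionSystem Cfsg.Agent.H802
open scoped commutatorElement

/-- In a group where all commutators are central of order dividing `p` and `p` is odd, the `p`-th power map
is a homomorphism. -/
theorem mul_pow_of_central {P : Type*} [Group P] {p : ℕ} (hp : Odd p)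
    (hc : ∀ x y z : P, ⁅x, y⁆ * z = z * ⁅x, y⁆) (he : ∀ x y : P, ⁅x, y⁆ ^ p = 1) (x y : P) :
    (x * y) ^ p = x ^ p * y ^ p := by
  -- (x y)^n = x^n y^n [y,x]^(n choose 2)
  have hcp : ∀ (n : ℕ) (z : P), ⁅y, x⁆ ^ n * z = z * ⁅y, x⁆ ^ n := by
    intro n z
    have h1 : Commute (⁅y, x⁆ ^ n) z := Commute.pow_left (hc y x z) n
    exact h1
  have hyx : ∀ n : ℕ, y ^ n * x = x * y ^ n * ⁅y, x⁆ ^ n := by
    intro n
    induction n with
    | zero => simp
    | succ n ih =>
      have h1 : y * x = x * y * ⁅y, x⁆ := by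
        rw [mul_assoc, ← hc y x y, ← mul_assoc, ← hc y x x, commutatorElement_def]
        group
      rw [pow_succ, mul_assoc, h1, ← mul_assoc, ← mul_assoc, ih, pow_succ]
      rw [mul_assoc (x * y ^ n), hcp n y]
      simp only [mul_assoc]
  have key : ∀ n : ℕ, (x * y) ^ n = x ^ n * y ^ n * ⁅y, x⁆ ^ (n.choose 2) := by
    intro n
    induction n with
    | zero => simp
    | succ n ih =>
      rw [pow_succ, ih]
      calc x ^ n * y ^ n * ⁅y, x⁆ ^ n.choose 2 * (x * y)
          = x ^ n * (y ^ n * x) * y * ⁅y, x⁆ ^ n.choose 2 := by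
            rw [mul_assoc, hcp]
            simp only [mul_assoc]
        _ = x ^ n * (x * y ^ n * ⁅y, x⁆ ^ n) * y * ⁅y, x⁆ ^ n.choose 2 := by rw [hyx]
        _ = x ^ (n + 1) * y ^ (n + 1) * (⁅y, x⁆ ^ n * ⁅y, x⁆ ^ n.choose 2) := by
            have h2 := hcp n y
            simp only [pow_succ, mul_assoc]
            rw [← mul_assoc (⁅y, x⁆ ^ n) y, h2]
            simp only [mul_assoc]
        _ = _ := by
            rw [← pow_add]
            congr 2
            rw [Nat.choose_succ_succ' n 1, Nat.choose_one_right]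
  rw [key p]
  have h1 : p ∣ p.choose 2 := by
    obtain ⟨k, hk⟩ := hp
    rw [Nat.choose_two_right]
    have h2 : p * (p - 1) / 2 = p * k := by
      have h3 : p - 1 = 2 * k := by omega
      rw [h3, ← mul_assoc, mul_comm p 2, mul_assoc, Nat.mul_div_cancel_left _ (by norm_num)]
    rw [h2]
    exact dvd_mul_right _ _
  obtain ⟨k, hk⟩ := h1
  rw [hk, pow_mul, he, one_pow, mul_one]

variable {Ω : Type*} [Group Ω] {S : Subgroup Ω}

/-- Structure of a group of order `p³` whose Frattini subgroup has order `p`. -/
theorem frattini_central {P : Type*} [Group P] [Finite P] {p : ℕ} [hp : Fact p.Prime]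
    (hP : IsPGroup p P) (h : Nat.card (frattini P) = p) :
    (∀ z ∈ frattini P, ∀ x : P, z * x = x * z) ∧ (∀ z ∈ frattini P, z ^ p = 1) := by
  constructor
  · -- a normal subgroup of order p of a p-group is central
    intro z hz x
    obtain ⟨k, hk⟩ := hP x
    have hn : (frattini P).Normal := inferInstance
    have h1 := pAut_trivial_section (MulAut.conj x) (k := k) (p := p) (by
        rw [← map_pow, hk, map_one]) (L := ⊥) (K := frattini P) (by
        intro y hy
        rw [Subgroup.mem_bot] at hy ⊢
        rw [hy, map_one]) (fun y hy => hn.conj_mem y hy x) (Or.inr (by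
        rw [Subgroup.relIndex_bot_left]
        exact h)) z hz
    rw [Subgroup.mem_bot, MulAut.conj_apply] at h1
    have h2 : z = x * z * x⁻¹ := by
      have := inv_mul_eq_one.1 h1
      exact this
    calc z * x = (x * z * x⁻¹) * x := by rw [← h2]
      _ = x * z := by group
  · intro z hz
    have h1 : (⟨z, hz⟩ : frattini P) ^ Nat.card (frattini P) = 1 := pow_card_eq_one'
    rw [h] at h1
    exact congrArg Subtype.val h1

theorem ess_frattini_card_of_card_cube {p : ℕ} [hp : Fact p.Prime] [Finite S] (hS : IsPGroup p S)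
    {F : FusionSystem S} {H : Subgroup Ω} (hH : F.IsEssential p H) (hcard : Nat.card H = p ^ 3) :
    frattini H = ⊥ ∨ (Nat.card (frattini H) = p ∧ (frattini H).index = p ^ 2) := by
  have hle := ess_le hH
  have : Finite H := finite_of_le hle
  obtain ⟨h1, h2⟩ := ess_frattini_index hS hH
  have h3 : (frattini H).index ∣ p ^ 3 := by rw [← hcard]; exact Subgroup.index_dvd_card _
  obtain ⟨r, hr, hre⟩ := (Nat.dvd_prime_pow hp.out).1 h3
  have h4 := Subgroup.card_mul_index (frattini H)
  rw [hre, hcard] at h4
  interval_cases r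
  · exact absurd hre (by simpa using h1)
  · exact absurd hre (by simpa using h2)
  · right
    refine ⟨?_, hre⟩
    have h5 : 0 < p ^ 2 := pow_pos hp.out.pos 2
    exact Nat.eq_of_mul_eq_mul_right h5 (by rw [h4]; ring)
  · left
    rw [← Subgroup.card_eq_one]
    have h5 : 0 < p ^ 3 := pow_pos hp.out.pos 3
    exact Nat.eq_of_mul_eq_mul_right h5 (by rw [h4, one_mul])

/-- If the `p`-th power map of an essential subgroup of order `p³` is a homomorphism, it is trivial. -/
theorem ess_cube_exp {p : ℕ} [hp : Fact p.Prime] [Finite S] (hS : IsPGroup p S)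
    {F : FusionSystem S} {H : Subgroup Ω} (hH : F.IsEssential p H) (hcard : Nat.card H = p ^ 3)
    (hmul : ∀ x y : H, (x * y) ^ p = x ^ p * y ^ p) : ∀ x : H, x ^ p = 1 := by
  have hle := ess_le hH
  have : Finite H := finite_of_le hle
  have hHp : IsPGroup p H := hS.to_le hle
  rcases ess_frattini_card_of_card_cube hS hH hcard with h1 | ⟨h1, h2⟩
  · exact (mul_comm_of_frattini_eq_bot hHp h1).2
  let f : H →* H := MonoidHom.mk' (fun x => x ^ p) hmul
  have hf : ∀ x, f x = x ^ p := fun x => rfl
  have hr : f.range ≤ frattini H := by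
    rintro _ ⟨x, rfl⟩
    exact Cfsg.Agent.Lib.FrattiniPGroup.pow_mem_frattini hHp x
  have hrc : Nat.card f.range ∣ p := by
    have := Subgroup.card_dvd_of_le hr
    rwa [h1] at this
  have hker : Nat.card f.range * Nat.card f.ker = p ^ 3 := by
    rw [← hcard, ← Nat.card_congr (QuotientGroup.quotientKerEquivRange f).toEquiv]
    rw [Subgroup.card_eq_card_quotient_mul_card_subgroup f.ker]
  rcases (Nat.dvd_prime hp.out).1 hrc with h3 | h3
  · intro x
    have h4 : f.range = ⊥ := Subgroup.card_eq_one.1 h3
    have h5 : f x ∈ f.range := ⟨x, rfl⟩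
    rw [h4, Subgroup.mem_bot] at h5
    exact h5
  · exfalso
    have hΦK : frattini H ≤ f.ker := by
      intro z hz
      rw [MonoidHom.mem_ker, hf]
      exact (frattini_central hHp h1).2 z hz
    have hKc : Nat.card f.ker = p ^ 2 := by
      rw [h3] at hker
      exact Nat.eq_of_mul_eq_mul_left hp.out.pos (by rw [hker]; ring)
    refine ess_flag hS hH f.ker ?_ hΦK (Or.inr ?_) (Or.inr ?_)
    · intro α _ x hx
      rw [MonoidHom.mem_ker, hf] at hx ⊢
      rw [← map_pow, hx, map_one]
    · have := Subgroup.card_mul_index f.ker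
      rw [hKc, hcard] at this
      exact Nat.eq_of_mul_eq_mul_left (pow_pos hp.out.pos 2) (by rw [this]; ring)
    · have := Subgroup.relIndex_mul_index hΦK
      have h6 := Subgroup.card_mul_index f.ker
      rw [hKc, hcard] at h6
      have h7 : f.ker.index = p :=
        Nat.eq_of_mul_eq_mul_left (pow_pos hp.out.pos 2) (by rw [h6]; ring)
      rw [h7, h2, sq] at this
      exact Nat.eq_of_mul_eq_mul_right hp.out.pos this

/-- An essential subgroup of order `8` which is not abelian is a quaternion group. -/
theorem ess_eight [Finite S] (hS : IsPGroup 2 S)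
    {F : FusionSystem S} {H : Subgroup Ω} (hH : F.IsEssential 2 H) (hcard : Nat.card H = 2 ^ 3)
    (hne : ∃ x y : H, x * y ≠ y * x) : Nonempty (H ≃* QuaternionGroup 2) := by
  have hle := ess_le hH
  have : Finite H := finite_of_le hle
  have hHp : IsPGroup 2 H := hS.to_le hle
  have hp2 : Fact (Nat.Prime 2) := ⟨Nat.prime_two⟩
  have hex := Cfsg.Agent.J2Type.ExtCube.isExtraspecial_of_card_cube hcard hne
  obtain ⟨⟨-, hΦZ, hDZ⟩, hZc⟩ := hex
  obtain ⟨z, hz1, hzall⟩ : ∃ z : H, z ≠ 1 ∧ ∀ w ∈ Subgroup.center H, w = 1 ∨ w = z := by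
    obtain ⟨a, b, hab, huniv⟩ := Nat.card_eq_two_iff.1 hZc
    have h1 : (1 : Subgroup.center H) = a ∨ (1 : Subgroup.center H) = b := by
      have : (1 : Subgroup.center H) ∈ ({a, b} : Set (Subgroup.center H)) := by
        rw [huniv]
        trivial
      simpa using this
    have hall : ∀ w : Subgroup.center H, w = a ∨ w = b := by
      intro w
      have : w ∈ ({a, b} : Set (Subgroup.center H)) := by
        rw [huniv]
        trivial
      simpa using this
    rcases h1 with h1 | h1
    · refine ⟨b, fun h => hab ?_, fun w hw => ?_⟩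
      · rw [← h1]
        exact Subtype.ext h.symm
      · rcases hall ⟨w, hw⟩ with h2 | h2
        · left
          rw [← h1] at h2
          exact congrArg Subtype.val h2
        · right
          exact congrArg Subtype.val h2
    · refine ⟨a, fun h => hab ?_, fun w hw => ?_⟩
      · rw [← h1]
        exact Subtype.ext h
      · rcases hall ⟨w, hw⟩ with h2 | h2
        · right
          exact congrArg Subtype.val h2
        · left
          rw [← h1] at h2
          exact congrArg Subtype.val h2
  have hsq : ∀ x : H, x ^ 2 = 1 ∨ x ^ 2 = z := fun x => hzall _ (by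
    rw [← hΦZ]
    exact Cfsg.Agent.Lib.FrattiniPGroup.pow_mem_frattini hHp x)
  have hcomm : ∀ x y : H, ⁅x, y⁆ = 1 ∨ ⁅x, y⁆ = z := fun x y => hzall _ (by
    rw [← hDZ]
    exact Subgroup.commutator_mem_commutator (Subgroup.mem_top x) (Subgroup.mem_top y))
  have hncomm : ∀ x y : H, x * y ≠ y * x → x * y * x⁻¹ = z * y := by
    intro x y h
    rcases hcomm x y with h1 | h1
    · exact absurd (commutatorElement_eq_one_iff_mul_comm.1 h1) h
    · rw [← h1, commutatorElement_def]
      group
  have hzZ : z ∈ Subgroup.center H := by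
    obtain ⟨x, y, hxy⟩ := hne
    rcases hcomm x y with h1 | h1
    · exact absurd (commutatorElement_eq_one_iff_mul_comm.1 h1) hxy
    · rw [← hDZ, ← h1]
      exact Subgroup.commutator_mem_commutator (Subgroup.mem_top x) (Subgroup.mem_top y)
  have hzz : z * z = 1 := by
    have h1 := (frattini_central hHp (by rw [hΦZ]; exact hZc)).2 z (by rw [hΦZ]; exact hzZ)
    rwa [sq] at h1
  -- there is an element of order four
  obtain ⟨u, hu⟩ : ∃ u : H, u ^ 2 = z := by
    by_contra hcon
    push Not at hcon
    have h1 : ∀ x : H, x ^ 2 = 1 := fun x => (hsq x).resolve_right (hcon x)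
    obtain ⟨x, y, hxy⟩ := hne
    apply hxy
    have e1 := h1 (x * y)
    have e2 := h1 x
    have e3 := h1 y
    rw [sq] at e1 e2 e3
    calc x * y = x * (x * y * (x * y)) * y := by rw [e1]; group
      _ = (x * x) * y * x * (y * y) := by group
      _ = y * x := by rw [e2, e3]; group
  have hu4 : orderOf u = 4 := by
    have h1 : u ^ 2 ^ 2 = 1 := by
      have : u ^ 2 ^ 2 = u ^ 2 * u ^ 2 := by group
      rw [this, hu, hzz]
    have h2 : ¬ u ^ 2 ^ 1 = 1 := by
      rw [pow_one, hu]
      exact hz1
    have := orderOf_eq_prime_pow h2 h1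
    rw [this]
    norm_num
  have hucard : Nat.card (Subgroup.zpowers u) = 4 := by rw [Nat.card_zpowers, hu4]
  have huidx : (Subgroup.zpowers u).index = 2 := by
    have := Subgroup.card_mul_index (Subgroup.zpowers u)
    rw [hucard, hcard] at this
    omega
  by_cases hinv : ∃ x : H, x ^ 2 = 1 ∧ x ∉ Subgroup.center H
  · exfalso
    obtain ⟨x, hx2, hxZ⟩ := hinv
    have hxu : x ∉ Subgroup.zpowers u := by
      intro hx
      obtain ⟨n, hn⟩ := (mem_powers_iff_mem_zpowers (x := u)).2 hx
      have hn' : u ^ n = x := hn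
      have h1 : u ^ (n * 2) = 1 := by rw [pow_mul, hn', hx2]
      have h2 := orderOf_dvd_of_pow_eq_one h1
      rw [hu4] at h2
      have h3 : 2 ∣ n := by omega
      obtain ⟨m, rfl⟩ := h3
      apply hxZ
      rw [← hn', pow_mul, hu]
      exact Subgroup.pow_mem _ hzZ m
    have hxnu : x * u ≠ u * x := by
      intro hc
      -- then H would be abelian
      have hgen : ∀ y : H, y ∈ Subgroup.zpowers u ∨ x⁻¹ * y ∈ Subgroup.zpowers u := by
        intro y
        by_cases hy : y ∈ Subgroup.zpowers u
        · exact Or.inl hy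
        · right
          exact (Subgroup.mul_mem_iff_of_index_two huidx).2
            (iff_of_false (fun h => hxu ((Subgroup.inv_mem_iff _).1 h)) hy)
      apply hxZ
      rw [Subgroup.mem_center_iff]
      intro y
      have hxc : ∀ w ∈ Subgroup.zpowers u, w * x = x * w := by
        rintro w ⟨n, rfl⟩
        have h5 : Commute x u := hc
        exact (h5.zpow_right n).symm.eq
      rcases hgen y with h1 | h1
      · exact hxc y h1
      · have h2 := hxc _ h1
        calc y * x = x * ((x⁻¹ * y) * x) := by group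
          _ = x * (x * (x⁻¹ * y)) := by rw [h2]
          _ = x * y := by group
    -- x inverts u
    have hxu' : x * u * x⁻¹ = u⁻¹ := by
      rw [hncomm x u hxnu, ← hu]
      have h1 : u ^ 2 * u = u⁻¹ * (u ^ 2 * u ^ 2) := by group
      rw [h1, hu, hzz, mul_one]
    let C : Subgroup H := Subgroup.closure {y : H | y ^ 2 ≠ 1}
    have hCu : C ≤ Subgroup.zpowers u := by
      rw [Subgroup.closure_le]
      intro y hy
      by_contra hyu
      have h1 : x⁻¹ * y ∈ Subgroup.zpowers u :=
        (Subgroup.mul_mem_iff_of_index_two huidx).2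
            (iff_of_false (fun h => hxu ((Subgroup.inv_mem_iff _).1 h)) hyu)
      obtain ⟨n, hn⟩ := h1
      have hn' : u ^ n = x⁻¹ * y := hn
      apply hy
      have h2 : y = x * u ^ n := by rw [hn']; group
      have h3 : x * u ^ n * x⁻¹ = u ^ (-n) := by
        rw [← MulAut.conj_apply, map_zpow, MulAut.conj_apply, hxu']
        group
      have hxx : x * x = 1 := by rw [← sq]; exact hx2
      calc y ^ 2 = x * u ^ n * x⁻¹ * (x * x) * u ^ n := by rw [h2, sq]; group
        _ = 1 := by rw [h3, hxx]; group
    have hCeq : C = Subgroup.zpowers u := by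
      apply le_antisymm hCu
      rw [Subgroup.zpowers_le]
      apply Subgroup.subset_closure
      show u ^ 2 ≠ 1
      rw [hu]
      exact hz1
    have hΦC : frattini H ≤ C := by
      rw [hΦZ, hCeq]
      intro w hw
      rcases hzall w hw with rfl | rfl
      · exact Subgroup.one_mem _
      · rw [← hu]
        exact Subgroup.pow_mem _ (Subgroup.mem_zpowers u) 2
    refine ess_flag hS hH C ?_ hΦC (Or.inr ?_) (Or.inr ?_)
    · intro α _ w hw
      have h1 : C.map α.toMonoidHom ≤ C := by
        rw [MonoidHom.map_closure, Subgroup.closure_le]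
        rintro _ ⟨y, hy, rfl⟩
        apply Subgroup.subset_closure
        intro h
        apply hy
        have h2 : α (y ^ 2) = 1 := by rw [map_pow]; exact h
        exact (MulEquiv.map_eq_one_iff α).1 h2
      exact h1 ⟨w, hw, rfl⟩
    · rw [hCeq]
      exact huidx
    · have h1 := Subgroup.relIndex_mul_index hΦC
      have h2 := Subgroup.card_mul_index (frattini H)
      rw [hΦZ, hZc, hcard] at h2
      rw [hΦZ] at h1 ⊢
      rw [hCeq, huidx] at h1
      rw [hCeq]
      omega
  · push Not at hinv
    have hsq' : ∀ x : H, x ∉ Subgroup.center H → x ^ 2 = z := fun x hx =>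
      (hsq x).resolve_left (fun h => hx (hinv x h))
    obtain ⟨x, y, hxy⟩ := hne
    have hx : x ∉ Subgroup.center H := fun h => hxy (Subgroup.mem_center_iff.1 h y).symm
    have hy : y ∉ Subgroup.center H := fun h => hxy (Subgroup.mem_center_iff.1 h x)
    have hx2 := hsq' x hx
    have hy2 := hsq' y hy
    have hx4 : orderOf x = 2 * 2 := by
      have h1 : x ^ 2 ^ 2 = 1 := by
        have : x ^ 2 ^ 2 = x ^ 2 * x ^ 2 := by group
        rw [this, hx2, hzz]
      have h2 : ¬ x ^ 2 ^ 1 = 1 := by
        rw [pow_one, hx2]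
        exact hz1
      have := orderOf_eq_prime_pow h2 h1
      rw [this]
      norm_num
    refine Cfsg.Agent.Lib.DihedralRecog.quaternion_of_generators two_ne_zero x y hx4 ?_ ?_ ?_
      (by rw [hcard]; norm_num)
    · rw [← sq, hy2, hx2]
    · rw [hncomm y x (fun h => hxy h.symm), ← hx2]
      have h1 : x ^ 2 * x = x⁻¹ * (x ^ 2 * x ^ 2) := by group
      rw [h1, hx2, hzz, mul_one]
    · rintro ⟨n, hn⟩
      apply hxy
      have hn' : x ^ n = y := hn
      rw [← hn']
      exact (Commute.self_zpow x n).eq

end Cfsg.Agent.H766
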