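import Cfsg.Agent.H467.MaxClassUniform

/-!
# Weights of automorphisms on a group of maximal class (helper766)
-/

set_option autoImplicit false

namespace Cfsg.Agent.H766

open Cfsg.Agent.H467.MaxClass
open scoped commutatorElement

universe u

/-- If `z = ⁅A, B⁆` is central, `⁅A ^ m * U, B ^ l * V⁆ = z ^ (m * l)` for `U`, `V` suitable. -/
theorem comm_pow_core {Q : Type*} [Group Q] {A B U V : Q} (m l : ℕ) (hz : ∀ x, Commute ⁅A, B⁆ x)
    (hu : Commute U (B ^ l * V)) (hv : Commute (A ^ m) V) :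
    ⁅A ^ m * U, B ^ l * V⁆ = ⁅A, B⁆ ^ (m * l) := by
  have h1 : ⁅A ^ m * U, B ^ l * V⁆ = ⁅A ^ m, B ^ l⁆ := by
    rw [commutatorElement_def, commutatorElement_def]
    have e1 : A ^ m * U * (B ^ l * V) * (A ^ m * U)⁻¹ * (B ^ l * V)⁻¹ =
        A ^ m * (U * (B ^ l * V)) * U⁻¹ * (A ^ m)⁻¹ * (B ^ l * V)⁻¹ := by group
    rw [e1, hu.eq]
    have e2 : A ^ m * (B ^ l * V * U) * U⁻¹ * (A ^ m)⁻¹ * (B ^ l * V)⁻¹ =
        A ^ m * B ^ l * (V * (A ^ m)⁻¹) * V⁻¹ * (B ^ l)⁻¹ := by group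
    rw [e2, hv.inv_left.eq.symm]
    group
  rw [h1]
  have h2 : ∀ m : ℕ, ⁅A ^ m, B⁆ = ⁅A, B⁆ ^ m := by
    intro m
    induction m with
    | zero => simp
    | succ m ih =>
      have e : ⁅A ^ (m + 1), B⁆ = A * ⁅A ^ m, B⁆ * A⁻¹ * ⁅A, B⁆ := by
        rw [commutatorElement_def, commutatorElement_def, commutatorElement_def, pow_succ']
        group
      rw [e, ih, ((hz A).pow_left m).eq.symm, mul_inv_cancel_right, pow_succ]
  have h3 : ∀ l : ℕ, ⁅A ^ m, B ^ l⁆ = ⁅A, B⁆ ^ (m * l) := by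
    intro l
    induction l with
    | zero => simp
    | succ l ih =>
      have e : ⁅A ^ m, B ^ (l + 1)⁆ = ⁅A ^ m, B ^ l⁆ * (B ^ l * ⁅A ^ m, B⁆ * (B ^ l)⁻¹) := by
        rw [commutatorElement_def, commutatorElement_def, commutatorElement_def, pow_succ]
        group
      rw [e, ih, h2, ((hz (B ^ l)).pow_left m).eq.symm, mul_inv_cancel_right, ← pow_add]
      congr 1
  exact h3 l

variable {P : Type u} [Group P] {p n : ℕ} {W : ℕ → Subgroup P}

/-- `τ` acts on `W i / W (i + 1)` as the power `c`. -/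
def Wt (W : ℕ → Subgroup P) (τ : MulAut P) (i : ℕ) (c : ZMod p) : Prop :=
  ∀ g ∈ W i, (g ^ c.val)⁻¹ * τ g ∈ W (i + 1)

theorem pow_mem_succ (h : MC P p n W) [Fact p.Prime] {i : ℕ} (hi : i < n) {g : P} (hg : g ∈ W i) :
    g ^ p ∈ W (i + 1) := by
  have hn := h.normal (i + 1)
  have h1 : ((W (i + 1)).subgroupOf (W i)).index = p := h.relIndex i hi
  have h2 : (((⟨g, hg⟩ : W i) : W i ⧸ (W (i + 1)).subgroupOf (W i))) ^ p = 1 := by
    have h3 : Nat.card (W i ⧸ (W (i + 1)).subgroupOf (W i)) = p := h1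
    rw [← h3]
    exact pow_card_eq_one'
  rw [← QuotientGroup.mk_pow, QuotientGroup.eq_one_iff, Subgroup.mem_subgroupOf] at h2
  exact h2

theorem zpow_mem_of_dvd (h : MC P p n W) [hp : Fact p.Prime] {i : ℕ} (hi : i < n) {g : P}
    (hg : g ∈ W i) {k : ℤ} (hk : (p : ℤ) ∣ k) : g ^ k ∈ W (i + 1) := by
  obtain ⟨r, rfl⟩ := hk
  rw [zpow_mul, zpow_natCast]
  exact zpow_mem (pow_mem_succ h hi hg) r

theorem zpow_mem_iff (h : MC P p n W) [hp : Fact p.Prime] {i : ℕ} (hi : i < n) {g : P}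
    (hg : g ∈ W i) (hg' : g ∉ W (i + 1)) {k : ℤ} : g ^ k ∈ W (i + 1) ↔ (p : ℤ) ∣ k := by
  refine ⟨fun hk => ?_, zpow_mem_of_dvd h hi hg⟩
  by_contra hcon
  apply hg'
  have hcop : IsCoprime (p : ℤ) k :=
    (Nat.prime_iff_prime_int.1 hp.out).coprime_iff_not_dvd.2 hcon
  obtain ⟨a, b, hab⟩ := hcop
  have h1 : g = (g ^ (p : ℤ)) ^ a * (g ^ k) ^ b := by
    rw [← zpow_mul, ← zpow_mul, ← zpow_add]
    have : (p : ℤ) * a + k * b = 1 := by linarith
    rw [this, zpow_one]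
  rw [h1]
  refine mul_mem (zpow_mem ?_ a) (zpow_mem hk b)
  rw [zpow_natCast]
  exact pow_mem_succ h hi hg

theorem wt_zpow (h : MC P p n W) [hp : Fact p.Prime] {τ : MulAut P} {i : ℕ} (hi : i < n) {c : ZMod p}
    (hw : Wt W τ i c) {k : ℤ} (hk : (k : ZMod p) = c) {g : P} (hg : g ∈ W i) :
    (g ^ k)⁻¹ * τ g ∈ W (i + 1) := by
  have h1 := hw g hg
  have h2 : g ^ ((c.val : ℤ) - k) ∈ W (i + 1) := by
    apply zpow_mem_of_dvd h hi hg
    rw [← ZMod.intCast_zmod_eq_zero_iff_dvd]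
    push_cast
    rw [ZMod.natCast_zmod_val, hk, sub_self]
  have h3 : (g ^ k)⁻¹ * τ g = g ^ ((c.val : ℤ) - k) * ((g ^ c.val)⁻¹ * τ g) := by
    rw [← zpow_natCast g c.val, sub_eq_add_neg, add_comm, zpow_add]
    group
  rw [h3]
  exact mul_mem h2 h1

/-- It is enough to look at one element of `W i` outside `W (i + 1)`. -/
theorem wt_of_gen (h : MC P p n W) [hp : Fact p.Prime] {τ : MulAut P}
    (hτ : ∀ i, ∀ g ∈ W i, τ g ∈ W i) {i : ℕ} (hi : i < n) {c : ZMod p} {a : P} (ha : a ∈ W i)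
    (ha' : a ∉ W (i + 1)) {k : ℤ} (hk : (k : ZMod p) = c) (hak : (a ^ k)⁻¹ * τ a ∈ W (i + 1)) :
    Wt W τ i c := by
  have hn := h.normal (i + 1)
  intro g hg
  obtain ⟨r, hr⟩ := h.exists_zpow hi ha ha' hg
  let π : P →* P ⧸ W (i + 1) := QuotientGroup.mk' (W (i + 1))
  have hπ : ∀ x, π x = 1 ↔ x ∈ W (i + 1) := fun x => QuotientGroup.eq_one_iff x
  have e1 : π g = π a ^ r := by
    have := (hπ _).2 hr
    rw [map_mul, map_inv, map_zpow, inv_mul_eq_one] at this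
    exact this.symm
  have e2 : π (τ a) = π a ^ k := by
    have := (hπ _).2 hak
    rw [map_mul, map_inv, map_zpow, inv_mul_eq_one] at this
    exact this.symm
  have e3 : π (τ g) = π (τ a) ^ r := by
    have h1 := hτ (i + 1) _ hr
    have := (hπ _).2 h1
    rw [map_mul, map_inv, map_zpow, map_mul, map_inv, map_zpow, inv_mul_eq_one] at this
    exact this.symm
  have e4 : π a ^ (p : ℤ) = 1 := by
    rw [← map_zpow, hπ, zpow_natCast]
    exact pow_mem_succ h hi ha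
  rw [← hπ, map_mul, map_inv, map_pow, e3, e2, e1, inv_mul_eq_one, ← zpow_natCast, ← zpow_mul,
    ← zpow_mul]
  have e5 : (p : ℤ) ∣ r * (c.val : ℤ) - k * r := by
    rw [← ZMod.intCast_zmod_eq_zero_iff_dvd]
    push_cast
    rw [ZMod.natCast_zmod_val, hk]
    ring
  obtain ⟨s, hs⟩ := e5
  have e6 : r * (c.val : ℤ) = k * r + p * s := by rw [← hs]; ring
  rw [e6, zpow_add, zpow_mul _ (p : ℤ), e4, one_zpow, mul_one]

theorem wt_exists (h : MC P p n W) [hp : Fact p.Prime] {τ : MulAut P}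
    (hτ : ∀ i, ∀ g ∈ W i, τ g ∈ W i) {i : ℕ} (hi : i < n) : ∃ c : ZMod p, Wt W τ i c := by
  obtain ⟨a, ha, ha'⟩ := h.ne_succ hi
  obtain ⟨k, hk⟩ := h.exists_zpow hi ha ha' (hτ i a ha)
  exact ⟨(k : ZMod p), wt_of_gen h hτ hi ha ha' rfl hk⟩

/-- A weight is determined by one element. -/
theorem wt_eq (h : MC P p n W) [hp : Fact p.Prime] {τ : MulAut P} {i : ℕ} (hi : i < n)
    {c : ZMod p} (hw : Wt W τ i c) {a : P} (ha : a ∈ W i) (ha' : a ∉ W (i + 1)) {k : ℤ}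
    (hk : (a ^ k)⁻¹ * τ a ∈ W (i + 1)) : c = (k : ZMod p) := by
  have h1 := hw a ha
  have h2 := mul_mem h1 (inv_mem hk)
  have h3 : a ^ (k - (c.val : ℤ)) = (a ^ c.val)⁻¹ * τ a * ((a ^ k)⁻¹ * τ a)⁻¹ := by
    rw [← zpow_natCast a c.val, sub_eq_add_neg, add_comm, zpow_add]
    group
  rw [← h3, zpow_mem_iff h hi ha ha', ← ZMod.intCast_zmod_eq_zero_iff_dvd] at h2
  push_cast at h2
  rw [ZMod.natCast_zmod_val, sub_eq_zero] at h2
  exact h2.symm

theorem wt_unique (h : MC P p n W) [hp : Fact p.Prime] {τ : MulAut P} {i : ℕ} (hi : i < n)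
    {c d : ZMod p} (hc : Wt W τ i c) (hd : Wt W τ i d) : c = d := by
  obtain ⟨a, ha, ha'⟩ := h.ne_succ hi
  have := wt_eq h hi hc ha ha' (k := (d.val : ℤ)) (by rw [zpow_natCast]; exact hd a ha)
  rw [this]
  push_cast
  rw [ZMod.natCast_zmod_val]

/-- Weights are units. -/
theorem wt_ne_zero (h : MC P p n W) [hp : Fact p.Prime] {τ : MulAut P}
    (hτ' : ∀ i, ∀ g, τ g ∈ W i → g ∈ W i) {i : ℕ} (hi : i < n)
    {c : ZMod p} (hc : Wt W τ i c) : c ≠ 0 := by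
  rintro rfl
  obtain ⟨a, ha, ha'⟩ := h.ne_succ hi
  have h1 := hc a ha
  rw [ZMod.val_zero, pow_zero, inv_one, one_mul] at h1
  exact ha' (hτ' _ _ h1)

theorem wt_mul (h : MC P p n W) [hp : Fact p.Prime] {τ ρ : MulAut P}
    (hρ : ∀ i, ∀ g ∈ W i, ρ g ∈ W i) {i : ℕ} (hi : i < n)
    {c d : ZMod p} (hc : Wt W τ i c) (hd : Wt W ρ i d) : Wt W (τ * ρ) i (c * d) := by
  intro g hg
  have hn := h.normal (i + 1)
  -- compute with the quotient
  let π : P →* P ⧸ W (i + 1) := QuotientGroup.mk' (W (i + 1))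
  have hπ : ∀ x, π x = 1 ↔ x ∈ W (i + 1) := fun x => QuotientGroup.eq_one_iff x
  have e1 : π (τ (ρ g)) = π (ρ g) ^ c.val := by
    have := (hπ _).2 (hc (ρ g) (hρ i g hg))
    rw [map_mul, map_inv, map_pow, inv_mul_eq_one] at this
    exact this.symm
  have e2 : π (ρ g) = π g ^ d.val := by
    have := (hπ _).2 (hd g hg)
    rw [map_mul, map_inv, map_pow, inv_mul_eq_one] at this
    exact this.symm
  have e4 : π g ^ (p : ℤ) = 1 := by
    rw [← map_zpow, hπ, zpow_natCast]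
    exact pow_mem_succ h hi hg
  rw [← hπ, map_mul, map_inv, map_pow, MulAut.mul_apply, e1, e2, inv_mul_eq_one, ← pow_mul]
  have e5 : (p : ℤ) ∣ ((c * d).val : ℤ) - (d.val * c.val : ℕ) := by
    rw [← ZMod.intCast_zmod_eq_zero_iff_dvd]
    push_cast
    rw [ZMod.natCast_zmod_val, ZMod.natCast_zmod_val, ZMod.natCast_zmod_val]
    ring
  obtain ⟨s, hs⟩ := e5
  have e6 : ((c * d).val : ℤ) = (d.val * c.val : ℕ) + p * s := by rw [← hs]; ring
  rw [← zpow_natCast, ← zpow_natCast, e6, zpow_add, zpow_mul _ (p : ℤ), e4, one_zpow, mul_one]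

/-- **Commutator weights.** -/
theorem wt_pair (h : MC P p n W) [hp : Fact p.Prime] {τ : MulAut P} {i k : ℕ} (hk : k < n)
    {a b : P} (ha : a ∈ W i) {c e : ZMod p} (hc : Wt W τ i c) (he : Wt W τ k e)
    (hab : ⁅a, b⁆ ∈ W k) (hab' : ⁅a, b⁆ ∉ W (k + 1)) {l : ℕ} {v : P} (hb : τ b = b ^ l * v)
    (hu : ∀ u ∈ W (i + 1), ⁅u, b ^ l * v⁆ ∈ W (k + 1)) (hv : ∀ m : ℕ, ⁅a ^ m, v⁆ ∈ W (k + 1)) :
    e = c * l := by
  have hn := h.normal (k + 1)
  let π : P →* P ⧸ W (k + 1) := QuotientGroup.mk' (W (k + 1))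
  have hπ : ∀ x, π x = 1 ↔ x ∈ W (k + 1) := fun x => QuotientGroup.eq_one_iff x
  have hπc : ∀ x y, ⁅x, y⁆ ∈ W (k + 1) → Commute (π x) (π y) := by
    intro x y hxy
    rw [← commutatorElement_eq_one_iff_commute, ← map_commutatorElement, hπ]
    exact hxy
  obtain ⟨u, hu', e1⟩ : ∃ u ∈ W (i + 1), τ a = a ^ c.val * u := ⟨_, hc a ha, by group⟩
  have e2 : π (τ ⁅a, b⁆) = π ⁅a, b⁆ ^ (c.val * l) := by
    have e0 : π (τ ⁅a, b⁆) = ⁅π a ^ c.val * π u, π b ^ l * π v⁆ := by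
      rw [map_commutatorElement τ, e1, hb, map_commutatorElement, map_mul, map_mul, map_pow, map_pow]
    rw [e0, map_commutatorElement]
    apply comm_pow_core
    · intro x
      obtain ⟨x, rfl⟩ := QuotientGroup.mk'_surjective (W (k + 1)) x
      rw [← map_commutatorElement]
      exact hπc _ _ (h.comm_mem hab)
    · have := hπc _ _ (hu u hu')
      rwa [map_mul, map_pow] at this
    · have := hπc _ _ (hv c.val)
      rwa [map_pow] at this
  have e3 := wt_eq h hk he hab hab' (k := ((c.val * l : ℕ) : ℤ)) (by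
    rw [← hπ, map_mul, map_inv, zpow_natCast, map_pow, e2, inv_mul_cancel])
  rw [e3]
  push_cast
  rw [ZMod.natCast_zmod_val]

/-- **Power weights.** -/
theorem wt_pow (h : MC P p n W) [hp : Fact p.Prime] {τ : MulAut P} {i k : ℕ} (hk : k < n)
    {a : P} (ha : a ∈ W i) {c e : ZMod p} (hc : Wt W τ i c) (he : Wt W τ k e)
    (hap : a ^ p ∈ W k) (hap' : a ^ p ∉ W (k + 1))
    (hu : ∀ (m : ℕ), ∀ u ∈ W (i + 1), (a ^ (m * p))⁻¹ * (a ^ m * u) ^ p ∈ W (k + 1)) :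
    e = c := by
  set u := (a ^ c.val)⁻¹ * τ a with hudef
  have hu' : u ∈ W (i + 1) := hc a ha
  have e1 : τ a = a ^ c.val * u := by rw [hudef]; group
  have e3 := wt_eq h hk he hap hap' (k := (c.val : ℤ)) (by
    rw [zpow_natCast, ← pow_mul, map_pow, e1, mul_comm p]
    exact hu _ u hu')
  rw [e3]
  push_cast
  rw [ZMod.natCast_zmod_val]

end Cfsg.Agent.H766
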